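import Mathlib
import Cfsg.Prelude.Def_Solvable

/-!
# Groups generated by a class of subgroups of order `p` generating a fixed group in pairs

Basic notions: conjugate subgroups, subgroups `K ⋊ A`, the hypothesis `PairGen`, lines.
-/

set_option autoImplicit false
set_option linter.dupNamespace false
open scoped Pointwise

namespace Cfsg.Agent.H54.PairGen

universe u v

variable {G : Type u} [Group G]

/-- The conjugate subgroup `g A g⁻¹`. -/
def cj (g : G) (A : Subgroup G) : Subgroup G := A.map (MulAut.conj g).toMonoidHom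

theorem mem_cj {g x : G} {A : Subgroup G} : x ∈ cj g A ↔ g⁻¹ * x * g ∈ A := by
  constructor
  · rintro ⟨y, hy, rfl⟩
    simpa [mul_assoc] using hy
  · intro h
    exact ⟨_, h, by simp [mul_assoc]⟩

theorem conj_mem_cj {g x : G} {A : Subgroup G} (h : x ∈ A) : g * x * g⁻¹ ∈ cj g A :=
  ⟨x, h, rfl⟩

theorem cj_mul (g h : G) (A : Subgroup G) : cj (g * h) A = cj g (cj h A) := by
  ext x
  simp only [mem_cj, mul_inv_rev, mul_assoc]

theorem cj_one (A : Subgroup G) : cj 1 A = A := by ext x; simp [mem_cj]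

theorem cj_inv_cj (g : G) (A : Subgroup G) : cj g⁻¹ (cj g A) = A := by
  rw [← cj_mul, inv_mul_cancel, cj_one]

theorem cj_cj_inv (g : G) (A : Subgroup G) : cj g (cj g⁻¹ A) = A := by
  rw [← cj_mul, mul_inv_cancel, cj_one]

theorem cj_mono {g : G} {A B : Subgroup G} (h : A ≤ B) : cj g A ≤ cj g B := Subgroup.map_mono h

theorem cj_sup (g : G) (A B : Subgroup G) : cj g (A ⊔ B) = cj g A ⊔ cj g B := Subgroup.map_sup _ _ _

theorem cj_injective (g : G) : Function.Injective (cj (G := G) g) :=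
  Subgroup.map_injective (MulAut.conj g).injective

theorem card_cj (g : G) (A : Subgroup G) : Nat.card (cj g A) = Nat.card A :=
  Subgroup.card_map_of_injective (MulAut.conj g).injective

theorem cj_eq_iff {g : G} {A : Subgroup G} :
    cj g A = A ↔ g ∈ Subgroup.normalizer (A : Set G) :=
  Subgroup.mem_normalizer_iff_map_conj_eq.symm

theorem cj_eq_self_of_mem {g : G} {A : Subgroup G} (h : g ∈ A) : cj g A = A :=
  cj_eq_iff.2 (Subgroup.le_normalizer h)

theorem cj_le_of_mem {g : G} {A H : Subgroup G} (hA : A ≤ H) (hg : g ∈ H) : cj g A ≤ H :=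
  (cj_mono hA).trans (cj_eq_self_of_mem hg).le

/-- Subgroups of prime order are minimal. -/
theorem eq_of_le_of_card_prime [Finite G] {p : ℕ} (hp : p.Prime) {A B : Subgroup G}
    (hB : Nat.card B = p) (h : A ≤ B) (hA : A ≠ ⊥) : A = B := by
  rcases (Nat.dvd_prime hp).1 (hB ▸ Subgroup.card_dvd_of_le h) with h1 | h1
  · exact absurd (Subgroup.card_eq_one.1 h1) hA
  · exact Subgroup.eq_of_le_of_card_ge h (by rw [h1, hB])

theorem ne_bot_of_card_prime {p : ℕ} (hp : p.Prime) {A : Subgroup G} (hA : Nat.card A = p) :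
    A ≠ ⊥ := by
  rintro rfl
  rw [Subgroup.card_bot] at hA
  exact hp.ne_one hA.symm

theorem inf_eq_bot_of_not_le [Finite G] {p : ℕ} (hp : p.Prime) {A N : Subgroup G}
    (hA : Nat.card A = p) (h : ¬ A ≤ N) : A ⊓ N = ⊥ := by
  by_contra hne
  exact h ((eq_of_le_of_card_prime hp hA inf_le_left hne).ge.trans inf_le_right)

theorem eq_zpowers_of_card_prime [Finite G] {p : ℕ} (hp : p.Prime) {A : Subgroup G}
    (hA : Nat.card A = p) {a : G} (ha : a ∈ A) (ha1 : a ≠ 1) : A = Subgroup.zpowers a :=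
  (eq_of_le_of_card_prime hp hA (Subgroup.zpowers_le.2 ha)
    (Subgroup.zpowers_ne_bot.2 ha1)).symm

theorem exists_gen {p : ℕ} (hp : p.Prime) {A : Subgroup G} (hA : Nat.card A = p) :
    ∃ a ∈ A, a ≠ 1 :=
  (Subgroup.ne_bot_iff_exists_ne_one.1 (ne_bot_of_card_prime hp hA)).elim fun a ha =>
    ⟨a, a.2, fun h => ha (Subtype.ext h)⟩

/-- `H` is the semidirect product of the normal `q`-subgroup `K` by `A`. -/
structure IsKA (q : ℕ) (H A K : Subgroup G) : Prop where
  pgroup : IsPGroup q K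
  sup_eq : K ⊔ A = H
  norm : H ≤ Subgroup.normalizer (K : Set G)

namespace IsKA

variable {q : ℕ} {H A K : Subgroup G}

theorem le_K (h : IsKA q H A K) : K ≤ H := h.sup_eq ▸ le_sup_left

theorem le_A (h : IsKA q H A K) : A ≤ H := h.sup_eq ▸ le_sup_right

theorem exists_mul (h : IsKA q H A K) {x : G} (hx : x ∈ H) : ∃ k ∈ K, ∃ a ∈ A, k * a = x := by
  have h1 : ((K ⊔ A : Subgroup G) : Set G) = (K : Set G) * A :=
    Subgroup.coe_mul_of_right_le_normalizer_left K A (h.le_A.trans h.norm)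
  have h2 : x ∈ ((K ⊔ A : Subgroup G) : Set G) := by rw [h.sup_eq]; exact hx
  rw [h1] at h2
  obtain ⟨k, hk, a, ha, e⟩ := Set.mem_mul.1 h2
  exact ⟨k, hk, a, ha, e⟩

variable [Finite G] {p : ℕ}

theorem inf_eq_bot (h : IsKA q H A K) (hp : p.Prime) (hq : q.Prime) (hpq : p ≠ q)
    (hA : Nat.card A = p) : K ⊓ A = ⊥ := by
  haveI := Fact.mk hq
  obtain ⟨n, hn⟩ := h.pgroup.exists_card_eq
  refine Subgroup.inf_eq_bot_of_coprime ?_
  rw [hn, hA]
  exact ((Nat.coprime_primes hq hp).2 (Ne.symm hpq)).pow_left n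

theorem mem_K (h : IsKA q H A K) (hp : p.Prime) (hq : q.Prime) (hpq : p ≠ q)
    (hA : Nat.card A = p) {x : G} (hx : x ∈ H) {n : ℕ} (hn : x ^ q ^ n = 1) : x ∈ K := by
  obtain ⟨k, hk, a, ha, rfl⟩ := h.exists_mul hx
  -- the class of `x` modulo `K` is that of `a`
  have hpow : ∀ m : ℕ, (k * a) ^ m * (a ^ m)⁻¹ ∈ K := by
    intro m
    induction m with
    | zero => simp
    | succ m ih =>
      have hnorm : ∀ y ∈ K, a ^ m * y * (a ^ m)⁻¹ ∈ K := fun y hy =>
        (Subgroup.mem_normalizer_iff.1 (h.norm (h.le_A (A.pow_mem ha m))) y).1 hy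
      have h1 := mul_mem ih (hnorm k hk)
      convert h1 using 1
      rw [pow_succ, pow_succ]; group
  have h1 := hpow (q ^ n)
  rw [hn, one_mul, inv_mem_iff] at h1
  have h2 : a ^ q ^ n = 1 :=
    Subgroup.mem_bot.1 ((h.inf_eq_bot hp hq hpq hA).le ⟨h1, A.pow_mem ha _⟩)
  have h3 : a = 1 := by
    have hd1 := orderOf_dvd_of_pow_eq_one h2
    have hd2 : orderOf a ∣ p := hA ▸ Subgroup.orderOf_dvd_natCard A ha
    exact orderOf_eq_one_iff.1 (Nat.dvd_one.1
      (((Nat.coprime_primes hq hp).2 (Ne.symm hpq)).pow_left n ▸ Nat.dvd_gcd hd1 hd2))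
  rw [h3, mul_one]
  exact hk

theorem le_K_of_isPGroup (h : IsKA q H A K) (hp : p.Prime) (hq : q.Prime) (hpq : p ≠ q)
    (hA : Nat.card A = p) {S : Subgroup G} (hS : IsPGroup q S) (hSH : S ≤ H) : S ≤ K := by
  intro x hx
  obtain ⟨n, hn⟩ := hS ⟨x, hx⟩
  exact h.mem_K hp hq hpq hA (hSH hx) (by simpa using congrArg Subtype.val hn)

theorem unique (h : IsKA q H A K) (hp : p.Prime) (hq : q.Prime) (hpq : p ≠ q)
    (hA : Nat.card A = p) {A' K' : Subgroup G} (hA' : Nat.card A' = p) (h' : IsKA q H A' K') :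
    K = K' :=
  le_antisymm (h'.le_K_of_isPGroup hp hq hpq hA' h.pgroup h.le_K)
    (h.le_K_of_isPGroup hp hq hpq hA h'.pgroup h'.le_K)

theorem card_eq (h : IsKA q H A K) (hp : p.Prime) (hq : q.Prime) (hpq : p ≠ q)
    (hA : Nat.card A = p) : Nat.card H = Nat.card K * p := by
  rw [← hA, ← Nat.card_prod]
  refine (Nat.card_congr (Equiv.ofBijective
    (fun x : K × A => (⟨x.1 * x.2, mul_mem (h.le_K x.1.2) (h.le_A x.2.2)⟩ : H)) ⟨?_, ?_⟩)).symm
  · rintro ⟨k, a⟩ ⟨k', a'⟩ e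
    have e1 : (k : G) * a = k' * a' := congrArg Subtype.val e
    have h1 : (k' : G)⁻¹ * k = a' * (a : G)⁻¹ := by
      rw [eq_mul_inv_iff_mul_eq, mul_assoc, e1, inv_mul_cancel_left]
    have h2 : (k' : G)⁻¹ * k = 1 := Subgroup.mem_bot.1 ((h.inf_eq_bot hp hq hpq hA).le
      (Subgroup.mem_inf.2 ⟨K.mul_mem (K.inv_mem k'.2) k.2,
        h1 ▸ A.mul_mem a'.2 (A.inv_mem a.2)⟩))
    have h3 : (k : G) = k' := (inv_mul_eq_one.1 h2).symm
    rw [h3] at e1
    exact Prod.ext (Subtype.ext h3) (Subtype.ext (mul_left_cancel e1))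
  · rintro ⟨x, hx⟩
    obtain ⟨k, hk, a, ha, e⟩ := h.exists_mul hx
    exact ⟨(⟨k, hk⟩, ⟨a, ha⟩), Subtype.ext e⟩

/-- The subgroups of order `p` of `H` are the conjugates of `A` by elements of `K`. -/
theorem exists_cj (h : IsKA q H A K) (hp : p.Prime) (hq : q.Prime) (hpq : p ≠ q)
    (hA : Nat.card A = p) {B : Subgroup G} (hB : Nat.card B = p) (hBH : B ≤ H) :
    ∃ k ∈ K, B = cj k A := by
  haveI := Fact.mk hp
  haveI := Fact.mk hq
  have hcH := h.card_eq hp hq hpq hA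
  obtain ⟨n, hn⟩ := h.pgroup.exists_card_eq
  have key : ∀ C : Subgroup G, Nat.card C = p → C ≤ H →
      ∃ P : Sylow p H, (P : Subgroup H) = C.subgroupOf H := by
    intro C hC hCH
    have hc : Nat.card (C.subgroupOf H) = p := by
      rw [Nat.card_congr (Subgroup.subgroupOfEquivOfLe hCH).toEquiv, hC]
    obtain ⟨P, hP⟩ := (IsPGroup.of_card (n := 1) (by rw [hc, pow_one]) :
      IsPGroup p (C.subgroupOf H)).exists_le_sylow
    refine ⟨P, (Subgroup.eq_of_le_of_card_ge hP ?_).symm⟩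
    obtain ⟨j, hj⟩ := P.isPGroup'.exists_card_eq
    have hdvd := Subgroup.card_subgroup_dvd_card (P : Subgroup H)
    rw [hj, hcH, hn] at hdvd
    have h1 : p ^ j ∣ p :=
      (Nat.Coprime.pow_left j (((Nat.coprime_primes hp hq).2 hpq).pow_right n)).dvd_of_dvd_mul_left hdvd
    rw [hj, hc]
    exact Nat.le_of_dvd hp.pos h1
  obtain ⟨P, hP⟩ := key A hA h.le_A
  obtain ⟨P', hP'⟩ := key B hB hBH
  obtain ⟨g, hg⟩ := MulAction.exists_smul_eq H P P'
  obtain ⟨k, hk, a, ha, e⟩ := h.exists_mul g.2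
  refine ⟨k, hk, ?_⟩
  have h1 : B = cj (g : G) A := by
    refine (Subgroup.eq_of_le_of_card_ge ?_ (by rw [hB, card_cj, hA])).symm
    intro x hx
    have hxH : x ∈ H := cj_le_of_mem h.le_A g.2 hx
    have h2 : (⟨x, hxH⟩ : H) ∈ (P' : Subgroup H) := by
      rw [← hg, Sylow.coe_subgroup_smul]
      refine ⟨⟨(g : G)⁻¹ * x * g, h.le_A (mem_cj.1 hx)⟩, ?_, Subtype.ext ?_⟩
      · show _ ∈ (P : Subgroup H)
        rw [hP, Subgroup.mem_subgroupOf]
        exact mem_cj.1 hx
      · simp [mul_assoc]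
    rwa [hP', Subgroup.mem_subgroupOf] at h2
  rw [h1, ← e, cj_mul, cj_eq_self_of_mem ha]

theorem commute_of_cj_eq (h : IsKA q H A K) (hp : p.Prime) (hq : q.Prime) (hpq : p ≠ q)
    (hA : Nat.card A = p) {k a : G} (hk : k ∈ K) (ha : a ∈ A) (hfix : cj k A = A) :
    Commute k a := by
  have h1 : k * a * k⁻¹ * a⁻¹ ∈ A := mul_mem (hfix ▸ conj_mem_cj ha) (inv_mem ha)
  have h2 : k * a * k⁻¹ * a⁻¹ ∈ K := by
    have := mul_mem hk ((Subgroup.mem_normalizer_iff.1 (h.norm (h.le_A ha)) k⁻¹).1 (inv_mem hk))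
    convert this using 1
    group
  have h3 := Subgroup.mem_bot.1 ((h.inf_eq_bot hp hq hpq hA).le ⟨h2, h1⟩)
  rw [mul_inv_eq_one, mul_inv_eq_iff_eq_mul] at h3
  exact h3

theorem cj_eq_of_commute {k a : G} (hp : p.Prime) (hA : Nat.card A = p) (ha : a ∈ A)
    (ha1 : a ≠ 1) (hc : Commute k a) : cj k A = A := by
  rw [eq_zpowers_of_card_prime hp hA ha ha1]
  refine Subgroup.eq_of_le_of_card_ge ?_ (by rw [card_cj])
  intro x hx
  obtain ⟨y, ⟨i, rfl⟩, rfl⟩ := hx
  refine ⟨i, ?_⟩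
  show a ^ i = k * a ^ i * k⁻¹
  rw [(hc.zpow_right i).eq, mul_inv_cancel_right]

/-- Normalising subgroups of order `p` by `H`-conjugation. -/
theorem cj_isKA (h : IsKA q H A K) (g : G) : IsKA q (cj g H) (cj g A) (cj g K) where
  pgroup := h.pgroup.map _
  sup_eq := by rw [← cj_sup, h.sup_eq]
  norm := by
    intro x hx
    rw [Subgroup.mem_normalizer_iff]
    intro y
    have h1 := Subgroup.mem_normalizer_iff.1 (h.norm (mem_cj.1 hx)) (g⁻¹ * y * g)
    rw [mem_cj, mem_cj]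
    convert h1 using 2
    group

theorem change_point (h : IsKA q H A K) {k : G} (hk : k ∈ K) : IsKA q H (cj k A) K := by
  have h1 := h.cj_isKA k
  rwa [cj_eq_self_of_mem (h.le_K hk), cj_eq_self_of_mem hk] at h1

theorem cj_K_eq (h : IsKA q H A K) (hp : p.Prime) (hq : q.Prime) (hpq : p ≠ q)
    (hA : Nat.card A = p) {g : G} (hg : cj g H = H) : cj g K = K := by
  have h1 := h.cj_isKA g
  rw [hg] at h1
  exact (h.unique hp hq hpq hA (by rw [card_cj, hA]) h1).symm

/-- A subgroup of `K` invariant under `A` that contains all commutators with `A` is all of `K`,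
provided `H` is generated by its conjugates of `A`. -/
theorem eq_of_commutator_mem (h : IsKA q H A K) (hp : p.Prime) (hq : q.Prime) (hpq : p ≠ q)
    (hA : Nat.card A = p) {D : Set (Subgroup G)} (hD : ∀ B ∈ D, Nat.card B = p)
    (hgen : H ≤ sSup {B | B ∈ D ∧ B ≤ H}) {S : Subgroup G} (hSK : S ≤ K)
    (hSA : A ≤ Subgroup.normalizer (S : Set G))
    (hcomm : ∀ k ∈ K, ∀ a ∈ A, a * k * a⁻¹ * k⁻¹ ∈ S) : S = K := by
  have h1 : IsKA q (S ⊔ A) A S := ⟨h.pgroup.to_le hSK, rfl,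
    sup_le Subgroup.le_normalizer hSA⟩
  refine le_antisymm hSK fun x hx => ?_
  refine h1.le_K_of_isPGroup hp hq hpq hA h.pgroup (h.le_K.trans (hgen.trans (sSup_le ?_))) hx
  rintro B ⟨hB, hBH⟩
  obtain ⟨k, hk, rfl⟩ := h.exists_cj hp hq hpq hA (hD B hB) hBH
  intro y hy
  have ha := mem_cj.1 hy
  have e : y = (k⁻¹ * y * k * k * (k⁻¹ * y * k)⁻¹ * k⁻¹)⁻¹ * (k⁻¹ * y * k) := by group
  rw [e]
  exact mul_mem (Subgroup.mem_sup_left (inv_mem (hcomm k hk _ ha))) (Subgroup.mem_sup_right ha)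

/-- An involution normalising `H` fixes a conjugate of `A`. -/
theorem exists_fixed_point (h : IsKA q H A K) (hp : p.Prime) (hq : q.Prime) (hpq : p ≠ q)
    (hq2 : q ≠ 2) (hA : Nat.card A = p) {t : G} (ht : t * t = 1) (htH : cj t H = H) :
    ∃ k ∈ K, cj t (cj k A) = cj k A := by
  classical
  haveI := Fact.mk hq
  haveI := Fintype.ofFinite G
  set N : Subgroup K := (Subgroup.normalizer (A : Set G)).subgroupOf K with hN
  have hbij : ∀ k k' : K, (k : G)⁻¹ * k' ∈ Subgroup.normalizer (A : Set G) ↔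
      cj (k : G) A = cj (k' : G) A := by
    intro k k'
    rw [← cj_eq_iff, cj_mul]
    constructor
    · intro e
      conv_lhs => rw [← e]
      rw [cj_cj_inv]
    · intro e
      rw [← e, cj_inv_cj]
  set S : Finset (Subgroup G) := (Set.toFinite (Set.range fun k : K => cj (k : G) A)).toFinset
    with hS
  have hcard : S.card = Nat.card (K ⧸ N) := by
    rw [← Set.ncard_eq_toFinset_card _ (Set.toFinite _), ← Nat.card_coe_set_eq]
    refine (Nat.card_congr (Equiv.ofBijective (fun x : K ⧸ N => (⟨Quotient.liftOn' x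
      (fun k : K => cj (k : G) A) (fun k k' hkk => (hbij k k').1 ?_), ?_⟩ :
        Set.range fun k : K => cj (k : G) A)) ⟨?_, ?_⟩)).symm
    · rw [QuotientGroup.leftRel_apply] at hkk
      simpa [hN, Subgroup.mem_subgroupOf] using hkk
    · induction x using Quotient.inductionOn' with
      | h k => exact ⟨k, rfl⟩
    · intro x y
      induction x using Quotient.inductionOn' with
      | h k =>
        induction y using Quotient.inductionOn' with
        | h k' =>
          intro e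
          refine Quotient.sound' (QuotientGroup.leftRel_apply.2 ?_)
          rw [hN, Subgroup.mem_subgroupOf]
          exact (hbij k k').2 (congrArg Subtype.val e)
    · rintro ⟨_, k, rfl⟩
      exact ⟨Quotient.mk'' k, rfl⟩
  have hodd : Odd S.card := by
    obtain ⟨n, hn⟩ := h.pgroup.exists_card_eq
    refine Odd.of_dvd_nat ?_ (hcard ▸ Subgroup.card_quotient_dvd_card N)
    rw [hn]
    exact (hq.odd_of_ne_two hq2).pow
  have hK : cj t K = K := h.cj_K_eq hp hq hpq hA htH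
  have hmaps : ∀ B ∈ S, cj t B ∈ S := by
    intro B hB
    rw [hS, Set.Finite.mem_toFinset] at hB ⊢
    obtain ⟨k, rfl⟩ := hB
    obtain ⟨k', hk', e⟩ := h.exists_cj hp hq hpq hA (B := cj t (cj (k : G) A))
      (by rw [card_cj, card_cj, hA]) (htH ▸ cj_mono (cj_le_of_mem h.le_A (h.le_K k.2)))
    exact ⟨⟨k', hk'⟩, e.symm⟩
  by_contra hcon
  push_neg at hcon
  have hsum : ∑ _B ∈ S, (1 : ZMod 2) = 0 := by
    refine Finset.sum_involution (fun B _ => cj t B) (fun _ _ => by decide) ?_ hmaps ?_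
    · intro B hB _
      rw [hS, Set.Finite.mem_toFinset] at hB
      obtain ⟨k, rfl⟩ := hB
      exact hcon k k.2
    · intro B _
      rw [← cj_mul, ht, cj_one]
  rw [Finset.sum_const, nsmul_one, ZMod.natCast_eq_zero_iff_even] at hsum
  exact Nat.not_even_iff_odd.2 hodd hsum

end IsKA

/-- `q`-elements commute with each other. -/
def QAbelian (q : ℕ) (H : Type v) [Group H] : Prop :=
  ∀ x y : H, (∃ n : ℕ, x ^ q ^ n = 1) → (∃ n : ℕ, y ^ q ^ n = 1) → Commute x y

/-- `D` is an invariant set of subgroups of order `p` in pairs generating `F`, which has a normal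
`q`-subgroup of index `p`. -/
structure PairGen (G : Type u) [Group G] (p q : ℕ) (D : Set (Subgroup G)) (F : Type v) [Group F] :
    Prop where
  hp : p.Prime
  hp2 : p ≠ 2
  hq : q.Prime
  hq2 : q ≠ 2
  hpq : p ≠ q
  card : ∀ A ∈ D, Nat.card A = p
  conj : ∀ A ∈ D, ∀ g : G, cj g A ∈ D
  iso : ∀ A ∈ D, ∀ B ∈ D, A ≠ B → Nonempty (↥(A ⊔ B) ≃* F)
  kernel : ∃ Q : Subgroup F, Q.Normal ∧ IsPGroup q Q ∧ Q ≠ ⊥ ∧ Nat.card F = Nat.card Q * p

/-- The members of `D` inside `H` generate `H`. -/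
def IsGenBy (D : Set (Subgroup G)) (H : Subgroup G) : Prop :=
  H ≤ sSup {B | B ∈ D ∧ B ≤ H}

theorem isGenBy_sSup {D S : Set (Subgroup G)} (h : S ⊆ D) : IsGenBy D (sSup S) :=
  sSup_le fun B hB => le_sSup ⟨h hB, le_sSup hB⟩

namespace PairGen

variable {p q : ℕ} {D : Set (Subgroup G)} {F : Type v} [Group F] [Finite G]

theorem line_eq (h : PairGen G p q D F) {A B A' B' : Subgroup G} (hA : A ∈ D) (hB : B ∈ D)
    (hAB : A ≠ B) (hA' : A' ∈ D) (hB' : B' ∈ D) (hAB' : A' ≠ B') (h1 : A' ≤ A ⊔ B)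
    (h2 : B' ≤ A ⊔ B) : A' ⊔ B' = A ⊔ B := by
  obtain ⟨e⟩ := h.iso A hA B hB hAB
  obtain ⟨e'⟩ := h.iso A' hA' B' hB' hAB'
  exact Subgroup.eq_of_le_of_card_ge (sup_le h1 h2)
    (by rw [Nat.card_congr e.toEquiv, Nat.card_congr e'.toEquiv])

/-- A line is a nontrivial normal `q`-subgroup extended by any of its points. -/
theorem line (h : PairGen G p q D F) {A B : Subgroup G} (hA : A ∈ D) (hB : B ∈ D)
    (hAB : A ≠ B) : ∃ Q : Subgroup G, Q ≠ ⊥ ∧ IsKA q (A ⊔ B) A Q := by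
  haveI := Fact.mk h.hq
  obtain ⟨e⟩ := h.iso A hA B hB hAB
  obtain ⟨Q₀, hQn, hQp, hQ1, hQc⟩ := h.kernel
  set Q : Subgroup G := (Q₀.comap e.toMonoidHom).map (A ⊔ B).subtype with hQ
  have hcQ : Nat.card Q = Nat.card Q₀ := by
    rw [hQ, Subgroup.card_map_of_injective (Subgroup.subtype_injective _)]
    exact Nat.card_congr (Equiv.subtypeEquiv e.toEquiv fun _ => Iff.rfl)
  have hle : Q ≤ A ⊔ B := Subgroup.map_subtype_le _
  have hnorm : A ⊔ B ≤ Subgroup.normalizer (Q : Set G) := by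
    intro x hx
    haveI := hQn.comap e.toMonoidHom
    rw [Subgroup.mem_normalizer_iff]
    intro y
    constructor
    · rintro ⟨z, hz, rfl⟩
      exact ⟨⟨x, hx⟩ * z * ⟨x, hx⟩⁻¹, this.conj_mem z hz _, rfl⟩
    · rintro ⟨z, hz, e1⟩
      refine ⟨⟨x, hx⟩⁻¹ * z * ⟨x, hx⟩, by simpa using this.conj_mem z hz ⟨x, hx⟩⁻¹, ?_⟩
      show x⁻¹ * (z : G) * x = y
      rw [show (z : G) = x * y * x⁻¹ from e1]; group
  have hQp' : IsPGroup q Q :=
    (hQp.comap_of_injective e.toMonoidHom e.injective).map _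
  refine ⟨Q, fun hb => hQ1 (Subgroup.card_eq_one.1 (by rw [← hcQ, hb, Subgroup.card_bot])),
    hQp', ?_, hnorm⟩
  have h1 : IsKA q (Q ⊔ A) A Q := ⟨hQp', rfl,
    sup_le Subgroup.le_normalizer (le_sup_left.trans hnorm)⟩
  refine Subgroup.eq_of_le_of_card_ge (sup_le hle le_sup_left) ?_
  rw [Nat.card_congr e.toEquiv, hQc, h1.card_eq h.hp h.hq h.hpq (h.card A hA), hcQ]

theorem exists_conj (h : PairGen G p q D F) {A B : Subgroup G} (hA : A ∈ D) (hB : B ∈ D) :
    ∃ g : G, B = cj g A := by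
  rcases eq_or_ne A B with rfl | hAB
  · exact ⟨1, (cj_one A).symm⟩
  obtain ⟨Q, -, hQ⟩ := h.line hA hB hAB
  obtain ⟨k, -, e⟩ := hQ.exists_cj h.hp h.hq h.hpq (h.card A hA) (h.card B hB) le_sup_right
  exact ⟨k, e⟩

/-- Distinct members of `D` do not commute. -/
theorem not_commute (h : PairGen G p q D F) {A B : Subgroup G} (hA : A ∈ D) (hB : B ∈ D)
    (hAB : A ≠ B) {a b : G} (ha : a ∈ A) (ha1 : a ≠ 1) (hb : b ∈ B) (hb1 : b ≠ 1) :
    ¬ Commute a b := by
  intro hc
  obtain ⟨Q, -, hQ⟩ := h.line hA hB hAB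
  obtain ⟨k, hk, e⟩ := hQ.exists_cj h.hp h.hq h.hpq (h.card A hA) (h.card B hB) le_sup_right
  subst e
  -- `B` centralizes `a`, so normalizes `A`
  have h1 : cj b A = A :=
    IsKA.cj_eq_of_commute h.hp (h.card A hA) ha ha1 hc.symm
  have h2 : cj k A ≤ Subgroup.normalizer (A : Set G) := by
    rw [eq_zpowers_of_card_prime h.hp (h.card _ hB) hb hb1, Subgroup.zpowers_le]
    exact cj_eq_iff.1 h1
  have h3 : A ⊔ cj k A ≤ Subgroup.normalizer (A : Set G) := sup_le Subgroup.le_normalizer h2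
  exact hAB (cj_eq_iff.2 (h3 (hQ.le_K hk))).symm

theorem normalClosure_eq_top (h : PairGen G p q D F) (hgen : sSup D = ⊤) {A : Subgroup G}
    (hA : A ∈ D) {a : G} (ha : a ∈ A) (ha1 : a ≠ 1) :
    Subgroup.normalClosure ({a} : Set G) = ⊤ := by
  rw [← top_le_iff, ← hgen]
  refine sSup_le fun B hB => ?_
  obtain ⟨g, rfl⟩ := h.exists_conj hA hB
  intro x hx
  have h1 : g⁻¹ * x * g ∈ Subgroup.normalClosure ({a} : Set G) := by
    have := mem_cj.1 hx
    rw [eq_zpowers_of_card_prime h.hp (h.card A hA) ha ha1] at this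
    have hz : Subgroup.zpowers a ≤ Subgroup.normalClosure ({a} : Set G) :=
      Subgroup.zpowers_le.2 (Subgroup.subset_normalClosure (Set.mem_singleton a))
    exact hz this
  have h2 := Subgroup.normalClosure_normal.conj_mem _ h1 g
  simpa [mul_assoc] using h2

/-- The hypothesis is inherited by subgroups. -/
theorem restrict (h : PairGen G p q D F) (H : Subgroup G) :
    PairGen H p q {B | B.map H.subtype ∈ D} F where
  hp := h.hp
  hp2 := h.hp2
  hq := h.hq
  hq2 := h.hq2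
  hpq := h.hpq
  card B hB := by
    rw [← h.card _ hB, Subgroup.card_map_of_injective H.subtype_injective]
  conj B hB g := by
    have : (cj g B).map H.subtype = cj (g : G) (B.map H.subtype) := by
      rw [cj, cj, Subgroup.map_map, Subgroup.map_map]
      rfl
    show (cj g B).map H.subtype ∈ D
    rw [this]
    exact h.conj _ hB _
  iso A hA B hB hAB := by
    obtain ⟨e⟩ := h.iso _ hA _ hB fun e => hAB (Subgroup.map_injective H.subtype_injective e)
    rw [← Subgroup.map_sup] at e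
    exact ⟨((A ⊔ B).equivMapOfInjective _ H.subtype_injective).trans e⟩
  kernel := h.kernel

theorem restrict_gen {H : Subgroup G} (hH : IsGenBy D H) :
    sSup {B : Subgroup H | B.map H.subtype ∈ D} = ⊤ := by
  refine Subgroup.map_injective H.subtype_injective (le_antisymm (Subgroup.map_mono le_top) ?_)
  rw [← MonoidHom.range_eq_map, Subgroup.range_subtype]
  refine hH.trans (sSup_le fun B hB => ?_)
  have e : (B.subgroupOf H).map H.subtype = B := Subgroup.map_subgroupOf_eq_of_le hB.2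
  exact e.ge.trans (Subgroup.map_mono (le_sSup (show (B.subgroupOf H).map H.subtype ∈ D by
    rw [e]; exact hB.1)))

/-- Either all lines have an abelian kernel, or none. -/
theorem qAbelian_iff (h : PairGen G p q D F) {A B Q : Subgroup G} (hA : A ∈ D) (hB : B ∈ D)
    (hAB : A ≠ B) (hQ : IsKA q (A ⊔ B) A Q) :
    (∀ x ∈ Q, ∀ y ∈ Q, Commute x y) ↔ QAbelian q F := by
  obtain ⟨e⟩ := h.iso A hA B hB hAB
  constructor
  · rintro hc x y ⟨n, hn⟩ ⟨m, hm⟩
    have key : ∀ z : F, ∀ i : ℕ, z ^ q ^ i = 1 → (e.symm z : G) ∈ Q := by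
      intro z i hi
      refine hQ.mem_K h.hp h.hq h.hpq (h.card A hA) (e.symm z).2 (n := i) ?_
      rw [← SubgroupClass.coe_pow, ← map_pow, hi, map_one, OneMemClass.coe_one]
    have h1 := hc _ (key x n hn) _ (key y m hm)
    have h2 : Commute (e.symm x) (e.symm y) := Subtype.ext h1
    simpa using h2.map e.toMonoidHom
  · intro hc x hx y hy
    have key : ∀ z : G, ∀ hz : z ∈ Q, ∃ i : ℕ, (e ⟨z, hQ.le_K hz⟩) ^ q ^ i = 1 := by
      intro z hz
      obtain ⟨i, hi⟩ := hQ.pgroup ⟨z, hz⟩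
      refine ⟨i, ?_⟩
      rw [← map_pow, MulEquiv.map_eq_one_iff]
      exact Subtype.ext (by simpa using congrArg Subtype.val hi)
    have h1 := (hc _ _ (key x hx) (key y hy)).map e.symm.toMonoidHom
    simp at h1
    exact congrArg Subtype.val h1

end PairGen

end Cfsg.Agent.H54.PairGen
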