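import Cfsg.Agent.H28.ZStar
import Cfsg.Agent.H25.CharValues
import Cfsg.Agent.H25.Kazarin

/-!
# Two character arguments

* An element generating the group as a normal subgroup cannot have all products with an
  involution `t` in the classes of `t` times the core of the centralizer of `t`.
* An element of odd prime order whose class multiplies like a class of scalars has a centralizer
  of prime order.
-/

set_option autoImplicit false
open scoped ComplexConjugate

namespace Cfsg.Agent.H54.PairGen

universe u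

variable {G : Type u} [Group G] [Finite G]

open scoped Classical in
/-- The class product formula, when the products lie in a single character value. -/
theorem char_mul_of_const [Fintype G] (χ : Cfsg.IrrCharacter G) {a b c : G}
    (h : ∀ g : G, χ.1 (g * a * g⁻¹ * b) = χ.1 c) : χ.1 a * χ.1 b = χ.1 1 * χ.1 c := by
  have hsum := H38.sum_class_pair_char χ a b
  have hterm : ∀ x ∈ Finset.univ.filter (IsConj a), ∀ y ∈ Finset.univ.filter (IsConj b),
      χ.1 (x * y) = χ.1 c := by
    intro x hx y hy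
    obtain ⟨g, rfl⟩ := isConj_iff.mp (Finset.mem_filter.mp hx).2
    obtain ⟨g', rfl⟩ := isConj_iff.mp (Finset.mem_filter.mp hy).2
    rw [show g * a * g⁻¹ * (g' * b * g'⁻¹) =
      g' * ((g'⁻¹ * g) * a * (g'⁻¹ * g)⁻¹ * b) * g'⁻¹ by simp [mul_assoc], H26.irr_conj, h]
  rw [Finset.sum_congr rfl fun x hx => Finset.sum_congr rfl fun y hy => hterm x hx y hy] at hsum
  simp only [Finset.sum_const, nsmul_eq_mul, ← mul_assoc] at hsum
  have hne : ∀ w : G, ((Finset.univ.filter (IsConj w)).card : ℂ) ≠ 0 := fun w =>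
    Nat.cast_ne_zero.mpr
      (Finset.card_ne_zero.mpr ⟨w, Finset.mem_filter.mpr ⟨Finset.mem_univ _, IsConj.refl w⟩⟩)
  have h2 := mul_left_cancel₀ (mul_ne_zero (hne a) (hne b)) hsum
  rw [h2]
  field_simp [H26.irr_one_ne_zero χ]

/-- No element generating the group as a normal subgroup has all its products with an involution
`t` conjugate into `t` times the core of the centralizer of `t`. -/
theorem false_of_products_in_core {a t : G} (hgen : Subgroup.normalClosure ({a} : Set G) = ⊤)
    (ht : orderOf t = 2) (h : ∀ g : G, ∃ l u : G, u ∈ Cfsg.centralizerPPrimeCore 2 t ∧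
      g * a * g⁻¹ * t = l * (t * u) * l⁻¹) : False := by
  classical
  haveI := Fact.mk Nat.prime_two
  haveI := Fintype.ofFinite G
  obtain ⟨M, hM⟩ := Cfsg.Agent.H42.exists_isPModular Nat.prime_two
  haveI := hM.2.1
  set B := Cfsg.principalBlock M G with hB
  have hBb : Cfsg.IsPBlock M B := ⟨H26.oneIrr G, rfl⟩
  have key : ∀ χ ∈ B, χ.1 a * χ.1 t = χ.1 1 * χ.1 t := by
    intro χ hχ
    refine char_mul_of_const χ fun g => ?_
    obtain ⟨l, u, hu, e⟩ := h g
    rw [e, H26.irr_conj, Cfsg.Agent.S0942.result 2 M hM t ⟨1, by rw [ht, pow_one]⟩ u hu χ hχ]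
  choose d hd hd' using fun χ : Cfsg.IrrCharacter G => H57.irr_degree χ.2
  have htriv : ∀ χ ∈ B, χ.1 t ≠ 0 → χ.1 t = χ.1 1 := by
    intro χ hχ hne
    have h1 := mul_right_cancel₀ hne (key χ hχ)
    obtain ⟨n, ρ, hρ, e⟩ := χ.2
    have hmem : a ∈ MonoidHom.ker ρ := by
      rw [MonoidHom.mem_ker, Module.End.one_eq_id]
      apply (H25.char_eq_degree_iff ρ a).mp
      rw [e, h1, ← e, Representation.char_one]
    have htk : t ∈ MonoidHom.ker ρ :=
      Subgroup.normalClosure_le_normal (Set.singleton_subset_iff.mpr hmem)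
        (hgen ▸ Subgroup.mem_top t)
    rw [← e, Representation.char_one, H25.char_eq_degree_iff ρ t, ← Module.End.one_eq_id]
    exact htk
  have horth : ∑ χ ∈ Finset.univ.filter (· ∈ B), χ.1 1 * χ.1 t = 0 := by
    rw [← H40.sum_block_mul_conj_eq_zero hM hBb (x := 1) (y := t) (by simp) (by rw [ht])]
    refine Finset.sum_congr rfl fun χ _ => ?_
    rw [← H26.irr_inv, H28.inv_eq_self_of_orderOf_two ht]
  have hcast : ((∑ χ ∈ Finset.univ.filter (· ∈ B),
      if χ.1 t = 0 then 0 else d χ * d χ : ℕ) : ℂ) = 0 := by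
    refine (Nat.cast_sum _ _).trans (Eq.trans (Finset.sum_congr rfl fun χ hχ => ?_) horth)
    split_ifs with hc
    · rw [hc]; simp
    · rw [htriv χ (Finset.mem_filter.mp hχ).2 hc, hd']; push_cast; ring
  rw [Nat.cast_eq_zero, Finset.sum_eq_zero_iff] at hcast
  have ho : H26.oneIrr G ∈ B := by
    rw [hB, Cfsg.principalBlock]
    exact Cfsg.Agent.H41.mem_blockOf_self (M := M) (H26.oneIrr G)
  have h1 := hcast (H26.oneIrr G) (Finset.mem_filter.mpr ⟨Finset.mem_univ _, ho⟩)
  rw [if_neg (by rw [H26.oneIrr_val]; exact one_ne_zero)] at h1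
  have := hd (H26.oneIrr G)
  have : 0 < d (H26.oneIrr G) * d (H26.oneIrr G) := by positivity
  omega

/-- If the conjugates of the powers `a ^ 2 ^ m` multiply by `a ^ 2 ^ m` into the class of
`a ^ 2 ^ (m + 1)`, and `a` has odd prime order `p` and generates `G` as a normal subgroup, then
`a` is centralized by at most `p` elements. -/
theorem card_centralizer_le_of_square {a : G} {p : ℕ} (hp : p.Prime) (hp2 : p ≠ 2)
    (hap : a ^ p = 1) (hgen : Subgroup.normalClosure ({a} : Set G) = ⊤)
    (h : ∀ (m : ℕ) (g : G), IsConj (g * a ^ 2 ^ m * g⁻¹ * a ^ 2 ^ m) (a ^ 2 ^ (m + 1))) :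
    Nat.card (Subgroup.centralizer ({a} : Set G)) ≤ p := by
  classical
  haveI := Fact.mk hp
  haveI := Fintype.ofFinite G
  choose d hd hd' using fun χ : Cfsg.IrrCharacter G => H57.irr_degree χ.2
  set e : Cfsg.IrrCharacter G → ℝ := fun χ => ‖χ.1 a‖ / d χ with he
  -- each character value at `a` is zero or of full absolute value
  have hdich : ∀ χ : Cfsg.IrrCharacter G, χ.1 a = 0 ∨ ‖χ.1 a‖ = d χ := by
    intro χ
    have hstep : ∀ m : ℕ, (‖χ.1 (a ^ 2 ^ m)‖ / d χ) ^ 2 = ‖χ.1 (a ^ 2 ^ (m + 1))‖ / d χ := by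
      intro m
      have h1 := char_mul_of_const χ (a := a ^ 2 ^ m) (b := a ^ 2 ^ m)
        (c := a ^ 2 ^ (m + 1)) fun g => H26.irr_eq_of_isConj χ (h m g)
      have h2 := congrArg (‖·‖) h1
      simp only [norm_mul, hd', Complex.norm_natCast] at h2
      have hd0 : (d χ : ℝ) ≠ 0 := Nat.cast_ne_zero.mpr (hd χ).ne'
      field_simp
      linarith
    have hiter : ∀ m : ℕ, (e χ) ^ 2 ^ m = ‖χ.1 (a ^ 2 ^ m)‖ / d χ := by
      intro m
      induction m with
      | zero => simp [he]
      | succ m ih =>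
        rw [show (e χ) ^ 2 ^ (m + 1) = ((e χ) ^ 2 ^ m) ^ 2 by rw [← pow_mul, pow_succ], ih, hstep]
    have hcyc : a ^ 2 ^ (p - 1) = a := by
      have h2 : ((2 : ℕ) : ZMod p) ≠ 0 := by
        rw [Ne, ZMod.natCast_eq_zero_iff]
        exact fun hd => hp2 ((Nat.prime_dvd_prime_iff_eq hp Nat.prime_two).1 hd)
      have h3 := ZMod.pow_card_sub_one_eq_one h2
      have h4 : 2 ^ (p - 1) ≡ 1 [MOD p] := (ZMod.natCast_eq_natCast_iff _ _ _).1 (by push_cast; exact_mod_cast h3)
      rw [← pow_mod_orderOf, (h4.of_dvd (orderOf_dvd_of_pow_eq_one hap)), pow_mod_orderOf, pow_one]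
    have hfix : (e χ) ^ 2 ^ (p - 1) = e χ := by rw [hiter, hcyc]
    have hd0 : (0 : ℝ) < d χ := Nat.cast_pos.mpr (hd χ)
    have hle : e χ ≤ 1 := by
      obtain ⟨n, ρ, hρ, eρ⟩ := χ.2
      rw [he, div_le_one hd0]
      have h1 := H25.norm_char_le ρ a
      have h2 := hd' χ
      rw [← eρ, Representation.char_one] at h2
      rw [← eρ, show (d χ : ℝ) = (Module.finrank ℂ (Fin n → ℂ) : ℝ) from by exact_mod_cast h2.symm]
      exact h1
    have h0 : 0 ≤ e χ := by positivity
    have hN : 1 < 2 ^ (p - 1) := Nat.one_lt_two_pow (by have := hp.two_le; omega)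
    rcases h0.eq_or_lt with h1 | h1
    · left
      rw [he, eq_comm, div_eq_zero_iff] at h1
      rcases h1 with h1 | h1
      · exact norm_eq_zero.mp h1
      · exact absurd h1 hd0.ne'
    · right
      have : e χ = 1 := by
        refine hle.eq_or_lt.resolve_right fun hlt => ?_
        have := pow_lt_pow_right_of_lt_one₀ h1 hlt hN
        rw [pow_one, hfix] at this
        exact lt_irrefl _ this
      rwa [he, div_eq_one_iff_eq hd0.ne'] at this
  -- characters of full value are linear and determined by their value at `a`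
  set S := Finset.univ.filter fun χ : Cfsg.IrrCharacter G => χ.1 a ≠ 0 with hS
  have hlin : ∀ χ ∈ S, d χ = 1 ∧ ∃ f : G →* ℂ, ∀ g, χ.1 g = f g := by
    intro χ hχ
    have hn := (hdich χ).resolve_left (Finset.mem_filter.mp hχ).2
    obtain ⟨n, ρ, hρ, eρ⟩ := χ.2
    haveI := hρ
    have h2 := hd' χ
    rw [← eρ, Representation.char_one] at h2
    have hdn : (d χ : ℝ) = (Module.finrank ℂ (Fin n → ℂ) : ℝ) := by exact_mod_cast h2.symm
    rw [← eρ, hdn] at hn
    let T : Subgroup G :=
      { carrier := {g | ∃ ω : ℂ, ρ g = ω • LinearMap.id}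
        one_mem' := ⟨1, by rw [map_one, one_smul, Module.End.one_eq_id]⟩
        mul_mem' := by
          rintro x y ⟨ω, hω⟩ ⟨ν, hν⟩
          refine ⟨ν * ω, ?_⟩
          rw [map_mul, hω, hν, Module.End.mul_eq_comp]
          ext v
          simp [mul_smul, mul_left_comm]
        inv_mem' := by
          rintro x ⟨ω, hω⟩
          refine ⟨ω⁻¹, ?_⟩
          have h1 : ρ x⁻¹ * ρ x = 1 := by rw [← map_mul, inv_mul_cancel, map_one]
          rw [hω] at h1
          have hω0 : ω ≠ 0 := by
            rintro rfl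
            haveI := Module.finrank_pos_iff.mp (H26.finrank_pos_of_isIrreducible ρ)
            rw [zero_smul, mul_zero] at h1
            exact zero_ne_one h1
          rw [← Module.End.one_eq_id, mul_smul_comm, mul_one] at h1
          rw [← Module.End.one_eq_id]
          exact (eq_inv_smul_iff₀ hω0).mpr h1 }
    haveI : T.Normal := ⟨fun x hx g => by
      obtain ⟨ω, hω⟩ := hx
      refine ⟨ω, ?_⟩
      rw [map_mul, map_mul, hω, ← Module.End.one_eq_id, mul_smul_comm, mul_one, smul_mul_assoc,
        ← map_mul, mul_inv_cancel, map_one]⟩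
    have hT : T = ⊤ := top_le_iff.mp (hgen ▸ Subgroup.normalClosure_le_normal
      (Set.singleton_subset_iff.mpr ⟨_, H25.apply_eq_smul_id_of_norm_eq ρ a hn⟩))
    have hall : ∀ g : G, ∃ ω : ℂ, ρ g = ω • LinearMap.id := fun g =>
      (hT ▸ Subgroup.mem_top g : g ∈ T)
    have h1 : Module.finrank ℂ (Fin n → ℂ) = 1 := by
      refine H25.finrank_eq_one_of_commute ρ fun x y => ?_
      obtain ⟨ω, hω⟩ := hall x
      rw [hω, ← Module.End.one_eq_id]
      exact (Commute.one_left _).smul_left ω
    refine ⟨by exact_mod_cast (show (d χ : ℝ) = 1 by rw [hdn, h1]; simp), ?_⟩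
    choose ω hω using hall
    have hval : ∀ g, χ.1 g = ω g := fun g => by
      rw [← eρ, Representation.character, hω g, map_smul, LinearMap.trace_id, h1]
      simp
    refine ⟨{ toFun := fun g => χ.1 g, map_one' := ?_, map_mul' := ?_ }, fun g => rfl⟩
    · rw [← eρ, Representation.char_one, h1, Nat.cast_one]
    · intro x y
      haveI := Module.finrank_pos_iff.mp (H26.finrank_pos_of_isIrreducible ρ)
      obtain ⟨v, hv⟩ := exists_ne (0 : Fin n → ℂ)
      have h3 := LinearMap.congr_fun (map_mul ρ x y) v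
      rw [hω, hω, hω] at h3
      simp only [Module.End.mul_apply, LinearMap.smul_apply, LinearMap.id_apply, smul_smul] at h3
      rw [hval, hval, hval, smul_left_injective ℂ hv h3, mul_comm]
  have hinj : Set.InjOn (fun χ : Cfsg.IrrCharacter G => χ.1 a) S := by
    intro χ hχ ψ hψ (e1 : χ.1 a = ψ.1 a)
    obtain ⟨-, f, hf⟩ := hlin χ hχ
    obtain ⟨-, f', hf'⟩ := hlin ψ hψ
    refine Subtype.ext (funext fun g => ?_)
    rw [hf, hf']
    let E : Subgroup G :=
      { carrier := {g | f g = f' g}
        one_mem' := by simp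
        mul_mem' := by
          intro x y (hx : f x = f' x) (hy : f y = f' y)
          show f (x * y) = f' (x * y)
          rw [map_mul, map_mul, hx, hy]
        inv_mem' := by
          intro x (hx : f x = f' x)
          show f x⁻¹ = f' x⁻¹
          have h0 : f x ≠ 0 := fun h0 => by
            have := map_mul f x x⁻¹
            simp [h0] at this
          refine mul_left_cancel₀ h0 ?_
          conv_rhs => rw [hx]
          rw [← map_mul, ← map_mul]; simp }
    haveI : E.Normal := ⟨fun x (hx : f x = f' x) y => by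
      show f (y * x * y⁻¹) = f' (y * x * y⁻¹)
      rw [map_mul, map_mul, map_mul, map_mul, hx, mul_comm (f y), mul_assoc, ← map_mul,
        mul_comm (f' y), mul_assoc, ← map_mul, mul_inv_cancel, map_one, map_one]⟩
    have hE : E = ⊤ := top_le_iff.mp (hgen ▸ Subgroup.normalClosure_le_normal
      (Set.singleton_subset_iff.mpr (show f a = f' a by rw [← hf, ← hf', e1])))
    exact (hE ▸ Subgroup.mem_top g : g ∈ E)
  have hcardS : S.card ≤ p := by
    rw [← Finset.card_image_of_injOn hinj]
    refine le_trans (Finset.card_le_card (t := Polynomial.nthRootsFinset p (1 : ℂ)) fun z hz => ?_) ?_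
    · obtain ⟨χ, hχ, rfl⟩ := Finset.mem_image.mp hz
      obtain ⟨-, f, hf⟩ := hlin χ hχ
      rw [Polynomial.mem_nthRootsFinset hp.pos, hf, ← map_pow, hap, map_one]
    · rw [Polynomial.nthRootsFinset_def]
      exact (Multiset.toFinset_card_le _).trans (Polynomial.card_nthRoots p 1)
  have hcol := H26.column_orthogonality a a
  rw [show H26.classIndicator a a = 1 from if_pos (IsConj.refl a), mul_one,
    ← Finset.sum_filter_of_ne (p := fun χ => χ.1 a ≠ 0)
      (fun χ _ hne h0 => hne (by rw [h0, zero_mul]))] at hcol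
  have hterm : ∀ χ ∈ S, χ.1 a * conj (χ.1 a) = 1 := by
    intro χ hχ
    obtain ⟨h1, -⟩ := hlin χ hχ
    rw [Complex.mul_conj', (hdich χ).resolve_left (Finset.mem_filter.mp hχ).2, h1]
    simp
  rw [Finset.sum_congr rfl hterm, Finset.sum_const, nsmul_one] at hcol
  exact_mod_cast (Nat.cast_inj.mp hcol) ▸ hcardS

end Cfsg.Agent.H54.PairGen
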