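import Cfsg.Agent.H54.PairGen.Basic
import Cfsg.Agent.H54.PairGen.Char
import Cfsg.Agent.H55.PiCore

/-!
# In `K ⋊ A` generated by members of `D` the centralizer of `A` in `K` is central
-/

set_option autoImplicit false
set_option linter.dupNamespace false
open scoped Pointwise commutatorElement

namespace Cfsg.Agent.H54.PairGen

universe u v

variable {G : Type u} [Group G] [Finite G] {p q : ℕ} {D : Set (Subgroup G)} {F : Type v} [Group F]
  {H A K : Subgroup G}

namespace PairGen

theorem self_isGenBy_line {A B : Subgroup G} (hA : A ∈ D) (hB : B ∈ D) : IsGenBy D (A ⊔ B) :=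
  sup_le (le_sSup ⟨hA, le_sup_left⟩) (le_sSup ⟨hB, le_sup_right⟩)

/-- In a line with abelian kernel a point has no fixed point on the kernel. -/
theorem line_fixed_eq_one (h : PairGen G p q D F) (hQ : QAbelian q F) {A B Q : Subgroup G}
    (hA : A ∈ D) (hB : B ∈ D) (hAB : A ≠ B) (hL : IsKA q (A ⊔ B) A Q) {x a : G} (hx : x ∈ Q)
    (ha : a ∈ A) (ha1 : a ≠ 1) (hc : Commute x a) : x = 1 := by
  have hcomm := (h.qAbelian_iff hA hB hAB hL).2 hQ
  letI : CommGroup Q := { (inferInstance : Group Q) with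
    mul_comm := fun y z => Subtype.ext (hcomm _ y.2 _ z.2) }
  have hap : a ^ p = 1 := by
    rw [← orderOf_dvd_iff_pow_eq_one, ← h.card A hA]
    exact Subgroup.orderOf_dvd_natCard A ha
  have hn : ∀ i : ℕ, a ^ i ∈ Subgroup.normalizer (Q : Set G) := fun i =>
    hL.norm (hL.le_A (A.pow_mem ha i))
  let θ : ℕ → Q → Q := fun i y =>
    ⟨a ^ i * y * (a ^ i)⁻¹, (Subgroup.mem_normalizer_iff.1 (hn i) y).1 y.2⟩
  let π : Q →* Q :=
    { toFun := fun y => ∏ i ∈ Finset.range p, θ i y
      map_one' := Finset.prod_eq_one fun i _ => Subtype.ext (by simp [θ])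
      map_mul' := fun y z => by
        rw [← Finset.prod_mul_distrib]
        exact Finset.prod_congr rfl fun i _ => Subtype.ext (by simp [θ, mul_assoc]) }
  set S : Subgroup G := π.ker.map Q.subtype with hS
  have hshift : ∀ y : Q, π (θ 1 y) = π y := by
    intro y
    have e : ∀ i, θ i (θ 1 y) = θ (i + 1) y := fun i => Subtype.ext (by
      simp [θ, pow_succ, mul_assoc])
    show ∏ i ∈ Finset.range p, θ i (θ 1 y) = ∏ i ∈ Finset.range p, θ i y
    simp only [e]
    have h1 := Finset.prod_range_succ' (fun i => θ i y) p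
    rw [Finset.prod_range_succ] at h1
    have h2 : θ p y = θ 0 y := Subtype.ext (by simp [θ, hap])
    rw [h2] at h1
    exact (mul_right_cancel h1).symm
  have hSA : A ≤ Subgroup.normalizer (S : Set G) := by
    rw [eq_zpowers_of_card_prime h.hp (h.card A hA) ha ha1, Subgroup.zpowers_le,
      Subgroup.mem_normalizer_iff_map_conj_eq]
    refine Subgroup.eq_of_le_of_card_ge ?_
      (Subgroup.card_map_of_injective (MulAut.conj a).injective).ge
    rintro _ ⟨_, ⟨y, hy, rfl⟩, rfl⟩
    refine ⟨θ 1 y, ?_, by simp [θ]⟩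
    show π (θ 1 y) = 1
    rw [hshift]
    exact hy
  have hSQ : S = Q := by
    refine hL.eq_of_commutator_mem h.hp h.hq h.hpq (h.card A hA) h.card
      (self_isGenBy_line hA hB) (Subgroup.map_subtype_le _) hSA ?_
    intro k hk a' ha'
    have ha'' : ∃ i : ℕ, a ^ i = a' := by
      rw [eq_zpowers_of_card_prime h.hp (h.card A hA) ha ha1] at ha'
      exact (isOfFinOrder_of_finite a).mem_powers_iff_mem_zpowers.2 ha'
    obtain ⟨i, rfl⟩ := ha''
    refine ⟨θ i ⟨k, hk⟩ * ⟨k, hk⟩⁻¹, ?_, by simp [θ]⟩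
    show π _ = 1
    rw [map_mul, map_inv, mul_inv_eq_one]
    induction i with
    | zero =>
      congr 1
      exact Subtype.ext (by simp [θ])
    | succ i ih =>
      rw [show θ (i + 1) ⟨k, hk⟩ = θ 1 (θ i ⟨k, hk⟩) from Subtype.ext (by
        simp [θ, pow_succ', mul_assoc]), hshift, ih (A.pow_mem ha i)]
  obtain ⟨y, hy, e⟩ : x ∈ S := hSQ ▸ hx
  have hy' : π y = 1 := hy
  have h1 : π y = y ^ p := by
    show ∏ i ∈ Finset.range p, θ i y = y ^ p
    rw [Finset.prod_eq_pow_card (b := y), Finset.card_range]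
    intro i _
    refine Subtype.ext ?_
    show a ^ i * (y : G) * (a ^ i)⁻¹ = y
    rw [show (y : G) = x from e, ((hc.pow_right i).eq).symm, mul_inv_cancel_right]
  have hxp : x ^ p = 1 := by
    rw [← show (y : G) = x from e, ← SubgroupClass.coe_pow, ← h1, hy', OneMemClass.coe_one]
  obtain ⟨n, hn'⟩ := hL.pgroup ⟨x, hx⟩
  have hd1 := orderOf_dvd_of_pow_eq_one hxp
  have hd2 : orderOf x ∣ q ^ n :=
    orderOf_dvd_of_pow_eq_one (by simpa using congrArg Subtype.val hn')
  exact orderOf_eq_one_iff.1 (Nat.dvd_one.1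
    (((Nat.coprime_primes h.hp h.hq).2 h.hpq).pow_right n ▸ Nat.dvd_gcd hd1 hd2))

/-- With abelian lines the points have no fixed points in `K`. -/
theorem abelian_fixed_eq_one (h : PairGen G p q D F) (hQ : QAbelian q F) (hA : A ∈ D)
    (hH : IsKA q H A K) (hgen : IsGenBy D H) {z a : G} (hz : z ∈ K) (ha : a ∈ A) (ha1 : a ≠ 1)
    (hc : Commute z a) : z = 1 := by
  haveI := Fact.mk h.hp
  set a₀ : H := ⟨a, hH.le_A ha⟩ with ha₀
  have hap : a₀ ^ p = 1 := by
    refine Subtype.ext ?_
    rw [SubgroupClass.coe_pow, OneMemClass.coe_one, ← orderOf_dvd_iff_pow_eq_one, ← h.card A hA]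
    exact Subgroup.orderOf_dvd_natCard A ha
  have hclos : Subgroup.normalClosure ({a₀} : Set H) = ⊤ :=
    (h.restrict H).normalClosure_eq_top (PairGen.restrict_gen hgen)
      (A := A.subgroupOf H) (by
        show (A.subgroupOf H).map H.subtype ∈ D
        rwa [Subgroup.map_subgroupOf_eq_of_le hH.le_A])
      (by rw [Subgroup.mem_subgroupOf]; exact ha) (fun e => ha1 (congrArg Subtype.val e))
  have hordA : orderOf a = p := orderOf_eq_prime (by simpa using congrArg Subtype.val hap) ha1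
  have hb : ∀ j : ℕ, ¬ p ∣ j → a ^ j ≠ 1 := fun j hj e =>
    hj (hordA ▸ orderOf_dvd_of_pow_eq_one e)
  have key : ∀ j : ℕ, ¬ p ∣ j → ∀ g ∈ H, ∃ l ∈ H, g * a ^ j * g⁻¹ * a ^ j = l * a ^ (j + j) * l⁻¹ := by
    intro j hj g hg
    rcases eq_or_ne (cj g A) A with he | he
    · -- `g` normalises, hence centralises, `A`
      obtain ⟨k, hk, a', ha', rfl⟩ := hH.exists_mul hg
      rw [cj_mul, cj_eq_self_of_mem ha'] at he
      have hk' := hH.commute_of_cj_eq h.hp h.hq h.hpq (h.card A hA) hk ha he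
      refine ⟨1, one_mem _, ?_⟩
      have hca : Commute a' a := by
        rw [eq_zpowers_of_card_prime h.hp (h.card A hA) ha ha1] at ha'
        obtain ⟨i, rfl⟩ := ha'
        exact (Commute.refl a).zpow_left i
      rw [((hk'.mul_left hca).pow_right j).eq, mul_inv_cancel_right, pow_add]
      simp
    · obtain ⟨Q, -, hL⟩ := h.line hA (h.conj A hA g) (Ne.symm he)
      obtain ⟨k, hk, e⟩ := hL.exists_cj h.hp h.hq h.hpq (h.card A hA)
        (by rw [card_cj, h.card A hA]) le_sup_right
      have hn : cj (k⁻¹ * g) A = A := by rw [cj_mul, e, cj_inv_cj]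
      have hcg : Commute (k⁻¹ * g) a := by
        obtain ⟨k', hk', a', ha', e'⟩ := hH.exists_mul
          (mul_mem (inv_mem ((hL.le_K.trans (sup_le hH.le_A (cj_le_of_mem hH.le_A hg))) hk)) hg)
        rw [← e'] at hn ⊢
        rw [cj_mul, cj_eq_self_of_mem ha'] at hn
        refine (hH.commute_of_cj_eq h.hp h.hq h.hpq (h.card A hA) hk' ha hn).mul_left ?_
        rw [eq_zpowers_of_card_prime h.hp (h.card A hA) ha ha1] at ha'
        obtain ⟨i, rfl⟩ := ha'
        exact (Commute.refl a).zpow_left i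
      have h1 : g * a ^ j * g⁻¹ = k * a ^ j * k⁻¹ := by
        have := (hcg.pow_right j).eq
        calc g * a ^ j * g⁻¹ = k * (k⁻¹ * g * a ^ j) * g⁻¹ := by group
          _ = k * (a ^ j * (k⁻¹ * g)) * g⁻¹ := by rw [this]
          _ = k * a ^ j * k⁻¹ := by group
      -- `y ↦ [y, a ^ (j + j)]` is a bijection of `Q`
      have hmem : ∀ i : ℕ, ∀ y ∈ Q, y * a ^ i * y⁻¹ * (a ^ i)⁻¹ ∈ Q := by
        intro i y hy
        have := mul_mem hy ((Subgroup.mem_normalizer_iff.1
          (hL.norm (hL.le_A (A.pow_mem ha i))) _).1 (inv_mem hy))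
        convert this using 1
        group
      have hinj : Function.Injective fun y : Q =>
          (⟨_, hmem (j + j) y y.2⟩ : Q) := by
        intro y y' e2
        have e3 : (y : G) * a ^ (j + j) * (y : G)⁻¹ = y' * a ^ (j + j) * (y' : G)⁻¹ :=
          mul_right_cancel (congrArg Subtype.val e2)
        have h2 : Commute ((y' : G)⁻¹ * y) (a ^ (j + j)) := by
          calc (y' : G)⁻¹ * y * a ^ (j + j) = (y' : G)⁻¹ * (y * a ^ (j + j) * (y : G)⁻¹) * y := by
                group
            _ = a ^ (j + j) * ((y' : G)⁻¹ * y) := by rw [e3]; group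
        have h3 : ¬ p ∣ j + j := by
          intro hd
          rw [← two_mul] at hd
          rcases (Nat.Prime.dvd_mul h.hp).1 hd with hd | hd
          · exact h.hp2 ((Nat.prime_dvd_prime_iff_eq h.hp Nat.prime_two).1 hd)
          · exact hj hd
        have h4 := h.line_fixed_eq_one hQ hA (h.conj A hA g) (Ne.symm he) hL
          (mul_mem (inv_mem y'.2) y.2) (A.pow_mem ha _) (hb _ h3) h2
        exact Subtype.ext (inv_mul_eq_one.1 h4).symm
      obtain ⟨⟨y, hy⟩, e2⟩ := (Finite.injective_iff_surjective.1 hinj)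
        ⟨_, hmem j k hk⟩
      refine ⟨y, (hL.le_K.trans (sup_le hH.le_A (cj_le_of_mem hH.le_A hg))) hy, ?_⟩
      have e3 : y * a ^ (j + j) * y⁻¹ * (a ^ (j + j))⁻¹ = k * a ^ j * k⁻¹ * (a ^ j)⁻¹ :=
        congrArg Subtype.val e2
      rw [h1, mul_inv_eq_iff_eq_mul.1 e3, pow_add]
      group
  have hcard := card_centralizer_le_of_square h.hp h.hp2 hap hclos (fun m g => by
    have h2m : ¬ p ∣ 2 ^ m := fun hd =>
      h.hp2 ((Nat.prime_dvd_prime_iff_eq h.hp Nat.prime_two).1 (h.hp.dvd_of_dvd_pow hd))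
    obtain ⟨l, hl, e⟩ := key (2 ^ m) h2m g g.2
    refine (isConj_iff.2 ⟨⟨l, hl⟩, Subtype.ext ?_⟩).symm
    simp only [Subgroup.coe_mul, SubgroupClass.coe_pow, InvMemClass.coe_inv, ha₀]
    rw [pow_succ, mul_two]
    exact e.symm)
  by_contra hz1
  -- `A` and `z` lie in the centralizer
  have hsub : (Subgroup.zpowers a₀ : Subgroup H) ≤ Subgroup.centralizer {a₀} :=
    Subgroup.zpowers_le.2 (Subgroup.mem_centralizer_singleton_iff.2 rfl)
  have hcz : Nat.card (Subgroup.zpowers a₀) = p := by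
    rw [Nat.card_zpowers, ← Subgroup.orderOf_coe, hordA]
  have heq := Subgroup.eq_of_le_of_card_ge hsub (by rw [hcz]; exact hcard)
  have hzm : (⟨z, hH.le_K hz⟩ : H) ∈ Subgroup.zpowers a₀ := by
    rw [heq]
    exact Subgroup.mem_centralizer_singleton_iff.2 (Subtype.ext hc.eq)
  obtain ⟨i, hi⟩ := hzm
  have hzA : z ∈ A := by
    rw [← show a ^ i = z by simpa [ha₀] using congrArg Subtype.val hi]
    exact A.zpow_mem ha i
  exact hz1 (Subgroup.mem_bot.1 ((hH.inf_eq_bot h.hp h.hq h.hpq (h.card A hA)).le ⟨hz, hzA⟩))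

/-- Without abelian lines, abelian `A`-invariant subgroups of `K` are centralised by `A`. -/
theorem commute_of_abelian (h : PairGen G p q D F) (hQ : ¬ QAbelian q F) (hA : A ∈ D)
    (hH : IsKA q H A K) {X : Subgroup G} (hXK : X ≤ K) (hXA : A ≤ Subgroup.normalizer (X : Set G))
    (hX : ∀ x ∈ X, ∀ y ∈ X, Commute x y) {x a : G} (hx : x ∈ X) (ha : a ∈ A) : Commute x a := by
  rcases eq_or_ne (cj x A) A with he | he
  · exact hH.commute_of_cj_eq h.hp h.hq h.hpq (h.card A hA) (hXK hx) ha he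
  exfalso
  obtain ⟨Q, -, hL⟩ := h.line hA (h.conj A hA x) (Ne.symm he)
  have h1 : IsKA q (X ⊔ A) A X :=
    ⟨hH.pgroup.to_le hXK, rfl, sup_le Subgroup.le_normalizer hXA⟩
  have h2 : Q ≤ X := h1.le_K_of_isPGroup h.hp h.hq h.hpq (h.card A hA) hL.pgroup
    (hL.le_K.trans (sup_le le_sup_right
      (cj_le_of_mem le_sup_right (Subgroup.mem_sup_left hx))))
  exact hQ ((h.qAbelian_iff hA (h.conj A hA x) (Ne.symm he) hL).1
    fun y hy z hz => hX y (h2 hy) z (h2 hz))

/-- Without abelian lines, abelian `H`-invariant subgroups of `K` are central in `H`. -/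
theorem central_of_abelian (h : PairGen G p q D F) (hQ : ¬ QAbelian q F) (hA : A ∈ D)
    (hH : IsKA q H A K) (hgen : IsGenBy D H) {X : Subgroup G} (hXK : X ≤ K)
    (hXH : H ≤ Subgroup.normalizer (X : Set G)) (hX : ∀ x ∈ X, ∀ y ∈ X, Commute x y) :
    X ≤ Subgroup.centralizer (H : Set G) := by
  rw [Subgroup.le_centralizer_iff]
  refine hgen.trans (sSup_le ?_)
  rintro B ⟨hB, hBH⟩
  obtain ⟨k, hk, rfl⟩ := hH.exists_cj h.hp h.hq h.hpq (h.card A hA) (h.card B hB) hBH
  intro y hy
  refine Subgroup.mem_centralizer_iff.2 fun x hx => ?_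
  exact (h.commute_of_abelian hQ (h.conj A hA k) (hH.change_point hk) hXK
    (hBH.trans hXH) hX hx hy).eq

/-- Without abelian lines the derived subgroup of `K` is central in `H`. -/
theorem commutator_central (h : PairGen G p q D F) (hQ : ¬ QAbelian q F) (hA : A ∈ D)
    (hH : IsKA q H A K) (hgen : IsGenBy D H) : ⁅K, K⁆ ≤ Subgroup.centralizer (H : Set G) := by
  haveI := Fact.mk h.hq
  haveI : Group.IsNilpotent K := hH.pgroup.isNilpotent
  obtain ⟨n, hn⟩ := (Subgroup.isNilpotent_iff_lowerCentralSeries K).1 inferInstance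
  have hanti : ∀ j : ℕ, K.lowerCentralSeries j ≤ K := by
    intro j
    induction j with
    | zero => exact le_rfl
    | succ j ih =>
      rw [Subgroup.lowerCentralSeries_succ, Subgroup.commutator_le]
      exact fun x hx y hy => mul_mem (mul_mem (mul_mem (ih hx) hy) (inv_mem (ih hx))) (inv_mem hy)
  have hcj : ∀ (g : G) (j : ℕ), cj g (K.lowerCentralSeries j) = (cj g K).lowerCentralSeries j := by
    intro g j
    induction j with
    | zero => rfl
    | succ j ih =>
      rw [Subgroup.lowerCentralSeries_succ, Subgroup.lowerCentralSeries_succ, ← ih]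
      exact Subgroup.map_commutator _ _ _
  have hnorm : ∀ j : ℕ, H ≤ Subgroup.normalizer (K.lowerCentralSeries j : Set G) := by
    intro j g hg
    rw [← cj_eq_iff, hcj, cj_eq_iff.2 (hH.norm hg)]
  have hstep : ∀ m : ℕ, ∀ j : ℕ, n ≤ j + m →
      K.lowerCentralSeries (j + 1) ≤ Subgroup.centralizer (H : Set G) := by
    intro m
    induction m with
    | zero =>
      intro j hj
      have h0 : ∀ i : ℕ, K.lowerCentralSeries (n + i) = ⊥ := by
        intro i
        induction i with
        | zero => exact hn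
        | succ i ih => rw [← add_assoc, Subgroup.lowerCentralSeries_succ, ih,
            Subgroup.commutator_bot_left]
      rw [show j + 1 = n + (j + 1 - n) by omega, h0]
      exact bot_le
    | succ m ih =>
      intro j hj
      have hnext : K.lowerCentralSeries (j + 2) ≤ Subgroup.centralizer (H : Set G) :=
        ih (j + 1) (by omega)
      set X := K.lowerCentralSeries (j + 1) with hX
      have h1 : ⁅⁅X, K⁆, K⁆ = ⊥ := by
        rw [Subgroup.commutator_eq_bot_iff_le_centralizer]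
        exact hnext.trans (Subgroup.centralizer_le hH.le_K)
      have h2 : ⁅⁅K, X⁆, K⁆ = ⊥ := by rw [Subgroup.commutator_comm K X]; exact h1
      have h3 : ⁅⁅K, K⁆, X⁆ = ⊥ := Subgroup.commutator_commutator_eq_bot_of_rotate h2 h1
      rw [Subgroup.commutator_eq_bot_iff_le_centralizer] at h3
      have hXK' : X ≤ ⁅K, K⁆ := by
        rw [hX, Subgroup.lowerCentralSeries_succ]
        exact Subgroup.commutator_mono (hanti j) le_rfl
      refine h.central_of_abelian hQ hA hH hgen (hanti _) (hnorm _) fun x hx y hy => ?_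
      exact (Subgroup.mem_centralizer_iff.1 (h3 (hXK' hx)) y hy).symm
  exact hstep n 0 (by omega)

/-- The centralizer of `A` in `K` is central in `H`. -/
theorem central_of_commute (h : PairGen G p q D F) (hA : A ∈ D) (hH : IsKA q H A K)
    (hgen : IsGenBy D H) {z a : G} (hz : z ∈ K) (ha : a ∈ A) (ha1 : a ≠ 1) (hc : Commute z a) :
    z ∈ Subgroup.centralizer (H : Set G) := by
  rcases em (QAbelian q F) with hQ | hQ
  · rw [h.abelian_fixed_eq_one hQ hA hH hgen hz ha ha1 hc]
    exact one_mem _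
  have hK' := h.commutator_central hQ hA hH hgen
  set S : Subgroup G := K ⊓ Subgroup.centralizer ({z} : Set G) with hS
  have hza : ∀ b ∈ A, Commute z b := by
    intro b hb
    rw [eq_zpowers_of_card_prime h.hp (h.card A hA) ha ha1] at hb
    obtain ⟨i, rfl⟩ := hb
    exact hc.zpow_right i
  have hSA : A ≤ Subgroup.normalizer (S : Set G) := by
    intro b hb
    rw [← cj_eq_iff]
    refine Subgroup.eq_of_le_of_card_ge ?_ (by rw [card_cj])
    intro y hy
    obtain ⟨h1, h2⟩ := Subgroup.mem_inf.1 (mem_cj.1 hy)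
    refine Subgroup.mem_inf.2 ⟨?_, Subgroup.mem_centralizer_singleton_iff.2 ?_⟩
    · have := (Subgroup.mem_normalizer_iff.1 (hH.norm (hH.le_A hb)) _).1 h1
      simpa [mul_assoc] using this
    · have e : y = b * (b⁻¹ * y * b) * b⁻¹ := by group
      rw [e]
      exact (((hza b hb).symm.mul_left (Subgroup.mem_centralizer_singleton_iff.1 h2)).mul_left
        (hza b hb).symm.inv_left).eq
  have hSK : S = K := by
    refine hH.eq_of_commutator_mem h.hp h.hq h.hpq (h.card A hA) h.card hgen inf_le_left hSA ?_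
    intro k hk b hb
    refine Subgroup.mem_inf.2 ⟨mul_mem ((Subgroup.mem_normalizer_iff.1
      (hH.norm (hH.le_A hb)) k).1 hk) (inv_mem hk), ?_⟩
    rw [Subgroup.mem_centralizer_singleton_iff]
    have hζ : ⁅k, z⁆ ∈ Subgroup.centralizer (H : Set G) :=
      hK' (Subgroup.commutator_mem_commutator hk hz)
    have hζk := Subgroup.mem_centralizer_iff.1 hζ k (hH.le_K hk)
    have hζb := Subgroup.mem_centralizer_iff.1 hζ b (hH.le_A hb)
    rw [commutatorElement_def] at hζk hζb
    -- conjugation of `z` by `k`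
    set w := k * z * k⁻¹ * z⁻¹ with hw
    have e1 : k * z * k⁻¹ = w * z := by rw [hw]; group
    have e2 : k⁻¹ * z * k = w⁻¹ * z := by
      calc k⁻¹ * z * k = k⁻¹ * w⁻¹ * (k * z * k⁻¹) * k := by rw [e1]; group
        _ = k⁻¹ * (w⁻¹ * k) * z := by group
        _ = k⁻¹ * (k * w⁻¹) * z := by rw [(Commute.inv_right hζk).eq]
        _ = w⁻¹ * z := by group
    have e3 : b * w⁻¹ * b⁻¹ = w⁻¹ := by
      rw [(Commute.inv_right hζb).eq, mul_inv_cancel_right]
    calc b * k * b⁻¹ * k⁻¹ * z = b * k * b⁻¹ * (k⁻¹ * z * k) * k⁻¹ := by group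
      _ = b * k * b⁻¹ * (w⁻¹ * z) * k⁻¹ := by rw [e2]
      _ = b * k * (b⁻¹ * (w⁻¹ * z) * b) * b⁻¹ * k⁻¹ := by group
      _ = b * k * (w⁻¹ * z) * b⁻¹ * k⁻¹ := by
          congr 3
          have hzb := (hza b hb).eq
          have hwb := (Commute.inv_right hζb).eq
          calc b⁻¹ * (w⁻¹ * z) * b = b⁻¹ * w⁻¹ * (z * b) := by group
            _ = b⁻¹ * w⁻¹ * (b * z) := by rw [hzb]
            _ = b⁻¹ * (w⁻¹ * b) * z := by group
            _ = b⁻¹ * (b * w⁻¹) * z := by rw [hwb]
            _ = w⁻¹ * z := by group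
      _ = b * (k * w⁻¹ * k⁻¹) * (k * z * k⁻¹) * (k * b⁻¹ * k⁻¹) := by group
      _ = b * z * k * b⁻¹ * k⁻¹ := by
          rw [e1, (Commute.inv_right hζk).eq, mul_inv_cancel_right]; group
      _ = z * b * k * b⁻¹ * k⁻¹ := by rw [(hza b hb).eq]
      _ = z * (b * k * b⁻¹ * k⁻¹) := by group
  rw [← Subgroup.zpowers_le, Subgroup.le_centralizer_iff, ← hH.sup_eq]
  refine sup_le (fun k hk => ?_) fun b hb => ?_
  · refine Subgroup.mem_centralizer_iff.2 ?_
    rintro _ ⟨i, rfl⟩
    have h1 : Commute k z := Subgroup.mem_centralizer_singleton_iff.1 (hSK.ge hk).2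
    exact (h1.zpow_right i).eq.symm
  · refine Subgroup.mem_centralizer_iff.2 ?_
    rintro _ ⟨i, rfl⟩
    exact ((hza b hb).zpow_left i).eq

end PairGen

end Cfsg.Agent.H54.PairGen
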