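import Cfsg.Agent.H54.PairGen.Main
import Cfsg.Agent.H28.BaerSuzuki
import Cfsg.Agent.S0205
import Cfsg.Prelude.Def_Solvable

/-!
# Groups generated by subgroups of odd prime order, in pairs generating one group of odd order
-/

set_option autoImplicit false
set_option linter.dupNamespace false
open scoped Pointwise commutatorElement

namespace Cfsg.Agent.H54.PairGen

universe u v

/-- A solvable group, not a `p`-group, generated by any two distinct conjugates of a subgroup of
order `p`, has a commutator subgroup of prime power order and index `p`. -/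
theorem kernel_of_pair {L : Type u} [Group L] [Finite L] {p : ℕ} (hp : p.Prime)
    (hs : Group.IsSolvable L) (hnp : ¬ IsPGroup p L) {A : Subgroup L} (hA : Nat.card A = p)
    (hmin : ∀ g : L, cj g A ≠ A → A ⊔ cj g A = ⊤) (hnn : ∃ g : L, cj g A ≠ A) :
    ∃ q, q.Prime ∧ q ≠ p ∧ IsPGroup q (commutator L) ∧ commutator L ≠ ⊥ ∧
      Nat.card L = Nat.card (commutator L) * p := by
  set L' := commutator L with hL'
  haveI hs' := hs
  obtain ⟨g₀, hg₀⟩ := hnn
  have htop : L' ⊔ A = ⊤ := by
    refine top_le_iff.1 ((hmin g₀ hg₀).ge.trans (sup_le le_sup_right fun y hy => ?_))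
    have h1 : ⁅g₀, g₀⁻¹ * y * g₀⁆ ∈ L' :=
      Subgroup.commutator_mem_commutator (Subgroup.mem_top _) (Subgroup.mem_top _)
    rw [show y = ⁅g₀, g₀⁻¹ * y * g₀⁆ * (g₀⁻¹ * y * g₀) by rw [commutatorElement_def]; group]
    exact mul_mem (Subgroup.mem_sup_left h1) (Subgroup.mem_sup_right (mem_cj.1 hy))
  haveI : Nontrivial L := by
    obtain ⟨a, -, ha1⟩ := exists_gen hp hA
    exact ⟨⟨a, 1, ha1⟩⟩
  have hlt : L' ≠ ⊤ := (Group.IsSolvable.commutator_lt_top_of_nontrivial L).ne
  have hnotle : ¬ A ≤ L' := fun h => hlt (by rw [← htop, sup_eq_left.2 h])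
  have hinf : L' ⊓ A = ⊥ := inf_comm L' A ▸ inf_eq_bot_of_not_le hp hA hnotle
  have hcard : Nat.card L = Nat.card L' * p := by
    have h1 : ((L' ⊔ A : Subgroup L) : Set L) = (L' : Set L) * A := Subgroup.normal_mul _ _
    rw [htop, Subgroup.coe_top] at h1
    rw [← hA]
    exact (Subgroup.IsComplement'.card_mul_card
      (Subgroup.isComplement'_of_disjoint_and_mul_eq_univ (disjoint_iff.2 hinf) h1.symm)).symm
  -- proper invariant subgroups of the commutator subgroup commute with `A`
  have hX : ∀ X : Subgroup L, X ≤ L' → X ≠ L' → A ≤ Subgroup.normalizer (X : Set L) →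
      ∀ x ∈ X, ∀ a ∈ A, Commute x a := by
    intro X hXL hne hnorm x hx a ha
    have hfix : cj x A = A := by
      by_contra hcon
      have h1 : (⊤ : Subgroup L) ≤ X ⊔ A := (hmin x hcon).ge.trans
        (sup_le le_sup_right (cj_le_of_mem le_sup_right (Subgroup.mem_sup_left hx)))
      refine hne (le_antisymm hXL fun l hl => ?_)
      have h2 : l ∈ ((X ⊔ A : Subgroup L) : Set L) := h1 (Subgroup.mem_top l)
      rw [Subgroup.coe_mul_of_right_le_normalizer_left X A hnorm] at h2
      obtain ⟨y, hy, b, hb, rfl⟩ := Set.mem_mul.1 h2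
      have hbL : b ∈ L' := by
        have := mul_mem (inv_mem (hXL hy)) hl
        simpa using this
      rw [Subgroup.mem_bot.1 (hinf.le (Subgroup.mem_inf.2 ⟨hbL, hb⟩)), mul_one]
      exact hy
    have h1 : x * a * x⁻¹ * a⁻¹ ∈ A := mul_mem (hfix ▸ conj_mem_cj ha) (inv_mem ha)
    have h2 : x * a * x⁻¹ * a⁻¹ ∈ L' :=
      Subgroup.commutator_mem_commutator (Subgroup.mem_top _) (Subgroup.mem_top _)
    have h3 := Subgroup.mem_bot.1 (hinf.le (Subgroup.mem_inf.2 ⟨h2, h1⟩))
    rw [mul_inv_eq_one, mul_inv_eq_iff_eq_mul] at h3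
    exact h3
  have hL'1 : L' ≠ ⊥ := by
    intro h
    rw [h, bot_sup_eq] at htop
    exact hg₀ (cj_eq_self_of_mem (htop ▸ Subgroup.mem_top g₀))
  haveI : Nontrivial L' := L'.nontrivial_iff_ne_bot.2 hL'1
  -- the second derived subgroup is central
  have hL''Z : ⁅L', L'⁆ ≤ Subgroup.center L := by
    have hnorm : (⁅L', L'⁆).Normal := Subgroup.commutator_normal L' L'
    have hne : ⁅L', L'⁆ ≠ L' := by
      intro e
      refine (Group.IsSolvable.commutator_lt_top_of_nontrivial L').ne
        (Subgroup.map_injective L'.subtype_injective ?_)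
      rw [Subgroup.map_subtype_commutator, ← MonoidHom.range_eq_map, Subgroup.range_subtype]
      exact e
    have hc := hX _ (Subgroup.commutator_le_right L' L') hne
      (le_top.trans (Subgroup.normalizer_eq_top_iff.2 hnorm).ge)
    intro x hx
    refine Subgroup.mem_center_iff.2 fun g => ?_
    have h1 : (⊤ : Subgroup L) ≤ Subgroup.centralizer ((⁅L', L'⁆ : Subgroup L) : Set L) := by
      refine (hmin g₀ hg₀).ge.trans (sup_le (fun a ha => Subgroup.mem_centralizer_iff.2
        fun y hy => (hc y hy a ha).eq) fun z hz => Subgroup.mem_centralizer_iff.2 fun y hy => ?_)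
      have h2 := (hc _ (hnorm.conj_mem' y hy g₀) _ (mem_cj.1 hz)).map
        (MulAut.conj g₀).toMonoidHom
      simpa [mul_assoc] using h2.eq
    exact (Subgroup.mem_centralizer_iff.1 (h1 (Subgroup.mem_top g)) x hx).symm
  haveI hnil : Group.IsNilpotent L' := by
    refine Subgroup.isNilpotent_of_ker_le_center (Abelianization.of (G := L')) ?_
    rw [Abelianization.ker_of]
    intro x hx
    have h1 : (x : L) ∈ ⁅L', L'⁆ := by
      rw [← Subgroup.map_subtype_commutator]
      exact ⟨x, hx, rfl⟩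
    exact Subgroup.mem_center_iff.2 fun y =>
      Subtype.ext (Subgroup.mem_center_iff.1 (hL''Z h1) y)
  by_cases hone : ∃ ℓ : ℕ, ℓ.Prime ∧ IsPGroup ℓ L'
  · obtain ⟨q, hq, hqL⟩ := hone
    haveI := Fact.mk hq
    refine ⟨q, hq, fun e => hnp ?_, hqL, hL'1, hcard⟩
    subst e
    obtain ⟨j, hj⟩ := hqL.exists_card_eq
    exact IsPGroup.of_card (n := j + 1) (by rw [hcard, hj, pow_succ])
  exfalso
  push Not at hone
  -- `A` centralizes every Sylow subgroup of the commutator subgroup
  set C : Subgroup L' := (Subgroup.centralizer (A : Set L)).subgroupOf L' with hC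
  have hCtop : C = ⊤ := by
    by_contra hCne
    obtain ⟨ℓ, hℓ, hℓd⟩ := Nat.exists_prime_and_dvd
      (fun h => hCne (Subgroup.index_eq_one.1 h))
    haveI := Fact.mk hℓ
    obtain ⟨P⟩ : Nonempty (Sylow ℓ L') := inferInstance
    haveI hPn : (P : Subgroup L').Normal := inferInstance
    haveI := P.characteristic_of_normal hPn
    have hnorm : ((P : Subgroup L').map L'.subtype).Normal :=
      ConjAct.normal_of_characteristic_of_normal
    have hne : (P : Subgroup L').map L'.subtype ≠ L' := fun e =>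
      hone ℓ hℓ (e ▸ P.isPGroup'.map L'.subtype)
    have hc := hX _ (Subgroup.map_subtype_le _) hne
      (le_top.trans (Subgroup.normalizer_eq_top_iff.2 hnorm).ge)
    have hPC : (P : Subgroup L') ≤ C := fun x hx => by
      rw [hC, Subgroup.mem_subgroupOf, Subgroup.mem_centralizer_iff]
      exact fun a ha => (hc x ⟨x, hx, rfl⟩ a ha).eq.symm
    exact P.not_dvd_index (hℓd.trans (Subgroup.index_dvd_of_le hPC))
  refine hg₀ (cj_eq_iff.2 ?_)
  have h1 : (⊤ : Subgroup L) ≤ Subgroup.normalizer (A : Set L) := by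
    rw [← htop]
    refine sup_le (fun x hx => Subgroup.centralizer_le_normalizer _ ?_) Subgroup.le_normalizer
    have : (⟨x, hx⟩ : L') ∈ C := hCtop ▸ Subgroup.mem_top _
    exact Subgroup.mem_subgroupOf.1 this
  exact h1 (Subgroup.mem_top g₀)

variable {G : Type u} [Group G] [Finite G] {p : ℕ} {D : Set (Subgroup G)} {F : Type v} [Group F]
  [Finite F]

/-- The hypothesis of the structure theorem. -/
theorem pairGen_of_odd (hG : ¬ IsMulCommutative G) (hp : p.Prime) (hp2 : p ≠ 2)
    (hDp : ∀ A ∈ D, Nat.card ↥A = p) (hDinv : ∀ A ∈ D, ∀ g : G, cj g A ∈ D)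
    (hgen : sSup D = ⊤) (hF : Odd (Nat.card F))
    (hpair : ∀ A ∈ D, ∀ B ∈ D, A ≠ B → Nonempty (↥(A ⊔ B) ≃* F)) :
    ∃ q, PairGen G p q D F := by
  haveI := Fact.mk hp
  -- two members do not commute
  obtain ⟨A₁, hA₁, B₁, hB₁, a₁, ha₁, b₁, hb₁, hnc⟩ :
      ∃ A ∈ D, ∃ B ∈ D, ∃ a ∈ A, ∃ b ∈ B, ¬ Commute a b := by
    by_contra hall
    push Not at hall
    refine hG ⟨⟨fun x y => ?_⟩⟩
    have h1 : sSup D ≤ Subgroup.center G := sSup_le fun B hB b hb =>
      Subgroup.mem_center_iff.2 fun z => by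
        have h2 : sSup D ≤ Subgroup.centralizer ({b} : Set G) := sSup_le fun A hA a ha =>
          Subgroup.mem_centralizer_singleton_iff.2 (hall A hA B hB a ha b hb).eq
        exact Subgroup.mem_centralizer_singleton_iff.1 (h2 (hgen ▸ Subgroup.mem_top z))
    exact (Subgroup.mem_center_iff.1 (h1 (hgen ▸ Subgroup.mem_top x)) y).symm
  have hAB₁ : A₁ ≠ B₁ := by
    rintro rfl
    rw [eq_zpowers_of_card_prime hp (hDp A₁ hA₁) ha₁ (fun h => hnc (h ▸ Commute.one_left _))]
      at hb₁
    obtain ⟨i, rfl⟩ := hb₁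
    exact hnc ((Commute.refl a₁).zpow_right i)
  obtain ⟨e⟩ := hpair A₁ hA₁ B₁ hB₁ hAB₁
  have hFnc : ¬ ∀ x y : F, Commute x y := fun h => hnc (by
    have h1 : Commute (⟨a₁, Subgroup.mem_sup_left ha₁⟩ : ↥(A₁ ⊔ B₁))
        ⟨b₁, Subgroup.mem_sup_right hb₁⟩ := e.injective (by
      rw [map_mul, map_mul]; exact (h _ _).eq)
    exact congrArg Subtype.val h1.eq)
  -- `F` is not a `p`-group
  have hFp : ¬ IsPGroup p F := by
    intro hFpg
    have hpg : IsPGroup p G := by
      have h1 : IsPGroup p ↥(sSup D) := by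
        refine H28.isPGroup_sSup_of_pairwise D hDinv fun Y hY Z hZ => ?_
        rcases eq_or_ne Y Z with rfl | hYZ
        · rw [sup_idem]
          exact IsPGroup.of_card (n := 1) (by rw [pow_one]; exact hDp Y hY)
        · obtain ⟨e'⟩ := hpair Y hY Z hZ hYZ
          exact hFpg.of_equiv e'.symm
      rw [hgen] at h1
      exact h1.of_equiv Subgroup.topEquiv
    haveI : Group.IsNilpotent G := hpg.isNilpotent
    -- some member is not normal
    obtain ⟨A, hA, hAn⟩ : ∃ A ∈ D, Subgroup.normalizer (A : Set G) ≠ ⊤ := by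
      by_contra hall
      push Not at hall
      refine hnc ?_
      have h2 : a₁ * b₁ * a₁⁻¹ * b₁⁻¹ ∈ A₁ ⊓ B₁ := by
        refine Subgroup.mem_inf.2 ⟨?_, mul_mem
          ((Subgroup.mem_normalizer_iff.1 (hall B₁ hB₁ ▸ Subgroup.mem_top a₁) b₁).1 hb₁)
          (inv_mem hb₁)⟩
        have := mul_mem ha₁
          ((Subgroup.mem_normalizer_iff.1 (hall A₁ hA₁ ▸ Subgroup.mem_top b₁) _).1 (inv_mem ha₁))
        convert this using 1
        group
      have h4 : A₁ ⊓ B₁ = ⊥ := inf_eq_bot_of_not_le hp (hDp A₁ hA₁) fun hle =>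
        hAB₁ (eq_of_le_of_card_prime hp (hDp B₁ hB₁) hle (ne_bot_of_card_prime hp (hDp A₁ hA₁)))
      have h3 := Subgroup.mem_bot.1 (h4.le h2)
      rw [mul_inv_eq_one, mul_inv_eq_iff_eq_mul] at h3
      exact h3
    have hlt : Subgroup.normalizer (A : Set G) <
        Subgroup.normalizer (Subgroup.normalizer (A : Set G) : Set G) :=
      Group.normalizerCondition_of_isNilpotent _ (lt_top_iff_ne_top.2 hAn)
    obtain ⟨g, hg, hgn⟩ := SetLike.exists_of_lt hlt
    have hne : A ≠ cj g A := fun h => hgn (cj_eq_iff.1 h.symm)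
    have hle : cj g A ≤ Subgroup.normalizer (A : Set G) :=
      (cj_mono Subgroup.le_normalizer).trans (cj_eq_iff.2 hg).le
    have hle' : A ≤ Subgroup.normalizer (cj g A : Set G) := by
      intro x hx
      refine cj_eq_iff.1 ?_
      have h1 : g⁻¹ * x * g ∈ Subgroup.normalizer (A : Set G) := by
        have := (Subgroup.mem_normalizer_iff.1 (inv_mem hg) x).1 (Subgroup.le_normalizer hx)
        simpa using this
      have h2 := congrArg (cj g) (cj_eq_iff.2 h1)
      rwa [← cj_mul, show g * (g⁻¹ * x * g) = x * g by group, cj_mul] at h2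
    obtain ⟨e'⟩ := hpair A hA _ (hDinv A hA g) hne
    refine hFnc fun x y => ?_
    have hinf : A ⊓ cj g A = ⊥ := inf_eq_bot_of_not_le hp (hDp A hA) fun h =>
      hne (eq_of_le_of_card_prime hp (by rw [card_cj]; exact hDp A hA) h
        (ne_bot_of_card_prime hp (hDp A hA)))
    have hcomm : ∀ a ∈ A, ∀ b ∈ cj g A, Commute a b := fun a ha b hb => by
      have h2 : a * b * a⁻¹ * b⁻¹ ∈ A ⊓ cj g A := by
        refine Subgroup.mem_inf.2 ⟨?_, mul_mem
          ((Subgroup.mem_normalizer_iff.1 (hle' ha) b).1 hb) (inv_mem hb)⟩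
        have := mul_mem ha ((Subgroup.mem_normalizer_iff.1 (hle hb) _).1 (inv_mem ha))
        convert this using 1
        group
      have h3 := Subgroup.mem_bot.1 (hinf.le h2)
      rw [mul_inv_eq_one, mul_inv_eq_iff_eq_mul] at h3
      exact h3
    have habel : ∀ X : Subgroup G, Nat.card X = p → ∀ a ∈ X, ∀ b ∈ X, Commute a b := by
      intro X hX a ha b hb
      rcases eq_or_ne a 1 with rfl | ha1
      · exact Commute.one_left _
      rw [eq_zpowers_of_card_prime hp hX ha ha1] at hb
      obtain ⟨i, rfl⟩ := hb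
      exact (Commute.refl a).zpow_right i
    have hcen : A ⊔ cj g A ≤ Subgroup.centralizer ((A ⊔ cj g A : Subgroup G) : Set G) := by
      refine sup_le (Subgroup.le_centralizer_iff.1 (sup_le ?_ ?_))
        (Subgroup.le_centralizer_iff.1 (sup_le ?_ ?_))
      · exact fun a ha => Subgroup.mem_centralizer_iff.2 fun b hb =>
          (habel A (hDp A hA) b hb a ha).eq
      · exact fun a ha => Subgroup.mem_centralizer_iff.2 fun b hb => (hcomm b hb a ha).eq
      · exact fun a ha => Subgroup.mem_centralizer_iff.2 fun b hb => (hcomm a ha b hb).eq.symm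
      · exact fun a ha => Subgroup.mem_centralizer_iff.2 fun b hb =>
          (habel _ (by rw [card_cj]; exact hDp A hA) b hb a ha).eq
    have h1 : Commute (e'.symm x) (e'.symm y) := Subtype.ext
      (Subgroup.mem_centralizer_iff.1 (hcen (e'.symm y).2) _ (e'.symm x).2)
    simpa using h1.map e'.toMonoidHom
  -- the structure of the line through `A₁` and `B₁`
  have hLodd : Odd (Nat.card ↥(A₁ ⊔ B₁)) := by rw [Nat.card_congr e.toEquiv]; exact hF
  have hsol := S0205.result hLodd
  set L := A₁ ⊔ B₁ with hL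
  have hnp : ¬ IsPGroup p L := fun h => hFp (h.of_equiv e)
  set A' := A₁.subgroupOf L with hA'
  have hmapA : A'.map L.subtype = A₁ := Subgroup.map_subgroupOf_eq_of_le le_sup_left
  have hcA : Nat.card A' = p := by
    rw [← hDp A₁ hA₁, Nat.card_congr (Subgroup.subgroupOfEquivOfLe le_sup_left).toEquiv]
  have hmapcj : ∀ x : L, (cj x A').map L.subtype = cj (x : G) A₁ := fun x => by
    rw [← hmapA, cj, cj, Subgroup.map_map, Subgroup.map_map]
    rfl
  have hmin : ∀ x : L, cj x A' ≠ A' → A' ⊔ cj x A' = ⊤ := by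
    intro x hx
    refine Subgroup.map_injective L.subtype_injective ?_
    rw [Subgroup.map_sup, hmapA, hmapcj, ← MonoidHom.range_eq_map, Subgroup.range_subtype]
    have hne : A₁ ≠ cj (x : G) A₁ := fun h =>
      hx (Subgroup.map_injective L.subtype_injective (by rw [hmapcj, hmapA, ← h]))
    obtain ⟨e'⟩ := hpair A₁ hA₁ _ (hDinv A₁ hA₁ x) hne
    exact Subgroup.eq_of_le_of_card_ge (sup_le le_sup_left (cj_le_of_mem le_sup_left x.2))
      (by rw [Nat.card_congr e'.toEquiv, Nat.card_congr e.toEquiv])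
  have hnn : ∃ x : L, cj x A' ≠ A' := by
    by_contra hall
    push Not at hall
    refine hnp ?_
    have hB : B₁ ≤ Subgroup.normalizer (A₁ : Set G) := fun b hb => cj_eq_iff.1 (by
      have := hmapcj ⟨b, Subgroup.mem_sup_right hb⟩
      rw [hall, hmapA] at this
      exact this.symm)
    exact IsPGroup.to_sup_of_normal_left'
      (IsPGroup.of_card (n := 1) (by rw [pow_one]; exact hDp A₁ hA₁))
      (IsPGroup.of_card (n := 1) (by rw [pow_one]; exact hDp B₁ hB₁)) hB
  obtain ⟨q, hq, hqp, hqL, hL1, hcard⟩ := kernel_of_pair hp hsol hnp hcA hmin hnn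
  haveI := Fact.mk hq
  have hq2 : q ≠ 2 := by
    rintro rfl
    obtain ⟨j, hj⟩ := hqL.exists_card_eq
    rcases j with _ | j
    · exact hL1 (Subgroup.card_eq_one.1 (by rw [hj, pow_zero]))
    · rw [hcard, hj, pow_succ] at hLodd
      exact Nat.not_even_iff_odd.2 hLodd ⟨2 ^ j * p, by ring⟩
  have hnorm : ((commutator ↥L).map e.toMonoidHom).Normal :=
    Subgroup.Normal.map inferInstance _ e.surjective
  refine ⟨q, hp, hp2, hq, hq2, hqp.symm, hDp, hDinv, hpair,
    (commutator ↥L).map e.toMonoidHom, hnorm, hqL.map _, ?_, ?_⟩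
  · intro h
    exact hL1 ((Subgroup.map_eq_bot_iff_of_injective _ e.injective).1 h)
  · rw [Subgroup.card_map_of_injective e.injective, ← hcard, Nat.card_congr e.toEquiv]

/-- The factor group by the centre has odd order and a Frobenius complement. -/
theorem odd_frobenius_quotient {q : ℕ} {F : Type v} [Group F] (h : PairGen G p q D F)
    (hG : ¬ IsMulCommutative G) (hgen : sSup D = ⊤) :
    Odd (Nat.card (G ⧸ Subgroup.center G)) ∧
      ∃ H : Subgroup (G ⧸ Subgroup.center G), Cfsg.IsFrobeniusComplement H := by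
  haveI := Fact.mk h.hq
  obtain ⟨A, hA⟩ : D.Nonempty := by
    by_contra hD
    rw [Set.not_nonempty_iff_eq_empty] at hD
    rw [hD, sSup_empty] at hgen
    refine hG ⟨⟨fun x y => ?_⟩⟩
    rw [Subgroup.mem_bot.1 (hgen.ge (Subgroup.mem_top x)), one_mul, mul_one]
  obtain ⟨K, hK⟩ := exists_isKA p q (Nat.card G) G le_rfl D h hgen A hA
  have hcA := h.card A hA
  obtain ⟨a₀, ha₀, ha₀1⟩ := exists_gen h.hp hcA
  have hgenTop : IsGenBy D (⊤ : Subgroup G) := by
    have := isGenBy_sSup (D := D) (S := D) le_rfl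
    rwa [hgen] at this
  have hcen : ∀ k ∈ K, Commute k a₀ → k ∈ Subgroup.center G := fun k hk hc => by
    have h1 := h.central_of_commute hA hK hgenTop hk ha₀ ha₀1 hc
    rwa [Subgroup.coe_top, Subgroup.centralizer_univ] at h1
  have hAZ : A ⊓ Subgroup.center G = ⊥ := inf_eq_bot_of_not_le h.hp hcA fun hle => hG ⟨⟨by
    intro x y
    have h1 : sSup D ≤ Subgroup.center G := sSup_le fun B hB => by
      obtain ⟨g, rfl⟩ := h.exists_conj hA hB
      intro z hz
      have h2 := (inferInstance : (Subgroup.center G).Normal).conj_mem _ (hle (mem_cj.1 hz)) g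
      simpa [mul_assoc] using h2
    exact (Subgroup.mem_center_iff.1 (h1 (hgen ▸ Subgroup.mem_top x)) y).symm⟩⟩
  have hZK : Subgroup.center G ≤ K := by
    intro z hz
    obtain ⟨k, hk, a, ha, rfl⟩ := hK.exists_mul (Subgroup.mem_top z)
    have hza : ∀ b : G, Commute (k * a) b := fun b => (Subgroup.mem_center_iff.1 hz b).symm
    have haa : Commute a a₀ := by
      rw [eq_zpowers_of_card_prime h.hp hcA ha₀ ha₀1] at ha
      obtain ⟨i, rfl⟩ := ha
      exact (Commute.refl a₀).zpow_left i
    have hka : Commute k a₀ := by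
      have := (hza a₀).mul_left haa.inv_left
      simpa using this
    have hkZ := hcen k hk hka
    have haZ : a ∈ Subgroup.center G := by
      have := mul_mem (inv_mem hkZ) hz
      simpa using this
    rw [Subgroup.mem_bot.1 (hAZ.le (Subgroup.mem_inf.2 ⟨ha, haZ⟩)), mul_one]
    exact hk
  set mk := QuotientGroup.mk' (Subgroup.center G) with hmk
  refine ⟨?_, A.map mk, ?_, ?_, ?_⟩
  · obtain ⟨j, hj⟩ := hK.pgroup.exists_card_eq
    have h1 := hK.card_eq h.hp h.hq h.hpq hcA
    rw [Subgroup.card_top, hj] at h1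
    refine Odd.of_dvd_nat ?_ (Subgroup.card_quotient_dvd_card (Subgroup.center G))
    rw [h1]
    exact ((h.hq.odd_of_ne_two h.hq2).pow).mul (h.hp.odd_of_ne_two h.hp2)
  · intro he
    rw [Subgroup.map_eq_bot_iff, QuotientGroup.ker_mk'] at he
    exact ha₀1 (Subgroup.mem_bot.1 (hAZ.le (Subgroup.mem_inf.2 ⟨ha₀, he ha₀⟩)))
  · intro he
    have h1 : (⊤ : Subgroup G) ≤ A ⊔ Subgroup.center G := by
      intro x _
      have h2 : mk x ∈ A.map mk := he ▸ Subgroup.mem_top _
      obtain ⟨a, ha, e⟩ := h2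
      have h3 : a⁻¹ * x ∈ Subgroup.center G := QuotientGroup.eq.1 e
      rw [show x = a * (a⁻¹ * x) by group]
      exact mul_mem (Subgroup.mem_sup_left ha) (Subgroup.mem_sup_right h3)
    have h2 : A ⊔ Subgroup.center G ≤ Subgroup.centralizer ({a₀} : Set G) := by
      refine sup_le (fun a ha => ?_) (Subgroup.center_le_centralizer _)
      rw [eq_zpowers_of_card_prime h.hp hcA ha₀ ha₀1] at ha
      obtain ⟨i, rfl⟩ := ha
      exact Subgroup.mem_centralizer_singleton_iff.2 ((Commute.refl a₀).zpow_left i).eq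
    have h3 : a₀ ∈ Subgroup.center G := Subgroup.mem_center_iff.2 fun g =>
      Subgroup.mem_centralizer_singleton_iff.1 (h2 (h1 (Subgroup.mem_top g)))
    exact ha₀1 (Subgroup.mem_bot.1 (hAZ.le (Subgroup.mem_inf.2 ⟨ha₀, h3⟩)))
  · intro g hg
    obtain ⟨x, rfl⟩ := QuotientGroup.mk'_surjective (Subgroup.center G) g
    refine (Subgroup.eq_bot_iff_forall _).2 fun y hy => ?_
    obtain ⟨h1, h2⟩ := Subgroup.mem_inf.1 hy
    obtain ⟨a, ha, rfl⟩ := h1
    rw [Subgroup.mem_pointwise_smul_iff_inv_smul_mem] at h2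
    obtain ⟨a', ha', e⟩ := h2
    rw [← map_inv, MulAut.smul_def, MulAut.conj_apply, inv_inv] at e
    by_contra hy1
    apply hg
    -- `a' = (x⁻¹ * a * x) * z` with `z` central
    set z := (x⁻¹ * a * x)⁻¹ * a' with hz
    have hzZ : z ∈ Subgroup.center G := by
      refine QuotientGroup.eq.1 ?_
      show mk (x⁻¹ * a * x) = mk a'
      rw [e, map_mul, map_mul, map_inv]
    have hpow : ∀ b ∈ A, b ^ p = 1 := fun b hb => by
      have h3 := pow_card_eq_one' (x := (⟨b, hb⟩ : A))
      rw [hcA] at h3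
      simpa using congrArg Subtype.val h3
    have hz1 : z = 1 := by
      have hzp : z ^ p = 1 := by
        have hc : Commute (x⁻¹ * a * x) z := Subgroup.mem_center_iff.1 hzZ _
        have h3 : (x⁻¹ * a * x * z) ^ p = 1 := by
          rw [hz, mul_inv_cancel_left]
          exact hpow a' ha'
        have h5 := conj_pow (i := p) (a := x⁻¹) (b := a)
        rw [inv_inv, hpow a ha, mul_one, inv_mul_cancel] at h5
        rwa [hc.mul_pow, h5, one_mul] at h3
      obtain ⟨j, hj⟩ := hK.pgroup ⟨z, hZK hzZ⟩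
      have hj' : z ^ q ^ j = 1 := by simpa using congrArg Subtype.val hj
      have h6 := Nat.dvd_gcd (orderOf_dvd_of_pow_eq_one hj') (orderOf_dvd_of_pow_eq_one hzp)
      rw [((Nat.coprime_primes h.hq h.hp).2 (Ne.symm h.hpq)).pow_left j] at h6
      exact orderOf_eq_one_iff.1 (Nat.dvd_one.1 h6)
    have ha'eq : a' = x⁻¹ * a * x := by
      have h3 := hz1
      rw [hz, inv_mul_eq_one] at h3
      exact h3.symm
    have ha1 : a ≠ 1 := fun h => hy1 (by rw [h, map_one])
    have hfix : cj x A = A := by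
      refine eq_of_le_of_card_prime h.hp hcA ?_ (ne_bot_of_card_prime h.hp (by rw [card_cj]; exact hcA))
      have ha'1 : a' ≠ 1 := fun h => ha1 (by
        rw [show a = x * (x⁻¹ * a * x) * x⁻¹ by group, ← ha'eq, h, mul_one, mul_inv_cancel])
      rw [eq_zpowers_of_card_prime h.hp hcA ha' ha'1, cj, MonoidHom.map_zpowers,
        Subgroup.zpowers_le]
      have : (MulAut.conj x).toMonoidHom a' = a := by
        rw [MulEquiv.toMonoidHom_eq_coe, MonoidHom.coe_coe, MulAut.conj_apply, ha'eq]
        group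
      rw [this, ← eq_zpowers_of_card_prime h.hp hcA ha' ha'1]
      exact ha
    obtain ⟨k, hk, b, hb, rfl⟩ := hK.exists_mul (Subgroup.mem_top x)
    rw [cj_mul, cj_eq_self_of_mem hb] at hfix
    have hkZ := hcen k hk (hK.commute_of_cj_eq h.hp h.hq h.hpq hcA hk ha₀ hfix)
    refine ⟨b, hb, ?_⟩
    show mk b = mk (k * b)
    rw [map_mul, show mk k = 1 from (QuotientGroup.eq_one_iff k).2 hkZ, one_mul]

end Cfsg.Agent.H54.PairGen
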