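import Cfsg.Agent.H54.PairGen.Quad
import Cfsg.Agent.H19.Cores

/-!
# An involution fixing points in two classes modulo `O_q(G)` is contradictory
-/

set_option autoImplicit false
set_option linter.dupNamespace false
open scoped Pointwise commutatorElement

namespace Cfsg.Agent.H54.PairGen

universe u v

variable {G : Type u} [Group G]

/-- The situation of a minimal counterexample. -/
structure Min (G : Type u) [Group G] (p q : ℕ) (D : Set (Subgroup G)) (F : Type v) [Group F] :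
    Prop where
  pg : PairGen G p q D F
  gen : sSup D = ⊤
  sub : ∀ H : Subgroup G, IsGenBy D H → H ≠ ⊤ → ∀ A ∈ D, A ≤ H → ∃ K, IsKA q H A K
  solv : ∀ N : Subgroup G, N.Normal → Group.IsSolvable N → N ≤ Cfsg.pCore q G
  notKA : ∀ A ∈ D, Cfsg.pCore q G ⊔ A ≠ ⊤

/-- The members of `D` centralised by `t`. -/
def fixedPts (D : Set (Subgroup G)) (t : G) : Set (Subgroup G) :=
  {B | B ∈ D ∧ ∀ b ∈ B, Commute b t}

/-- The subgroup generated by the members of `D` centralised by `t`. -/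
def fixedSup (D : Set (Subgroup G)) (t : G) : Subgroup G := sSup (fixedPts D t)

/-- Proper subgroups generated by members of `D` above the fixed points of `t`. -/
def IsOver (D : Set (Subgroup G)) (t : G) (J : Subgroup G) : Prop :=
  IsGenBy D J ∧ J ≠ ⊤ ∧ fixedSup D t ≤ J

variable [Finite G] {p q : ℕ} {D : Set (Subgroup G)} {F : Type v} [Group F] {t : G}
  {C : Subgroup G}

theorem fixedSup_le_centralizer : fixedSup D t ≤ Subgroup.centralizer ({t} : Set G) :=
  sSup_le fun _ hB b hb => Subgroup.mem_centralizer_singleton_iff.2 (hB.2 b hb).eq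

theorem cj_sSup_le {g : G} {S : Set (Subgroup G)} {T : Subgroup G}
    (h : ∀ B ∈ S, cj g B ≤ T) : cj g (sSup S) ≤ T :=
  Subgroup.map_le_iff_le_comap.2 (sSup_le fun B hB => Subgroup.map_le_iff_le_comap.1 (h B hB))

theorem cj_eq_of_le {g : G} {S : Subgroup G} (h : cj g S ≤ S) : cj g S = S :=
  Subgroup.eq_of_le_of_card_ge h (by rw [card_cj])

theorem cj_fixedSup (hD : ∀ A ∈ D, ∀ g : G, cj g A ∈ D) {g : G} (hg : Commute g t) :
    cj g (fixedSup D t) = fixedSup D t := by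
  refine cj_eq_of_le (cj_sSup_le fun B hB => le_sSup ⟨hD B hB.1 g, fun b hb => ?_⟩)
  have h1 := hB.2 _ (mem_cj.1 hb)
  have e : b = g * (g⁻¹ * b * g) * g⁻¹ := by group
  rw [e]
  exact (hg.mul_left h1).mul_left hg.inv_left

theorem fixedSup_conj (hD : ∀ A ∈ D, ∀ g : G, cj g A ∈ D) {z : G} :
    fixedSup D (z⁻¹ * t * z) = cj z⁻¹ (fixedSup D t) := by
  refine le_antisymm (sSup_le fun B hB => ?_) (cj_sSup_le fun B hB => le_sSup ⟨hD B hB.1 _, ?_⟩)
  · rw [← cj_inv_cj z B]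
    refine cj_mono (le_sSup ⟨hD B hB.1 z, fun b hb => ?_⟩)
    have h1 := hB.2 _ (mem_cj.1 hb)
    calc b * t = z * ((z⁻¹ * b * z) * (z⁻¹ * t * z)) * z⁻¹ := by group
      _ = t * b := by rw [h1.eq]; group
  · intro b hb
    have h1 := hB.2 _ (mem_cj.1 hb)
    calc b * (z⁻¹ * t * z) = z⁻¹ * ((z⁻¹⁻¹ * b * z⁻¹) * t) * z := by group
      _ = z⁻¹ * t * z * b := by rw [h1.eq]; group

/-- A subgroup of odd order, centralising and normalised by the centralizer of `t`, lies in the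
core of the centralizer. -/
theorem le_core {N : Subgroup G} (hN : Odd (Nat.card N))
    (hc : N ≤ Subgroup.centralizer ({t} : Set G))
    (hn : Subgroup.centralizer ({t} : Set G) ≤ Subgroup.normalizer (N : Set G)) :
    N ≤ Cfsg.centralizerPPrimeCore 2 t := by
  set Ct := Subgroup.centralizer ({t} : Set G) with hCt
  have h1 : (N.subgroupOf Ct).Normal := ⟨fun x hx g => by
    rw [Subgroup.mem_subgroupOf] at hx ⊢
    exact (Subgroup.mem_normalizer_iff.1 (hn g.2) _).1 hx⟩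
  intro x hx
  refine ⟨⟨x, hc hx⟩, H19.le_pPrimeCore h1 ?_ (by rw [Subgroup.mem_subgroupOf]; exact hx), rfl⟩
  rw [Nat.card_congr (Subgroup.subgroupOfEquivOfLe hc).toEquiv]
  exact Nat.coprime_two_right.2 hN

namespace Min

theorem center_le (m : Min G p q D F) : Subgroup.center G ≤ Cfsg.pCore q G :=
  m.solv _ inferInstance (Group.isSolvable_of_comm fun a b =>
    Subtype.ext (Subgroup.mem_center_iff.1 b.2 a))

theorem center_isPGroup (m : Min G p q D F) : IsPGroup q (Subgroup.center G) :=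
  haveI := Fact.mk m.pg.hq
  (H19.pCore_isPGroup q).to_le m.center_le

theorem odd_of_isPGroup (m : Min G p q D F) {N : Subgroup G} (hN : IsPGroup q N) :
    Odd (Nat.card N) := by
  haveI := Fact.mk m.pg.hq
  obtain ⟨n, hn⟩ := hN.exists_card_eq
  rw [hn]
  exact (m.pg.hq.odd_of_ne_two m.pg.hq2).pow

theorem not_mem_center (m : Min G p q D F) (ht : orderOf t = 2) : t ∉ Subgroup.center G := by
  intro h
  have h1 := (m.odd_of_isPGroup m.center_isPGroup).of_dvd_nat
    (Subgroup.orderOf_dvd_natCard _ h)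
  rw [ht] at h1
  exact absurd h1 (by decide)

theorem fixedSup_ne_top (m : Min G p q D F) (ht : orderOf t = 2) : fixedSup D t ≠ ⊤ := by
  intro h
  refine m.not_mem_center ht (Subgroup.mem_center_iff.2 fun g => ?_)
  exact Subgroup.mem_centralizer_singleton_iff.1 (fixedSup_le_centralizer (h ▸ Subgroup.mem_top g))

theorem mul_self_of_ht (ht : orderOf t = 2) : t * t = 1 := by
  rw [← pow_two, ← ht, pow_orderOf_eq_one]

theorem isOver_fixedSup (m : Min G p q D F) (ht : orderOf t = 2) : IsOver D t (fixedSup D t) :=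
  ⟨isGenBy_sSup fun _ h => h.1, m.fixedSup_ne_top ht, le_rfl⟩

/-- A point normalised by `t` is centralised. -/
theorem fixed_of_cj_eq (m : Min G p q D F) (hC : C ∈ fixedPts D t) {B : Subgroup G}
    (hB : B ∈ D) (hfix : cj t B = B) : B ∈ fixedPts D t := by
  rcases eq_or_ne C B with rfl | hne
  · exact hC
  refine ⟨hB, fun b hb => ?_⟩
  obtain ⟨Q, -, hQ⟩ := m.pg.line hC.1 hB hne
  have hCc : cj t C = C := cj_eq_iff.2 (Subgroup.centralizer_le_normalizer _
    (Subgroup.mem_centralizer_iff.2 fun c hc => (hC.2 c hc).eq))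
  have hL : cj t (C ⊔ B) = C ⊔ B := by rw [cj_sup, hCc, hfix]
  have hA := m.pg.card C hC.1
  have hQt := hQ.cj_K_eq m.pg.hp m.pg.hq m.pg.hpq hA hL
  obtain ⟨k, hk, c, hc, e⟩ := hQ.exists_mul ((le_sup_right : B ≤ C ⊔ B) hb)
  have h1 : b⁻¹ * (t * b * t⁻¹) ∈ B := mul_mem (inv_mem hb) (hfix ▸ conj_mem_cj hb)
  have h2 : b⁻¹ * (t * b * t⁻¹) ∈ Q := by
    have hct : t * c * t⁻¹ = c := by rw [← (hC.2 c hc).eq, mul_inv_cancel_right]
    have hk' : t * k * t⁻¹ ∈ Q := hQt ▸ conj_mem_cj hk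
    have h3 := (Subgroup.mem_normalizer_iff.1 (hQ.norm (inv_mem (hQ.le_A hc))) _).1
      (mul_mem (inv_mem hk) hk')
    convert h3 using 1
    rw [← e]
    calc (k * c)⁻¹ * (t * (k * c) * t⁻¹) = c⁻¹ * (k⁻¹ * (t * k * t⁻¹)) * (t * c * t⁻¹) := by group
      _ = c⁻¹ * (k⁻¹ * (t * k * t⁻¹)) * c⁻¹⁻¹ := by rw [hct, inv_inv]
  obtain ⟨k', hk', e'⟩ := hQ.exists_cj m.pg.hp m.pg.hq m.pg.hpq hA (m.pg.card B hB) le_sup_right
  have h3 := (hQ.change_point hk').inf_eq_bot m.pg.hp m.pg.hq m.pg.hpq (by rw [card_cj, hA])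
  rw [← e'] at h3
  have h4 := Subgroup.mem_bot.1 (h3.le ⟨h2, h1⟩)
  rw [inv_mul_eq_one, eq_mul_inv_iff_mul_eq] at h4
  exact h4

/-- A moved point spans, with its image, a line with a fixed point. -/
theorem exists_line_fixed (m : Min G p q D F) (ht : orderOf t = 2) (hC : C ∈ fixedPts D t)
    {B : Subgroup G} (hB : B ∈ D) (hBt : B ∉ fixedPts D t) :
    cj t B ≠ B ∧ cj t (B ⊔ cj t B) = B ⊔ cj t B ∧ ∃ P ∈ fixedPts D t, P ≤ B ⊔ cj t B ∧ B ≠ P ∧
      B ⊔ P = B ⊔ cj t B := by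
  have hne : cj t B ≠ B := fun e => hBt (m.fixed_of_cj_eq hC hB e)
  have htt := mul_self_of_ht ht
  have hL : cj t (B ⊔ cj t B) = B ⊔ cj t B := by
    rw [cj_sup, ← cj_mul, htt, cj_one, sup_comm]
  obtain ⟨Q, -, hQ⟩ := m.pg.line hB (m.pg.conj B hB t) (Ne.symm hne)
  obtain ⟨k, hk, hfix⟩ := hQ.exists_fixed_point m.pg.hp m.pg.hq m.pg.hpq m.pg.hq2
    (m.pg.card B hB) htt hL
  have hPD := m.pg.conj B hB k
  have hP := m.fixed_of_cj_eq hC hPD hfix
  have hPle : cj k B ≤ B ⊔ cj t B := cj_le_of_mem le_sup_left (hQ.le_K hk)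
  have hBP : B ≠ cj k B := fun e => hBt (e.symm ▸ hP)
  exact ⟨hne, hL, _, hP, hPle, hBP,
    m.pg.line_eq hB (m.pg.conj B hB t) (Ne.symm hne) hB hPD hBP le_sup_left hPle⟩

/-- Subgroups generated by points and containing all fixed points are `t`-invariant. -/
theorem cj_eq_of_over (m : Min G p q D F) (ht : orderOf t = 2) (hC : C ∈ fixedPts D t)
    {J : Subgroup G} (hJ : IsGenBy D J) (hWJ : fixedSup D t ≤ J) : cj t J = J := by
  refine cj_eq_of_le ((cj_mono hJ).trans (cj_sSup_le ?_))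
  rintro B ⟨hB, hBJ⟩
  by_cases hBt : B ∈ fixedPts D t
  · have h1 : cj t B = B := cj_eq_iff.2 (Subgroup.centralizer_le_normalizer _
      (Subgroup.mem_centralizer_iff.2 fun c hc => (hBt.2 c hc).eq))
    exact h1.le.trans hBJ
  obtain ⟨-, -, P, hP, -, -, e⟩ := m.exists_line_fixed ht hC hB hBt
  calc cj t B ≤ B ⊔ cj t B := le_sup_right
    _ = B ⊔ P := e.symm
    _ ≤ J := sup_le hBJ ((le_sSup hP).trans hWJ)

theorem over_isKA (m : Min G p q D F) (hC : C ∈ fixedPts D t) {J : Subgroup G}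
    (hJ : IsOver D t J) : ∃ K, IsKA q J C K :=
  m.sub J hJ.1 hJ.2.1 C hC.1 ((le_sSup hC).trans hJ.2.2)

/-- A class of `K` modulo the centre fixed by `t` meets the fixed point subgroup. -/
theorem mem_sup_of_fixed (m : Min G p q D F) (hC : C ∈ fixedPts D t) {J K Kw : Subgroup G}
    (hJ : IsOver D t J) (hK : IsKA q J C K) (hKw : IsKA q (fixedSup D t) C Kw) {k : G}
    (hk : k ∈ K) (hfix : k⁻¹ * (t * k * t⁻¹) ∈ Subgroup.centralizer (J : Set G)) :
    k ∈ Kw ⊔ (K ⊓ Subgroup.centralizer (J : Set G)) := by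
  have hA := m.pg.card C hC.1
  obtain ⟨c, hc, hc1⟩ := exists_gen m.pg.hp hA
  have hCJ : C ≤ J := hK.le_A
  have hCt : cj t C = C := cj_eq_iff.2 (Subgroup.centralizer_le_normalizer _
    (Subgroup.mem_centralizer_iff.2 fun c hc => (hC.2 c hc).eq))
  have hfixC : cj t (cj k C) = cj k C := by
    set z := k⁻¹ * (t * k * t⁻¹) with hz
    have hzC : cj z C = C := IsKA.cj_eq_of_commute m.pg.hp hA hc hc1
      (show Commute z c from (Subgroup.mem_centralizer_iff.1 hfix c (hCJ hc)).symm)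
    have e : t * k = k * z * t := by rw [hz]; group
    rw [← cj_mul, e, cj_mul, hCt, cj_mul, hzC]
  have hP := m.fixed_of_cj_eq hC (m.pg.conj C hC.1 k) hfixC
  obtain ⟨w, hw, e⟩ := hKw.exists_cj m.pg.hp m.pg.hq m.pg.hpq hA (by rw [card_cj, hA]) (le_sSup hP)
  have hwJ : w ∈ K := hK.le_K_of_isPGroup m.pg.hp m.pg.hq m.pg.hpq hA hKw.pgroup
    (hKw.le_K.trans hJ.2.2) hw
  have h1 : cj (w⁻¹ * k) C = C := by rw [cj_mul, e, cj_inv_cj]
  have h2 := hK.commute_of_cj_eq m.pg.hp m.pg.hq m.pg.hpq hA (mul_mem (inv_mem hwJ) hk) hc h1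
  have h3 := m.pg.central_of_commute hC.1 hK hJ.1 (mul_mem (inv_mem hwJ) hk) hc hc1 h2
  rw [show k = w * (w⁻¹ * k) by group]
  exact mul_mem (Subgroup.mem_sup_left hw)
    (Subgroup.mem_sup_right (Subgroup.mem_inf.2 ⟨K.mul_mem (K.inv_mem hwJ) hk, h3⟩))

/-- An involution inverts modulo the fixed point kernel and the centre. -/
theorem mul_conj_mem (m : Min G p q D F) (hQ : ¬ QAbelian q F) (ht : orderOf t = 2)
    (hC : C ∈ fixedPts D t) {J K Kw : Subgroup G} (hJ : IsOver D t J) (hK : IsKA q J C K)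
    (hKw : IsKA q (fixedSup D t) C Kw) {u : G} (hu : u ∈ K) :
    u * (t * u * t⁻¹) ∈ Kw ⊔ (K ⊓ Subgroup.centralizer (J : Set G)) := by
  have htt := mul_self_of_ht ht
  have hu' : t * u * t⁻¹ ∈ K := by
    have := conj_mem_cj (g := t) hu
    rwa [hK.cj_K_eq m.pg.hp m.pg.hq m.pg.hpq (m.pg.card C hC.1)
      (m.cj_eq_of_over ht hC hJ.1 hJ.2.2)] at this
  refine m.mem_sup_of_fixed hC hJ hK hKw (mul_mem hu hu') ?_
  have hmem := m.pg.commutator_central hQ hC.1 hK hJ.1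
    (Subgroup.commutator_mem_commutator (inv_mem hu') (inv_mem hu))
  convert hmem using 1
  have e1 : t * (t * u * t⁻¹) * t⁻¹ = u := by
    calc t * (t * u * t⁻¹) * t⁻¹ = (t * t) * u * (t * t)⁻¹ := by group
      _ = u := by rw [htt]; group
  calc (u * (t * u * t⁻¹))⁻¹ * (t * (u * (t * u * t⁻¹)) * t⁻¹)
      = (u * (t * u * t⁻¹))⁻¹ * ((t * u * t⁻¹) * (t * (t * u * t⁻¹) * t⁻¹)) := by group
    _ = ⁅(t * u * t⁻¹)⁻¹, u⁻¹⁆ := by rw [e1, commutatorElement_def]; group

/-- The subgroup of `C(C)` normalising all proper subgroups over the fixed points and acting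
trivially on them modulo the fixed points and the centre. -/
theorem exists_kernel (m : Min G p q D F) (ht : orderOf t = 2) (hC : C ∈ fixedPts D t)
    {Kw : Subgroup G} (hKw : IsKA q (fixedSup D t) C Kw) :
    ∃ N : Subgroup G, ∀ g : G, g ∈ N ↔ ((∀ c ∈ C, Commute g c) ∧ ∀ J K : Subgroup G,
      IsOver D t J → IsKA q J C K → cj g J = J ∧
        ∀ k ∈ K, ⁅g, k⁆ ∈ Kw ⊔ (K ⊓ Subgroup.centralizer (J : Set G))) := by
  have hA := m.pg.card C hC.1
  have hW := m.isOver_fixedSup ht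
  set P : G → Prop := fun g => (∀ c ∈ C, Commute g c) ∧ ∀ J K : Subgroup G,
      IsOver D t J → IsKA q J C K → cj g J = J ∧
        ∀ k ∈ K, ⁅g, k⁆ ∈ Kw ⊔ (K ⊓ Subgroup.centralizer (J : Set G)) with hP
  have hM : ∀ g, P g → ∀ J K : Subgroup G, IsOver D t J → IsKA q J C K →
      cj g (Kw ⊔ (K ⊓ Subgroup.centralizer (J : Set G))) =
        Kw ⊔ (K ⊓ Subgroup.centralizer (J : Set G)) := by
    intro g hg J K hJ hK
    obtain ⟨hgJ, -⟩ := hg.2 J K hJ hK
    obtain ⟨hgW, -⟩ := hg.2 _ Kw hW hKw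
    rw [cj_sup, hKw.cj_K_eq m.pg.hp m.pg.hq m.pg.hpq hA hgW]
    congr 1
    refine cj_eq_of_le fun x hx => ?_
    obtain ⟨h1, h2⟩ := Subgroup.mem_inf.1 (mem_cj.1 hx)
    refine Subgroup.mem_inf.2 ⟨?_, Subgroup.mem_centralizer_iff.2 fun y hy => ?_⟩
    · have := conj_mem_cj (g := g) h1
      rw [hK.cj_K_eq m.pg.hp m.pg.hq m.pg.hpq hA hgJ] at this
      simpa [mul_assoc] using this
    · have hy' : g⁻¹ * y * g ∈ J := by rw [← hgJ] at hy; exact mem_cj.1 hy
      have h3 := Subgroup.mem_centralizer_iff.1 h2 _ hy'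
      calc y * x = g * (g⁻¹ * y * g * (g⁻¹ * x * g)) * g⁻¹ := by group
        _ = x * y := by rw [h3]; group
  refine ⟨{ carrier := {g | P g}, one_mem' := ?_, mul_mem' := ?_, inv_mem' := ?_ }, fun g => Iff.rfl⟩
  · intro g h hg hh
    refine ⟨fun c hc => (hg.1 c hc).mul_left (hh.1 c hc), fun J K hJ hK => ⟨?_, fun k hk => ?_⟩⟩
    · rw [cj_mul, (hh.2 J K hJ hK).1, (hg.2 J K hJ hK).1]
    · have e : ⁅g * h, k⁆ = g * ⁅h, k⁆ * g⁻¹ * ⁅g, k⁆ := by simp only [commutatorElement_def]; group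
      rw [e]
      refine mul_mem ?_ ((hg.2 J K hJ hK).2 k hk)
      rw [← hM g hg J K hJ hK]
      exact conj_mem_cj ((hh.2 J K hJ hK).2 k hk)
  · exact ⟨fun c _ => Commute.one_left c, fun J K _ _ => ⟨cj_one J, fun k _ => by
      rw [commutatorElement_one_left]; exact one_mem _⟩⟩
  · intro g hg
    refine ⟨fun c hc => (hg.1 c hc).inv_left, fun J K hJ hK => ⟨?_, fun k hk => ?_⟩⟩
    · conv_lhs => rw [← (hg.2 J K hJ hK).1]
      exact cj_inv_cj g J
    · have e : ⁅g⁻¹, k⁆ = g⁻¹ * ⁅g, k⁆⁻¹ * g := by simp only [commutatorElement_def]; group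
      rw [e]
      have h1 := inv_mem ((hg.2 J K hJ hK).2 k hk)
      rw [← hM g hg J K hJ hK] at h1
      exact mem_cj.1 h1

/-- The commutators `[k, w]` of `K` with the fixed point kernel lie in the kernel. -/
theorem cross_mem_kernel (m : Min G p q D F) (hQ : ¬ QAbelian q F) (ht : orderOf t = 2)
    (hC : C ∈ fixedPts D t) {Kw N : Subgroup G} (hKw : IsKA q (fixedSup D t) C Kw)
    (hN : ∀ g : G, g ∈ N ↔ ((∀ c ∈ C, Commute g c) ∧ ∀ J K : Subgroup G,
      IsOver D t J → IsKA q J C K → cj g J = J ∧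
        ∀ k ∈ K, ⁅g, k⁆ ∈ Kw ⊔ (K ⊓ Subgroup.centralizer (J : Set G))))
    {J K : Subgroup G} (hJ : IsOver D t J) (hK : IsKA q J C K) {k w : G} (hk : k ∈ K)
    (hw : w ∈ Kw) : ⁅k, w⁆ ∈ N := by
  haveI := Fact.mk m.pg.hq
  have hp := m.pg.hp; have hq := m.pg.hq; have hpq := m.pg.hpq
  have hA := m.pg.card C hC.1
  have hW := m.isOver_fixedSup ht
  have htt := mul_self_of_ht ht
  have hCt : cj t C = C := cj_eq_iff.2 (Subgroup.centralizer_le_normalizer _
    (Subgroup.mem_centralizer_iff.2 fun c hc => (hC.2 c hc).eq))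
  have hKwt : ∀ u ∈ Kw, Commute u t := fun u hu =>
    Subgroup.mem_centralizer_singleton_iff.1 (fixedSup_le_centralizer (hKw.le_K hu))
  have hsub : ∀ {J K : Subgroup G}, IsOver D t J → IsKA q J C K → Kw ≤ K := fun hJ hK =>
    hK.le_K_of_isPGroup hp hq hpq hA hKw.pgroup (hKw.le_K.trans hJ.2.2)
  have hcK : ∀ {J K : Subgroup G}, IsOver D t J → IsKA q J C K → ∀ a ∈ K, ∀ b ∈ K,
      ⁅a, b⁆ ∈ Subgroup.centralizer (J : Set G) := fun hJ hK a ha b hb =>
    m.pg.commutator_central hQ hC.1 hK hJ.1 (Subgroup.commutator_mem_commutator ha hb)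
  have hwK := hsub hJ hK hw
  set Z := Subgroup.centralizer (J : Set G) with hZd
  set z := ⁅k, w⁆ with hz
  have hzZ : z ∈ Z := hcK hJ hK k hk w hwK
  have hzK : z ∈ K := PairGen.commutator_mem_K hK hk hwK
  have hzc : ∀ c ∈ C, Commute z c := fun c hc =>
    (Subgroup.mem_centralizer_iff.1 hzZ c (hK.le_A hc)).symm
  -- the class of `k kᵗ`
  have hv := m.mul_conj_mem hQ ht hC hJ hK hKw hk
  rw [← SetLike.mem_coe, Subgroup.coe_mul_of_right_le_normalizer_left Kw _
    (show K ⊓ Z ≤ Subgroup.normalizer (Kw : Set G) from fun x hx =>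
      Subgroup.centralizer_le_normalizer _ ((Subgroup.centralizer_le (hKw.le_K.trans hJ.2.2)) hx.2))]
    at hv
  obtain ⟨w₁, hw₁, ζ, hζ, hv⟩ := Set.mem_mul.1 hv
  set ζ' := ⁅w₁, w⁆ with hζ'
  have hw₁K := hsub hJ hK hw₁
  have hζ'w : ζ' ∈ Kw := PairGen.commutator_mem_K hKw hw₁ hw
  have hζ'c : ∀ c ∈ C, Commute ζ' c := fun c hc =>
    (Subgroup.mem_centralizer_iff.1 (hcK hW hKw w₁ hw₁ w hw) c (hKw.le_A hc)).symm
  have hζ'Z : ∀ {J' K' : Subgroup G}, IsOver D t J' → IsKA q J' C K' →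
      ζ' ∈ Subgroup.centralizer (J' : Set G) := by
    intro J' K' hJ' hK'
    obtain ⟨c, hc, hc1⟩ := exists_gen hp hA
    exact m.pg.central_of_commute hC.1 hK' hJ'.1 (hsub hJ' hK' hζ'w) hc hc1 (hζ'c c hc)
  have hζ'N : ζ' ∈ N := by
    refine (hN ζ').2 ⟨hζ'c, fun J' K' hJ' hK' => ⟨?_, fun k' hk' => ?_⟩⟩
    · exact cj_eq_iff.2 (Subgroup.centralizer_le_normalizer _ (hζ'Z hJ' hK'))
    · rw [commutatorElement_eq_one_iff_mul_comm.2
        (Subgroup.mem_centralizer_iff.1 (hζ'Z hJ' hK') k' (hK'.le_K hk')).symm]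
      exact one_mem _
  -- the image of `z` under `t`
  have hzt : t * z * t⁻¹ = ζ' * z⁻¹ := by
    have hwt : t * w * t⁻¹ = w := by rw [← (hKwt w hw).eq, mul_inv_cancel_right]
    have e1 : t * z * t⁻¹ = ⁅t * k * t⁻¹, w⁆ := by
      rw [hz, show ⁅t * k * t⁻¹, w⁆ = ⁅t * k * t⁻¹, t * w * t⁻¹⁆ by rw [hwt]]
      simp only [commutatorElement_def]; group
    have e2 : t * k * t⁻¹ = k⁻¹ * (w₁ * ζ) := by rw [hv]; group
    have hk1 : Commute k⁻¹ ⁅w₁ * ζ, w⁆ := Subgroup.mem_centralizer_iff.1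
      (hcK hJ hK (w₁ * ζ) (mul_mem hw₁K hζ.1) w hwK) _ (inv_mem (hK.le_K hk))
    have hζw : ⁅w₁ * ζ, w⁆ = ζ' := by
      have h1 : ⁅ζ, w⁆ = 1 := commutatorElement_eq_one_iff_mul_comm.2
        (Subgroup.mem_centralizer_iff.1 hζ.2 w (hK.le_K hwK)).symm
      have e : ⁅w₁ * ζ, w⁆ = w₁ * ⁅ζ, w⁆ * w₁⁻¹ * ⁅w₁, w⁆ := by
        simp only [commutatorElement_def]; group
      rw [e, h1, mul_one, mul_inv_cancel, one_mul]
    have hki : ⁅k⁻¹, w⁆ = z⁻¹ := by
      have e : ⁅k⁻¹, w⁆ = k⁻¹ * z⁻¹ * k := by simp only [hz, commutatorElement_def]; group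
      have h1 : Commute k⁻¹ z⁻¹ :=
        (show Commute k z from Subgroup.mem_centralizer_iff.1 hzZ k (hK.le_K hk)).inv_inv
      rw [e, h1.eq, inv_mul_cancel_right]
    have e : ⁅k⁻¹ * (w₁ * ζ), w⁆ = k⁻¹ * ⁅w₁ * ζ, w⁆ * k⁻¹⁻¹ * ⁅k⁻¹, w⁆ := by
      simp only [commutatorElement_def]; group
    rw [e1, e2, e, hk1.eq, mul_inv_cancel_right, hζw, hki]
  -- conjugation by `z` preserves every subgroup over the fixed points
  set s := z⁻¹ * t * z with hs
  have hzW : cj z (fixedSup D t) = fixedSup D t :=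
    cj_eq_iff.2 (Subgroup.centralizer_le_normalizer _ ((Subgroup.centralizer_le hJ.2.2) hzZ))
  have hsJ : ∀ {J' : Subgroup G}, IsOver D t J' → cj s J' = J' := by
    intro J' hJ'
    have h1 : IsGenBy D (cj z J') := (cj_mono hJ'.1).trans (cj_sSup_le fun B hB =>
      le_sSup ⟨m.pg.conj B hB.1 z, cj_mono hB.2⟩)
    have h2 := m.cj_eq_of_over ht hC h1 (hzW.ge.trans (cj_mono hJ'.2.2))
    rw [hs, cj_mul, cj_mul, h2, cj_inv_cj]
  have hts : t * s = z * z * ζ'⁻¹ := by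
    have h1 : Commute ζ' z :=
      Subgroup.mem_centralizer_iff.1 hzZ _ (hJ.2.2 (hKw.le_K hζ'w))
    calc t * s = (t * z * t⁻¹)⁻¹ * z * (z⁻¹ * (t * t) * z) := by rw [hs]; group
      _ = z * ζ'⁻¹ * z := by rw [hzt, htt]; group
      _ = z * (ζ'⁻¹ * z) := mul_assoc _ _ _
      _ = z * (z * ζ'⁻¹) := by rw [h1.inv_left.eq]
      _ = z * z * ζ'⁻¹ := (mul_assoc _ _ _).symm
  have hzz : z * z ∈ N := by
    have h1 : t * s ∈ N := by
      refine (hN _).2 ⟨fun c hc => ?_, fun J' K' hJ' hK' => ⟨?_, fun k' hk' => ?_⟩⟩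
      · exact ((hC.2 c hc).symm).mul_left
          (((hzc c hc).inv_left.mul_left (hC.2 c hc).symm).mul_left (hzc c hc))
      · rw [cj_mul, hsJ hJ', m.cj_eq_of_over ht hC hJ'.1 hJ'.2.2]
      · set M' := Kw ⊔ (K' ⊓ Subgroup.centralizer (J' : Set G)) with hM'
        have hM'K : M' ≤ K' := sup_le (hsub hJ' hK') inf_le_left
        have hnorm : ∀ u ∈ K', ∀ x ∈ M', u * x * u⁻¹ ∈ M' := fun u hu x hx => by
          rw [show u * x * u⁻¹ = ⁅u, x⁆ * x by rw [commutatorElement_def]; group]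
          exact mul_mem (Subgroup.mem_sup_right
            ⟨PairGen.commutator_mem_K hK' hu (hM'K hx), hcK hJ' hK' u hu x (hM'K hx)⟩) hx
        have hcjM : ∀ {g : G}, cj g J' = J' → cj g (fixedSup D t) = fixedSup D t →
            ∀ x ∈ M', g * x * g⁻¹ ∈ M' := by
          intro g hgJ hgW x hx
          have h3 : cj g M' ≤ M' := by
            rw [hM', cj_sup, hKw.cj_K_eq hp hq hpq hA hgW]
            refine sup_le_sup_left (fun y hy => ?_) _
            obtain ⟨h4, h5⟩ := Subgroup.mem_inf.1 (mem_cj.1 hy)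
            refine Subgroup.mem_inf.2 ⟨?_, Subgroup.mem_centralizer_iff.2 fun j hj => ?_⟩
            · have := conj_mem_cj (g := g) h4
              rw [hK'.cj_K_eq hp hq hpq hA hgJ] at this
              simpa [mul_assoc] using this
            · have hj' : g⁻¹ * j * g ∈ J' := by rw [← hgJ] at hj; exact mem_cj.1 hj
              have h6 := Subgroup.mem_centralizer_iff.1 h5 _ hj'
              calc j * y = g * (g⁻¹ * j * g * (g⁻¹ * y * g)) * g⁻¹ := by group
                _ = y * j := by rw [h6]; group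
          exact h3 (conj_mem_cj hx)
        have htJ := m.cj_eq_of_over ht hC hJ'.1 hJ'.2.2
        have htK : ∀ u ∈ K', t * u * t⁻¹ ∈ K' := fun u hu =>
          hK'.cj_K_eq hp hq hpq hA htJ ▸ conj_mem_cj hu
        have hfix : fixedSup D s = fixedSup D t := by
          rw [hs, fixedSup_conj m.pg.conj, ← hzW, cj_inv_cj, hzW]
        have hso : orderOf s = 2 := by
          rw [hs, show z⁻¹ * t * z = MulAut.conj z⁻¹ t by simp, MulEquiv.orderOf_eq, ht]
        have hCs : C ∈ fixedPts D s := ⟨hC.1, fun c hc =>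
          ((hzc c hc).symm.inv_right.mul_right (hC.2 c hc)).mul_right (hzc c hc).symm⟩
        -- `t` and `s` both invert modulo `M'`
        have h2 := m.mul_conj_mem hQ ht hC hJ' hK' hKw hk'
        have h3 : k' * (s * k' * s⁻¹) ∈ M' :=
          m.mul_conj_mem hQ hso hCs (J := J') ⟨hJ'.1, hJ'.2.1, hfix.le.trans hJ'.2.2⟩ hK'
            (by rwa [hfix]) hk'
        have h4 := hcjM htJ (cj_fixedSup m.pg.conj (Commute.refl t)) _ h3
        have e : ⁅t * s, k'⁆ = (k' * (t * k' * t⁻¹))⁻¹ *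
            (k' * (t * (k' * (s * k' * s⁻¹)) * t⁻¹) * k'⁻¹) := by
          simp only [commutatorElement_def]; group
        rw [e]
        exact mul_mem (inv_mem h2) (hnorm k' hk' _ h4)
    have := mul_mem h1 hζ'N
    rwa [hts, inv_mul_cancel_right] at this
  obtain ⟨n, hn⟩ := hK.pgroup ⟨z, hzK⟩
  have hodd : Odd (orderOf z) := ((hq.odd_of_ne_two m.pg.hq2).pow).of_dvd_nat
    (orderOf_dvd_of_pow_eq_one (by simpa using congrArg Subtype.val hn : z ^ q ^ n = 1))
  obtain ⟨j, hj⟩ := hodd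
  have : z = (z * z) ^ (j + 1) := by
    rw [← pow_two, ← pow_mul, show 2 * (j + 1) = orderOf z + 1 by omega, pow_succ,
      pow_orderOf_eq_one, one_mul]
  rw [this]
  exact pow_mem hzz _


/-- There is a greatest proper subgroup generated by points above the fixed points of `t`. -/
theorem exists_greatest (m : Min G p q D F) (hQ : ¬ QAbelian q F) (ht : orderOf t = 2)
    (hC : C ∈ fixedPts D t) (hout : ¬ fixedSup D t ≤ Cfsg.pCore q G ⊔ C) :
    ∃ M, IsOver D t M ∧ ∀ J, IsOver D t J → J ≤ M := by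
  haveI := Fact.mk m.pg.hq
  have hp := m.pg.hp; have hq := m.pg.hq; have hpq := m.pg.hpq
  have hA := m.pg.card C hC.1
  have hW := m.isOver_fixedSup ht
  obtain ⟨Kw, hKw⟩ := m.over_isKA hC hW
  obtain ⟨N, hN⟩ := m.exists_kernel ht hC hKw
  set P : Subgroup G := (Cfsg.pCore q N).map N.subtype with hP
  have hPN : P ≤ N := Subgroup.map_subtype_le _
  have hPp : IsPGroup q P := (H19.pCore_isPGroup (G := N) q).map _
  have hPmem : ∀ (J K : Subgroup G), IsOver D t J → IsKA q J C K → ∀ z ∈ K, z ∈ N →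
      z ∈ Subgroup.centralizer (J : Set G) → z ∈ P := by
    intro J K hJ hK z hz hzN hzZ
    set S : Subgroup G := K ⊓ Subgroup.centralizer (J : Set G) with hS
    have hn : (S.subgroupOf N).Normal := ⟨fun x hx g => by
      rw [Subgroup.mem_subgroupOf] at hx ⊢
      obtain ⟨h1, h2⟩ := Subgroup.mem_inf.1 hx
      obtain ⟨hgJ, -⟩ := ((hN g).1 g.2).2 J K hJ hK
      refine Subgroup.mem_inf.2 ⟨hK.cj_K_eq hp hq hpq hA hgJ ▸ conj_mem_cj h1,
        Subgroup.mem_centralizer_iff.2 fun j hj => ?_⟩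
      have hj' : (g : G)⁻¹ * j * g ∈ J := by rw [← hgJ] at hj; exact mem_cj.1 hj
      have h6 := Subgroup.mem_centralizer_iff.1 h2 _ hj'
      show j * ((g : G) * x * (g : G)⁻¹) = (g : G) * x * (g : G)⁻¹ * j
      calc j * ((g : G) * x * (g : G)⁻¹)
          = (g : G) * ((g : G)⁻¹ * j * g * x) * (g : G)⁻¹ := by group
        _ = (g : G) * x * (g : G)⁻¹ * j := by rw [h6]; group⟩
    have hq' : IsPGroup q (S.subgroupOf N) :=
      (hK.pgroup.to_le inf_le_left).comap_of_injective N.subtype N.subtype_injective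
    exact ⟨⟨z, hzN⟩, H19.le_pCore hn hq' (Subgroup.mem_subgroupOf.2 (Subgroup.mem_inf.2 ⟨hz, hzZ⟩)),
      rfl⟩
  have hPW : P ≤ Subgroup.normalizer (Kw : Set G) := fun g hg =>
    cj_eq_iff.1 (hKw.cj_K_eq hp hq hpq hA (((hN g).1 (hPN hg)).2 _ Kw hW hKw).1)
  set Y := Kw ⊔ P with hY
  have hYp : IsPGroup q Y := IsPGroup.to_sup_of_normal_left' hKw.pgroup hPp hPW
  have hCP : ∀ x ∈ P, ∀ c ∈ C, Commute x c := fun x hx => ((hN x).1 (hPN hx)).1
  have hYC : C ≤ Subgroup.normalizer (Y : Set G) := by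
    intro c hc
    rw [← cj_eq_iff]
    refine cj_eq_of_le ?_
    rw [hY, cj_sup, cj_eq_iff.2 (hKw.norm (hKw.le_A hc))]
    refine sup_le_sup_left (fun y hy => ?_) _
    have h1 := mem_cj.1 hy
    have e : y = c⁻¹ * y * c := by
      have h2 : Commute (c⁻¹ * y * c) c := hCP _ h1 c hc
      calc y = c * (c⁻¹ * y * c) * c⁻¹ := by group
        _ = c⁻¹ * y * c := by rw [← h2.eq, mul_inv_cancel_right]
    rwa [e]
  -- all subgroups over the fixed points normalise `Y`
  have hover : ∀ J, IsOver D t J → J ≤ Subgroup.normalizer (Y : Set G) := by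
    intro J hJ
    obtain ⟨K, hK⟩ := m.over_isKA hC hJ
    have hKwK : Kw ≤ K := hK.le_K_of_isPGroup hp hq hpq hA hKw.pgroup (hKw.le_K.trans hJ.2.2)
    set Z := Subgroup.centralizer (J : Set G) with hZ
    have hcross : ∀ a ∈ K, ∀ w ∈ Kw, ⁅a, w⁆ ∈ P := fun a ha w hw =>
      hPmem J K hJ hK _ (PairGen.commutator_mem_K hK ha (hKwK hw))
        (m.cross_mem_kernel hQ ht hC hKw hN hJ hK ha hw)
        (m.pg.commutator_central hQ hC.1 hK hJ.1 (Subgroup.commutator_mem_commutator ha (hKwK hw)))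
    set S : Subgroup G := K ⊓ Subgroup.normalizer (Y : Set G) with hS
    have hSC : C ≤ Subgroup.normalizer (S : Set G) := by
      intro c hc
      rw [← cj_eq_iff]
      refine cj_eq_of_le fun y hy => ?_
      obtain ⟨h1, h2⟩ := Subgroup.mem_inf.1 (mem_cj.1 hy)
      refine Subgroup.mem_inf.2 ⟨?_, ?_⟩
      · have := (Subgroup.mem_normalizer_iff.1 (hK.norm (hK.le_A hc)) _).1 h1
        simpa [mul_assoc] using this
      · have h3 := mul_mem (mul_mem (hYC hc) h2) (inv_mem (hYC hc))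
        simpa [mul_assoc] using h3
    have hSK : S = K := by
      refine hK.eq_of_commutator_mem hp hq hpq hA m.pg.card hJ.1 inf_le_left hSC ?_
      intro k hk c hc
      set d := c * k * c⁻¹ * k⁻¹ with hd
      have hdK : d ∈ K := mul_mem ((Subgroup.mem_normalizer_iff.1
        (hK.norm (hK.le_A hc)) k).1 hk) (inv_mem hk)
      refine Subgroup.mem_inf.2 ⟨hdK, cj_eq_iff.1 (cj_eq_of_le ?_)⟩
      rw [hY, cj_sup]
      refine sup_le (fun y hy => ?_) (fun y hy => ?_)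
      · have h1 := mem_cj.1 hy
        have e : y = ⁅d, d⁻¹ * y * d⁆ * (d⁻¹ * y * d) := by rw [commutatorElement_def]; group
        rw [e]
        exact mul_mem (Subgroup.mem_sup_right (hcross d hdK _ h1)) (Subgroup.mem_sup_left h1)
      · have hx := mem_cj.1 hy
        set x := d⁻¹ * y * d with hxd
        have e0 : y = d * x * d⁻¹ := by rw [hxd]; group
        rw [e0]
        obtain ⟨-, hxN⟩ := ((hN x).1 (hPN hx)).2 J K hJ hK
        have h4 := inv_mem (hxN k hk)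
        rw [commutatorElement_inv, ← SetLike.mem_coe,
          Subgroup.coe_mul_of_right_le_normalizer_left Kw _
          (show K ⊓ Z ≤ Subgroup.normalizer (Kw : Set G) from fun z hz =>
            Subgroup.centralizer_le_normalizer _
              ((Subgroup.centralizer_le (hKw.le_K.trans hJ.2.2)) hz.2))] at h4
        obtain ⟨w, hw, ζ, hζ, h4⟩ := Set.mem_mul.1 h4
        have hζJ : ∀ u ∈ J, Commute u ζ := fun u hu => Subgroup.mem_centralizer_iff.1 hζ.2 u hu
        have hwJ : w ∈ J := hK.le_K (hKwK hw)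
        have hcx : c * x * c⁻¹ = x := by rw [← (hCP x hx c hc).eq, mul_inv_cancel_right]
        have hb : ⁅c * k * c⁻¹, x⁆ = c * w * c⁻¹ * ζ := by
          calc ⁅c * k * c⁻¹, x⁆ = ⁅c * k * c⁻¹, c * x * c⁻¹⁆ := by rw [hcx]
            _ = c * ⁅k, x⁆ * c⁻¹ := by simp only [commutatorElement_def]; group
            _ = c * w * (ζ * c⁻¹) := by rw [← h4]; group
            _ = c * w * c⁻¹ * ζ := by rw [← ((hζJ c (hK.le_A hc)).inv_left).eq]; group
        have hdx : ⁅d, x⁆ = (d * w * d⁻¹)⁻¹ * (c * w * c⁻¹) := by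
          have e1 : ⁅d, x⁆ = (d * ⁅k, x⁆ * d⁻¹)⁻¹ * ⁅c * k * c⁻¹, x⁆ := by
            rw [hd]; simp only [commutatorElement_def]; group
          have e2 : d * ⁅k, x⁆ * d⁻¹ = d * w * d⁻¹ * ζ := by
            rw [← h4]
            calc d * (w * ζ) * d⁻¹ = d * w * (ζ * d⁻¹) := by group
              _ = d * w * d⁻¹ * ζ := by rw [← ((hζJ d (hK.le_K hdK)).inv_left).eq]; group
          have hcw : Commute (c * w * c⁻¹) ζ :=
            hζJ _ (mul_mem (mul_mem (hK.le_A hc) hwJ) (inv_mem (hK.le_A hc)))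
          have hdw : Commute ((d * w * d⁻¹)⁻¹) ζ⁻¹ :=
            (hζJ _ (mul_mem (mul_mem (hK.le_K hdK) hwJ) (inv_mem (hK.le_K hdK)))).inv_inv
          rw [e1, e2, hb, mul_inv_rev, ← hdw.eq, hcw.eq]
          group
        rw [show d * x * d⁻¹ = ⁅d, x⁆ * x by rw [commutatorElement_def]; group, hdx,
          show d * w * d⁻¹ = ⁅d, w⁆ * w by rw [commutatorElement_def]; group]
        exact mul_mem (mul_mem (inv_mem (mul_mem (Subgroup.mem_sup_right (hcross d hdK w hw))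
          (Subgroup.mem_sup_left hw))) (Subgroup.mem_sup_left
            ((Subgroup.mem_normalizer_iff.1 (hKw.norm (hKw.le_A hc)) w).1 hw)))
          (Subgroup.mem_sup_right hx)
    calc J = K ⊔ C := hK.sup_eq.symm
      _ ≤ Subgroup.normalizer (Y : Set G) := sup_le (hSK.ge.trans inf_le_right) hYC
  refine ⟨sSup {B | B ∈ D ∧ B ≤ Subgroup.normalizer (Y : Set G)},
    ⟨isGenBy_sSup fun _ h => h.1, fun e => hout ?_, ?_⟩, fun J hJ => ?_⟩
  · have hnorm : Y.Normal := Subgroup.normalizer_eq_top_iff.1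
      (top_le_iff.1 (e.ge.trans (sSup_le fun B hB => hB.2)))
    have hYR : Y ≤ Cfsg.pCore q G := H19.le_pCore hnorm hYp
    rw [← hKw.sup_eq]
    exact sup_le (le_sup_left.trans (hYR.trans le_sup_left)) le_sup_right
  · exact hW.1.trans (sSup_le fun B hB => le_sSup ⟨hB.1, hB.2.trans (hover _ hW)⟩)
  · exact hJ.1.trans (sSup_le fun B hB => le_sSup ⟨hB.1, hB.2.trans (hover J hJ)⟩)

end Min

end Cfsg.Agent.H54.PairGen
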