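import Cfsg.Agent.H54.PairGen.Reflect
import Cfsg.Agent.H28.ZStar
import Cfsg.Agent.S0205

/-!
# A minimal counterexample has no involutions, hence does not exist
-/

set_option autoImplicit false
set_option linter.dupNamespace false
open scoped Pointwise commutatorElement

namespace Cfsg.Agent.H54.PairGen

universe u v

variable {G : Type u} [Group G] [Finite G] {p q : ℕ} {D : Set (Subgroup G)} {F : Type v} [Group F]
  {H A K : Subgroup G}

/-- An element of `H` outside `K` has a power generating a conjugate of `A`. -/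
theorem IsKA.exists_point (h : IsKA q H A K) (hp : p.Prime) (hq : q.Prime) (hpq : p ≠ q)
    (hA : Nat.card A = p) {x : G} (hx : x ∈ H) (hxK : x ∉ K) :
    ∃ k ∈ K, cj k A ≤ Subgroup.zpowers x := by
  haveI := Fact.mk hq
  haveI := Fact.mk hp
  obtain ⟨n, hn⟩ := h.pgroup.exists_card_eq
  have hm1 : x ^ q ^ n ≠ 1 := fun e => hxK (h.mem_K hp hq hpq hA hx e)
  have hmp : (x ^ q ^ n) ^ p = 1 := by
    rw [← pow_mul, ← hn, ← h.card_eq hp hq hpq hA, ← orderOf_dvd_iff_pow_eq_one]
    exact Subgroup.orderOf_dvd_natCard H hx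
  have hc : Nat.card (Subgroup.zpowers (x ^ q ^ n)) = p := by
    rw [Nat.card_zpowers, orderOf_eq_prime hmp hm1]
  obtain ⟨k, hk, e⟩ := h.exists_cj hp hq hpq hA hc (Subgroup.zpowers_le.2 (pow_mem hx _))
  exact ⟨k, hk, e ▸ Subgroup.zpowers_le.2 (pow_mem (Subgroup.mem_zpowers x) _)⟩

namespace PairGen

/-- A line has an odd number of points. -/
theorem odd_card_line_points (h : PairGen G p q D F) {A B : Subgroup G} (hA : A ∈ D) (hB : B ∈ D)
    (hAB : A ≠ B) : Odd {X | X ∈ D ∧ X ≤ A ⊔ B}.ncard := by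
  haveI := Fact.mk h.hq
  obtain ⟨Q, -, hQ⟩ := h.line hA hB hAB
  set N : Subgroup Q := (Subgroup.normalizer (A : Set G)).subgroupOf Q with hN
  have hiff : ∀ k k' : Q, (k : G)⁻¹ * k' ∈ Subgroup.normalizer (A : Set G) ↔
      cj (k : G) A = cj (k' : G) A := by
    intro k k'
    rw [← cj_eq_iff, cj_mul]
    exact ⟨fun e => by conv_lhs => rw [← e]; rw [cj_cj_inv],
      fun e => by rw [← e, cj_inv_cj]⟩
  have hset : {X | X ∈ D ∧ X ≤ A ⊔ B} = Set.range fun k : Q => cj (k : G) A := by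
    ext X
    constructor
    · rintro ⟨hX, hXL⟩
      obtain ⟨k, hk, e⟩ := hQ.exists_cj h.hp h.hq h.hpq (h.card A hA) (h.card X hX) hXL
      exact ⟨⟨k, hk⟩, e.symm⟩
    · rintro ⟨k, rfl⟩
      exact ⟨h.conj A hA _, cj_le_of_mem le_sup_left (hQ.le_K k.2)⟩
  rw [hset, ← Nat.card_coe_set_eq, ← Nat.card_congr (Equiv.ofBijective
    (fun x : Q ⧸ N => (⟨Quotient.liftOn' x (fun k : Q => cj (k : G) A)
      (fun k k' hkk => (hiff k k').1 (by
        rw [QuotientGroup.leftRel_apply] at hkk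
        simpa [hN, Subgroup.mem_subgroupOf] using hkk)),
      Quotient.inductionOn' x (fun k => ⟨k, rfl⟩)⟩ : Set.range fun k : Q => cj (k : G) A))
    ⟨fun x y => Quotient.inductionOn₂' x y (fun k k' e => Quotient.sound'
      (QuotientGroup.leftRel_apply.2 (by
        rw [hN, Subgroup.mem_subgroupOf]
        exact (hiff k k').2 (congrArg Subtype.val e)))),
      fun ⟨_, k, e⟩ => ⟨Quotient.mk'' k, Subtype.ext e⟩⟩)]
  obtain ⟨n, hn⟩ := hQ.pgroup.exists_card_eq
  refine Odd.of_dvd_nat ?_ (Subgroup.card_quotient_dvd_card N)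
  rw [hn]
  exact (h.hq.odd_of_ne_two h.hq2).pow

/-- The number of points is odd. -/
theorem odd_card (h : PairGen G p q D F) (hne : D.Nonempty) : Odd D.ncard := by
  classical
  haveI := Fintype.ofFinite G
  obtain ⟨A, hA⟩ := hne
  have hfin : D.Finite := Set.toFinite D
  set T := hfin.toFinset.erase A with hT
  have heven : Even T.card := by
    rw [Finset.card_eq_sum_card_fiberwise (f := fun B => A ⊔ B)
      (fun B hB => Finset.mem_image_of_mem _ hB)]
    refine Finset.even_sum _ fun L hL => ?_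
    obtain ⟨B, hB, rfl⟩ := Finset.mem_image.1 hL
    rw [hT, Finset.mem_erase, Set.Finite.mem_toFinset] at hB
    have e : {X ∈ T | A ⊔ X = A ⊔ B} =
        ((Set.toFinite {X | X ∈ D ∧ X ≤ A ⊔ B}).toFinset).erase A := by
      ext X
      simp only [hT, Finset.mem_filter, Finset.mem_erase, Set.Finite.mem_toFinset, Set.mem_setOf_eq]
      constructor
      · rintro ⟨⟨hne, hX⟩, e⟩
        exact ⟨hne, hX, e ▸ le_sup_right⟩
      · rintro ⟨hne, hX, hle⟩
        exact ⟨⟨hne, hX⟩, h.line_eq hA hB.2 (Ne.symm hB.1) hA hX (Ne.symm hne) le_sup_left hle⟩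
    rw [e, Finset.card_erase_of_mem (by
      rw [Set.Finite.mem_toFinset]; exact ⟨hA, le_sup_left⟩),
      ← Set.ncard_eq_toFinset_card _ (Set.toFinite _)]
    obtain ⟨j, hj⟩ := h.odd_card_line_points hA hB.2 (Ne.symm hB.1)
    rw [hj]
    exact ⟨j, by omega⟩
  rw [hT, Finset.card_erase_of_mem ((Set.Finite.mem_toFinset _).2 hA),
    ← Set.ncard_eq_toFinset_card _ hfin] at heven
  have hpos : 0 < D.ncard := (Set.ncard_pos hfin).2 ⟨A, hA⟩
  obtain ⟨j, hj⟩ := heven
  exact ⟨j, by omega⟩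

end PairGen

namespace Min

theorem core_isKA (_m : Min G p q D F) [Fact q.Prime] (A : Subgroup G) :
    IsKA q (Cfsg.pCore q G ⊔ A) A (Cfsg.pCore q G) :=
  ⟨H19.pCore_isPGroup q, rfl, fun g _ => (Subgroup.normalizer_eq_top_iff.2
    (H19.pCore_normal q G)).ge (Subgroup.mem_top g)⟩

theorem class_eq_of_le (m : Min G p q D F) {A B : Subgroup G} (hA : A ∈ D) (hB : B ∈ D)
    (h : A ≤ Cfsg.pCore q G ⊔ B) : Cfsg.pCore q G ⊔ A = Cfsg.pCore q G ⊔ B := by
  haveI := Fact.mk m.pg.hq
  refine Subgroup.eq_of_le_of_card_ge (sup_le le_sup_left h) ?_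
  rw [(m.core_isKA A).card_eq m.pg.hp m.pg.hq m.pg.hpq (m.pg.card A hA),
    (m.core_isKA B).card_eq m.pg.hp m.pg.hq m.pg.hpq (m.pg.card B hB)]

theorem cj_class (g : G) (A : Subgroup G) :
    cj g (Cfsg.pCore q G ⊔ A) = Cfsg.pCore q G ⊔ cj g A := by
  rw [cj_sup, cj_eq_iff.2 ((Subgroup.normalizer_eq_top_iff.2 (H19.pCore_normal q G)).ge
    (Subgroup.mem_top g))]

theorem class_cj_of_mem {r : G} (hr : r ∈ Cfsg.pCore q G) (A : Subgroup G) :
    Cfsg.pCore q G ⊔ cj r A = Cfsg.pCore q G ⊔ A := by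
  rw [← cj_class, cj_eq_self_of_mem (Subgroup.mem_sup_left hr)]

/-- If all fixed points of `t` lie in one class, `t` fixes no other class. -/
theorem class_of_fixed (m : Min G p q D F) {t : G} (ht : orderOf t = 2) {C A : Subgroup G}
    (hC : C ∈ fixedPts D t)
    (hone : ∀ P ∈ fixedPts D t, P ≤ Cfsg.pCore q G ⊔ C) (hA : A ∈ D)
    (hfix : Cfsg.pCore q G ⊔ cj t A = Cfsg.pCore q G ⊔ A) :
    Cfsg.pCore q G ⊔ A = Cfsg.pCore q G ⊔ C := by
  haveI := Fact.mk m.pg.hq
  obtain ⟨k, hk, e⟩ := (m.core_isKA A).exists_fixed_point m.pg.hp m.pg.hq m.pg.hpq m.pg.hq2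
    (m.pg.card A hA) (mul_self_of_ht ht) (by rw [cj_class, hfix])
  have hP := m.fixed_of_cj_eq hC (m.pg.conj A hA k) e
  rw [← class_cj_of_mem hk A]
  exact m.class_eq_of_le (m.pg.conj A hA k) hC.1 (hone _ hP)

/-- An involution with its fixed points in one class acts on the lines through that class by
inversion. -/
theorem class_inverted (m : Min G p q D F) {t : G} (ht : orderOf t = 2) {P C B Q : Subgroup G}
    (hP : P ∈ fixedPts D t) (hone : ∀ X ∈ fixedPts D t, X ≤ Cfsg.pCore q G ⊔ P)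
    (hC : C ∈ D) (hPC : Cfsg.pCore q G ⊔ P = Cfsg.pCore q G ⊔ C) (hB : B ∈ D)
    (hBC : Cfsg.pCore q G ⊔ B ≠ Cfsg.pCore q G ⊔ C) (hQ : IsKA q (C ⊔ B) C Q) {x : G}
    (hx : x ∈ Q) (hxB : B = cj x C) :
    Cfsg.pCore q G ⊔ cj t B = Cfsg.pCore q G ⊔ cj x⁻¹ C := by
  haveI := Fact.mk m.pg.hq
  haveI := H19.pCore_normal q G
  set R := Cfsg.pCore q G with hR
  have htt := mul_self_of_ht ht
  have hBt : B ∉ fixedPts D t := fun hb => hBC ((m.class_eq_of_le hB hP.1 (hone B hb)).trans hPC)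
  obtain ⟨-, hLt, P', hP', -, hBP', heq⟩ := m.exists_line_fixed ht hP hB hBt
  have hP'C : R ⊔ P' = R ⊔ C := (m.class_eq_of_le hP'.1 hP.1 (hone P' hP')).trans hPC
  have hBL : R ⊔ (C ⊔ B) = R ⊔ (B ⊔ cj t B) := by
    rw [← heq, ← sup_assoc, ← hP'C, sup_assoc, sup_comm P' B]
  set E := R ⊔ Q with hE
  have hRn : R ⊔ (C ⊔ B) ≤ Subgroup.normalizer (R : Set G) := fun g _ =>
    (Subgroup.normalizer_eq_top_iff.2 (H19.pCore_normal q G)).ge (Subgroup.mem_top g)
  have hQR : Q ≤ Subgroup.normalizer (R : Set G) := fun g _ =>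
    (Subgroup.normalizer_eq_top_iff.2 (H19.pCore_normal q G)).ge (Subgroup.mem_top g)
  have hEn : R ⊔ (C ⊔ B) ≤ Subgroup.normalizer (E : Set G) := by
    refine sup_le ((le_sup_left : R ≤ E).trans Subgroup.le_normalizer) fun g hg => ?_
    rw [← cj_eq_iff, hE, cj_sup, cj_eq_iff.2 (hQ.norm hg),
      cj_eq_iff.2 (hRn (Subgroup.mem_sup_right hg))]
  have hEKA : IsKA q (R ⊔ (C ⊔ B)) C E := by
    refine ⟨IsPGroup.to_sup_of_normal_left' (H19.pCore_isPGroup q) hQ.pgroup hQR, ?_, hEn⟩
    rw [hE, sup_assoc, hQ.sup_eq]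
  have hLL : cj t (R ⊔ (C ⊔ B)) = R ⊔ (C ⊔ B) := by rw [hBL, cj_class, hLt]
  have htE := hEKA.cj_K_eq m.pg.hp m.pg.hq m.pg.hpq (m.pg.card C hC) hLL
  have htC : R ⊔ cj t C = R ⊔ C := by
    have h1 : cj t P = P := cj_eq_iff.2 (Subgroup.centralizer_le_normalizer _
      (Subgroup.mem_centralizer_iff.2 fun c hc => (hP.2 c hc).eq))
    rw [← cj_class, ← hPC, cj_class, h1]
  -- the image of `x`
  have hx' : t * x * t⁻¹ ∈ E := htE ▸ conj_mem_cj (Subgroup.mem_sup_right hx)
  rw [← SetLike.mem_coe, hE, Subgroup.normal_mul] at hx'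
  obtain ⟨r, hr, y, hy, hry⟩ := Set.mem_mul.1 hx'
  have htB : R ⊔ cj t B = R ⊔ cj y C := by
    have e1 : cj t B = cj (r * y) (cj t C) := by
      rw [hry, ← cj_mul, inv_mul_cancel_right, hxB, cj_mul]
    rw [e1, cj_mul, class_cj_of_mem hr, ← cj_class, htC, cj_class]
  rw [htB]
  -- the class of `x y` is fixed
  have hyimg : t * y * t⁻¹ = (t * r⁻¹ * t⁻¹) * x := by
    have e1 : y = r⁻¹ * (t * x * t⁻¹) := by rw [← hry, inv_mul_cancel_left]
    calc t * y * t⁻¹ = t * r⁻¹ * t⁻¹ * ((t * t) * x * (t * t)⁻¹) := by rw [e1]; group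
      _ = t * r⁻¹ * t⁻¹ * x := by rw [htt]; group
  have hr' : t * r⁻¹ * t⁻¹ ∈ R := (H19.pCore_normal q G).conj_mem _ (inv_mem hr) t
  have hfix : R ⊔ cj t (cj (x * y) C) = R ⊔ cj (x * y) C := by
    have e1 : cj t (cj (x * y) C) = cj ((r * y) * ((t * r⁻¹ * t⁻¹) * x)) (cj t C) := by
      rw [hry, ← hyimg, ← cj_mul, ← cj_mul]
      congr 1
      group
    have hcomm : cj ⁅y⁻¹, x⁻¹⁆ C = C := by
      obtain ⟨c, hc, hc1⟩ := exists_gen m.pg.hp (m.pg.card C hC)
      refine IsKA.cj_eq_of_commute m.pg.hp (m.pg.card C hC) hc hc1 ?_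
      rcases em (QAbelian q F) with hab | hab
      · have hne : C ≠ B := fun e => hBC (by rw [e])
        have h1 := (m.pg.qAbelian_iff hC hB hne hQ).2 hab y⁻¹ (inv_mem hy) x⁻¹ (inv_mem hx)
        rw [commutatorElement_eq_one_iff_mul_comm.2 h1.eq]
        exact Commute.one_left c
      · exact (Subgroup.mem_centralizer_iff.1
          (m.pg.commutator_central hab hC hQ (PairGen.self_isGenBy_line hC hB)
            (Subgroup.commutator_mem_commutator (inv_mem hy) (inv_mem hx))) c
          (Subgroup.mem_sup_left hc)).symm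
    have e2 : cj (y * x) C = cj (x * y) C := by
      conv_rhs => rw [← hcomm, ← cj_mul]
      congr 1
      rw [commutatorElement_def]; group
    have hmove : ∀ (g : G) (X : Subgroup G), R ⊔ cj (r * g) X = R ⊔ cj g X := fun g X => by
      rw [cj_mul, class_cj_of_mem hr]
    rw [e1, mul_assoc r y, hmove, ← cj_class, htC, cj_class]
    have e3 : y * (t * r⁻¹ * t⁻¹ * x) = (y * (t * r⁻¹ * t⁻¹) * y⁻¹) * (y * x) := by group
    rw [e3, cj_mul, class_cj_of_mem ((H19.pCore_normal q G).conj_mem _ hr' y), e2]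
  have h := m.class_of_fixed ht hP hone (m.pg.conj C hC _) hfix
  rw [hPC, cj_mul, ← cj_class] at h
  have h2 := congrArg (cj x⁻¹) h
  rwa [cj_inv_cj, cj_class] at h2

/-- Some involution centralises a point. -/
theorem exists_involution (m : Min G p q D F) (hne : D.Nonempty) :
    ∃ (t : G) (C : Subgroup G), orderOf t = 2 ∧ C ∈ fixedPts D t := by
  classical
  haveI := Fact.mk Nat.prime_two
  haveI := Fact.mk m.pg.hp
  haveI := Fact.mk m.pg.hq
  obtain ⟨A₀, hA₀⟩ := hne
  have hns : ¬ Group.IsSolvable G := by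
    intro hs
    have h1 := m.solv ⊤ inferInstance
      (Group.isSolvable_of_isSolvable_injective (f := (⊤ : Subgroup G).subtype) (Subgroup.subtype_injective _))
    exact m.notKA A₀ hA₀ (top_le_iff.1 (h1.trans le_sup_left))
  obtain ⟨S⟩ : Nonempty (Sylow 2 G) := inferInstance
  letI : MulAction (S : Subgroup G) D :=
    { smul := fun s B => ⟨cj (s : G) B, m.pg.conj B B.2 s⟩
      one_smul := fun B => Subtype.ext (cj_one _)
      mul_smul := fun s s' B => Subtype.ext (cj_mul _ _ _) }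
  have hmod := S.isPGroup'.card_modEq_card_fixedPoints D
  obtain ⟨B, hB⟩ : (MulAction.fixedPoints (S : Subgroup G) D).Nonempty := by
    rw [Set.nonempty_iff_ne_empty]
    intro e
    rw [e, Nat.card_coe_set_eq, Nat.card_coe_set_eq, Set.ncard_empty] at hmod
    exact (Nat.not_even_iff_odd.2 (m.pg.odd_card ⟨A₀, hA₀⟩))
      (even_iff_two_dvd.2 (Nat.modEq_zero_iff_dvd.1 hmod))
  have hSB : (S : Subgroup G) ≤ Subgroup.normalizer ((B : Subgroup G) : Set G) := fun s hs =>
    cj_eq_iff.1 (congrArg Subtype.val (hB ⟨s, hs⟩))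
  set C : Subgroup G := B.val with hC
  have hCD : C ∈ D := B.2
  set f : (S : Subgroup G) →* MulAut C :=
    (MulDistribMulAction.toMulAut (Subgroup.normalizer (C : Set G)) C).comp (Subgroup.inclusion hSB)
    with hf
  by_cases hker : f.ker = ⊥
  · exfalso
    have hinj : Function.Injective f := (MonoidHom.ker_eq_bot_iff f).1 hker
    haveI : IsCyclic C := isCyclic_of_prime_card (m.pg.card C hCD)
    have hc : Nat.card C = p := m.pg.card C hCD
    haveI : IsCyclic (ZMod (Nat.card C))ˣ := by rw [hc]; infer_instance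
    haveI : IsCyclic (MulAut C) := isCyclic_of_injective
      (IsCyclic.mulAutMulEquiv C).toMonoidHom (IsCyclic.mulAutMulEquiv C).injective
    haveI hScyc : IsCyclic (S : Subgroup G) := isCyclic_of_injective f hinj
    have h2G : 2 ∣ Nat.card G := by
      by_contra hodd
      exact hns (Cfsg.Agent.S0205.result (Nat.odd_iff.2 (by omega)))
    have hmin : (Nat.card G).minFac = 2 := (Nat.minFac_eq_two_iff _).mpr h2G
    set Kc := (MonoidHom.transferSylow S (hScyc.normalizer_le_centralizer hmin)).ker with hKc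
    have hodd : Odd (Nat.card Kc) := Nat.odd_iff.2 (Nat.two_dvd_ne_zero.1
      (MonoidHom.not_dvd_card_ker_transferSylow S _))
    haveI : Group.IsSolvable Kc := Cfsg.Agent.S0205.result hodd
    haveI : Group.IsNilpotent (S : Subgroup G) := S.isPGroup'.isNilpotent
    exact hns (Group.isSolvable_of_ker_le_range Kc.subtype
      (MonoidHom.transferSylow S (hScyc.normalizer_le_centralizer hmin))
      (by rw [Subgroup.range_subtype]))
  · haveI : Nontrivial f.ker := f.ker.nontrivial_iff_ne_bot.2 hker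
    have h2 : 2 ∣ Nat.card f.ker := by
      obtain ⟨j, hj⟩ := (S.isPGroup'.to_subgroup f.ker).exists_card_eq
      rcases j with _ | j
      · rw [pow_zero] at hj
        exact absurd hj (Finite.one_lt_card (α := f.ker)).ne'
      · rw [hj, pow_succ]; exact Dvd.intro_left _ rfl
    obtain ⟨s, hs⟩ := exists_prime_orderOf_dvd_card' 2 h2
    refine ⟨((s : (S : Subgroup G)) : G), C, ?_, hCD, fun b hb => ?_⟩
    · rw [Subgroup.orderOf_coe, Subgroup.orderOf_coe, hs]
    · have h3 := congrArg (fun e : MulAut C => ((e ⟨b, hb⟩ : C) : G)) s.2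
      simp [hf] at h3
      show b * ((s : (S : Subgroup G)) : G) = ((s : (S : Subgroup G)) : G) * b
      have h4 : ((s : (S : Subgroup G)) : G) * b * ((s : (S : Subgroup G)) : G)⁻¹ = b := h3
      conv_lhs => rw [← h4]
      group

/-- There is no minimal counterexample. -/
theorem absurd_min (m : Min G p q D F) (hne : D.Nonempty) : False := by
  haveI := Fact.mk m.pg.hp
  haveI := Fact.mk m.pg.hq
  haveI := Fact.mk Nat.prime_two
  haveI := H19.pCore_normal q G
  set R := Cfsg.pCore q G with hR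
  obtain ⟨t, C, ht, hC⟩ := m.exists_involution hne
  have hone : ∀ {s : G}, orderOf s = 2 → ∀ {P : Subgroup G}, P ∈ fixedPts D s →
      ∀ X ∈ fixedPts D s, X ≤ R ⊔ P := fun hs P hP X hX => by
    by_contra hcon
    exact m.false_of_good hs hP hX hcon
  have hRs : Group.IsSolvable R :=
    haveI : Group.IsNilpotent R := (H19.pCore_isPGroup q).isNilpotent
    inferInstance
  set mk := QuotientGroup.mk' R with hmk
  -- normal subgroups solvable modulo `R`
  have hsolv : ∀ N : Subgroup (G ⧸ R), N.Normal → Group.IsSolvable N → N = ⊥ := by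
    intro N hN hNs
    have h1 : Group.IsSolvable (N.comap mk) := by
      haveI := hRs
      haveI := hNs
      refine Group.isSolvable_of_ker_le_range
        (Subgroup.inclusion (show R ≤ N.comap mk from fun r hr => by
          rw [Subgroup.mem_comap, hmk, QuotientGroup.mk'_apply,
            (QuotientGroup.eq_one_iff r).2 hr]
          exact one_mem _))
        ((mk.comp (N.comap mk).subtype).codRestrict N fun x => x.2) ?_
      rintro ⟨x, hx⟩ hxk
      have : mk x = 1 := congrArg Subtype.val hxk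
      exact ⟨⟨x, (QuotientGroup.eq_one_iff x).1 this⟩, rfl⟩
    have h2 := m.solv _ (hN.comap mk) h1
    rw [eq_bot_iff]
    intro y hy
    obtain ⟨g, rfl⟩ := QuotientGroup.mk'_surjective R y
    exact Subgroup.mem_bot.2 ((QuotientGroup.eq_one_iff g).2 (h2 (Subgroup.mem_comap.2 hy)))
  have hcentre : Subgroup.center (G ⧸ R) = ⊥ := hsolv _ inferInstance
    (Group.isSolvable_of_comm fun a b => Subtype.ext (Subgroup.mem_center_iff.1 b.2 a))
  have hcore : Cfsg.pPrimeCore 2 (G ⧸ R) = ⊥ := hsolv _ (H19.pPrimeCore_normal 2 _)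
    (Cfsg.Agent.S0205.result (Nat.coprime_two_right.1 (H19.pPrimeCore_coprime 2)))
  have hto : orderOf (mk t) = 2 := by
    refine orderOf_eq_prime ?_ ?_
    · rw [← map_pow, ← ht, pow_orderOf_eq_one, map_one]
    · intro e
      have h1 := (m.odd_of_isPGroup (H19.pCore_isPGroup q)).of_dvd_nat
        (ht ▸ Subgroup.orderOf_dvd_natCard R ((QuotientGroup.eq_one_iff t).1 e))
      exact absurd h1 (by decide)
  -- `t` is isolated modulo `R`
  have hiso : H28.IsIsolatedInvolution (mk t) := by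
    refine ⟨hto, fun gb hcomm => ?_⟩
    obtain ⟨g, rfl⟩ := QuotientGroup.mk'_surjective R gb
    rw [← map_inv, ← map_mul, ← map_mul] at hcomm ⊢
    set t' := g * t * g⁻¹ with ht'
    set C' := cj g C with hC'
    have ht'o : orderOf t' = 2 := by
      rw [ht', show g * t * g⁻¹ = MulAut.conj g t from rfl, MulEquiv.orderOf_eq, ht]
    have hC'f : C' ∈ fixedPts D t' := ⟨m.pg.conj C hC.1 g, fun b hb => by
      have h1 := hC.2 _ (mem_cj.1 hb)
      have h2 := h1.map (MulAut.conj g).toMonoidHom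
      simp [mul_assoc] at h2
      simpa [ht', mul_assoc] using h2⟩
    -- the two involutions fix the same class
    have hcomR : t * t' * (t' * t)⁻¹ ∈ R := by
      rw [← QuotientGroup.eq_one_iff]
      show mk (t * t' * (t' * t)⁻¹) = 1
      have h0 : mk (t * t') = mk (t' * t) := (map_mul mk t t').trans (hcomm.eq.trans (map_mul mk t' t).symm)
      rw [map_mul, map_inv, h0, mul_inv_cancel]
    have htC : cj t C = C := cj_eq_iff.2 (Subgroup.centralizer_le_normalizer _
      (Subgroup.mem_centralizer_iff.2 fun c hc => (hC.2 c hc).eq))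
    have h1 : R ⊔ cj t (cj t' C) = R ⊔ cj t' C := by
      rw [← cj_mul, show t * t' = (t * t' * (t' * t)⁻¹) * (t' * t) by group, cj_mul,
        class_cj_of_mem hcomR, cj_mul, htC]
    have h2 := m.class_of_fixed ht hC (hone ht hC) (m.pg.conj C hC.1 t') h1
    have h3 := m.class_of_fixed ht'o hC'f (hone ht'o hC'f) hC.1 h2
    -- both act in the same way on the classes
    have hsame : ∀ B ∈ D, R ⊔ cj t B = R ⊔ cj t' B := by
      intro B hB
      rcases eq_or_ne (R ⊔ B) (R ⊔ C) with e | e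
      · rw [← cj_class, ← cj_class, e, cj_class, cj_class, htC, h2]
      · have hne : C ≠ B := fun e' => e (by rw [e'])
        obtain ⟨Q, -, hQ⟩ := m.pg.line hC.1 hB hne
        obtain ⟨x, hx, hxB⟩ := hQ.exists_cj m.pg.hp m.pg.hq m.pg.hpq (m.pg.card C hC.1)
          (m.pg.card B hB) le_sup_right
        rw [m.class_inverted ht hC (hone ht hC) hC.1 rfl hB e hQ hx hxB,
          m.class_inverted ht'o hC'f (hone ht'o hC'f) hC.1 h3.symm hB e hQ hx hxB]
    -- the subgroup fixing all classes is central modulo `R`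
    have hmem : t'⁻¹ * t ∈ R := by
      have hfix : ∀ B ∈ D, R ⊔ cj (t'⁻¹ * t) B = R ⊔ B := by
        intro B hB
        rw [cj_mul, ← cj_class, hsame B hB, cj_class, ← cj_mul, inv_mul_cancel, cj_one]
      set Nk : Subgroup G := ⨅ B : D, Subgroup.normalizer ((R ⊔ (B : Subgroup G) : Subgroup G) : Set G)
        with hNk
      have hNkmem : ∀ x : G, x ∈ Nk ↔ ∀ B ∈ D, R ⊔ cj x B = R ⊔ B := by
        intro x
        rw [hNk, Subgroup.mem_iInf]
        constructor
        · intro h B hB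
          rw [← cj_class]
          exact cj_eq_iff.2 (h ⟨B, hB⟩)
        · rintro h ⟨B, hB⟩
          exact cj_eq_iff.1 (by rw [cj_class]; exact h B hB)
      haveI hNkn : Nk.Normal := ⟨fun x hx y => (hNkmem _).2 fun B hB => by
        have h4 := (hNkmem x).1 hx _ (m.pg.conj B hB y⁻¹)
        rw [cj_mul, cj_mul, ← cj_class, h4, cj_class, cj_cj_inv]⟩
      have hnopt : ∀ B ∈ D, ¬ B ≤ Nk := by
        intro B hB hle
        obtain ⟨a, ha, ha1⟩ := exists_gen m.pg.hp (m.pg.card B hB)
        have htop : Nk = ⊤ := top_le_iff.1 (m.pg.normalClosure_eq_top m.gen hB ha ha1 ▸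
          Subgroup.normalClosure_le_normal (Set.singleton_subset_iff.2 (hle ha)))
        refine m.notKA C hC.1 (top_le_iff.1 (m.gen ▸ sSup_le fun X hX => ?_))
        obtain ⟨y, rfl⟩ := m.pg.exists_conj hC.1 hX
        rw [← (hNkmem y).1 (htop ▸ Subgroup.mem_top y) C hC.1]
        exact le_sup_right
      have hn : t'⁻¹ * t ∈ Nk := (hNkmem _).2 hfix
      have hcomm' : ∀ B ∈ D, ∀ b ∈ B, ⁅t'⁻¹ * t, b⁆ ∈ R := by
        intro B hB b hb
        have h5 : ⁅t'⁻¹ * t, b⁆ ∈ R ⊔ B := by
          rw [commutatorElement_def]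
          exact mul_mem (hfix B hB ▸ Subgroup.mem_sup_right (conj_mem_cj hb))
            (inv_mem (Subgroup.mem_sup_right hb))
        have h6 : ⁅t'⁻¹ * t, b⁆ ∈ Nk := by
          rw [show ⁅t'⁻¹ * t, b⁆ = (t'⁻¹ * t) * (b * (t'⁻¹ * t)⁻¹ * b⁻¹) by
            rw [commutatorElement_def]; group]
          exact mul_mem hn (hNkn.conj_mem _ (inv_mem hn) b)
        by_contra hout
        obtain ⟨k, hk, hle⟩ := (m.core_isKA B).exists_point m.pg.hp m.pg.hq m.pg.hpq
          (m.pg.card B hB) h5 hout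
        exact hnopt _ (m.pg.conj B hB k) (hle.trans (Subgroup.zpowers_le.2 h6))
      have hc : mk (t'⁻¹ * t) ∈ Subgroup.center (G ⧸ R) := by
        rw [Subgroup.mem_center_iff]
        intro y
        obtain ⟨y, rfl⟩ := QuotientGroup.mk'_surjective R y
        have hle : sSup D ≤ (Subgroup.centralizer ({mk (t'⁻¹ * t)} : Set (G ⧸ R))).comap mk := by
          refine sSup_le fun B hB b hb => ?_
          rw [Subgroup.mem_comap, Subgroup.mem_centralizer_singleton_iff]
          have h7 : mk ⁅t'⁻¹ * t, b⁆ = 1 := (QuotientGroup.eq_one_iff _).2 (hcomm' B hB b hb)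
          rw [map_commutatorElement] at h7
          exact (commutatorElement_eq_one_iff_mul_comm.1 h7).symm
        exact Subgroup.mem_centralizer_singleton_iff.1
          (Subgroup.mem_comap.1 (hle (m.gen ▸ Subgroup.mem_top y)))
      rw [hcentre, Subgroup.mem_bot] at hc
      exact (QuotientGroup.eq_one_iff _).1 hc
    show mk t' = mk t
    have h8 : mk (t'⁻¹ * t) = 1 := (QuotientGroup.eq_one_iff _).2 hmem
    rwa [map_mul, map_inv, inv_mul_eq_one] at h8
  have hc : mk t ∈ Subgroup.center (G ⧸ R) := by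
    rw [Subgroup.mem_center_iff]
    intro y
    have h1 := H28.zStar hiso y
    rw [hcore, Subgroup.mem_bot, mul_inv_eq_one, mul_inv_eq_iff_eq_mul] at h1
    exact h1.symm
  rw [hcentre, Subgroup.mem_bot] at hc
  rw [hc, orderOf_one] at hto
  exact absurd hto (by norm_num)

end Min

end Cfsg.Agent.H54.PairGen
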