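import Cfsg.Agent.H54.PairGen.Involution
import Cfsg.Agent.H19.Frattini

/-!
# A group generated by such a set is a `q`-group extended by a member
-/

set_option autoImplicit false
set_option linter.dupNamespace false
open scoped Pointwise commutatorElement

namespace Cfsg.Agent.H54.PairGen

universe u v

variable {G : Type u} [Group G] [Finite G] {p q : ℕ} {D : Set (Subgroup G)} {F : Type v} [Group F]

namespace PairGen

/-- A subgroup of order prime to `q` normalised by a member of `D` and not containing one commutes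
with that member. -/
theorem commute_of_coprime (h : PairGen G p q D F) {B N : Subgroup G} (hB : B ∈ D)
    (hBN : B ≤ Subgroup.normalizer (N : Set G)) (hcop : (Nat.card N).Coprime q) (hnot : ¬ B ≤ N)
    {n b : G} (hn : n ∈ N) (hb : b ∈ B) : Commute n b := by
  haveI := Fact.mk h.hq
  have hBc := h.card B hB
  have hfix : cj n B = B := by
    by_contra hne
    obtain ⟨Q, hQ1, hQ⟩ := h.line hB (h.conj B hB n) (Ne.symm hne)
    have hle : Q ≤ N ⊔ B := hQ.le_K.trans
      (sup_le le_sup_right (cj_le_of_mem le_sup_right (Subgroup.mem_sup_left hn)))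
    refine hQ1 ?_
    obtain ⟨j, hj⟩ := hQ.pgroup.exists_card_eq
    have h1 : Nat.card (N ⊔ B : Subgroup G) ∣ Nat.card N * p := by
      have hnorm : B ≤ Subgroup.normalizer (N : Set G) := hBN
      have h2 : ((N ⊔ B : Subgroup G) : Set G) = (N : Set G) * B :=
        Subgroup.coe_mul_of_right_le_normalizer_left N B hnorm
      haveI : (N.subgroupOf (N ⊔ B)).Normal := ⟨fun x hx g => by
        rw [Subgroup.mem_subgroupOf] at hx ⊢
        exact (Subgroup.mem_normalizer_iff.1
          ((sup_le Subgroup.le_normalizer hnorm : N ⊔ B ≤ _) g.2) _).1 hx⟩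
      have h3 := H19.card_sup_dvd (N.subgroupOf (N ⊔ B)) (B.subgroupOf (N ⊔ B))
      rw [← Subgroup.subgroupOf_sup le_sup_left le_sup_right, Subgroup.subgroupOf_self,
        Subgroup.card_top, Nat.card_congr (Subgroup.subgroupOfEquivOfLe le_sup_left).toEquiv,
        Nat.card_congr (Subgroup.subgroupOfEquivOfLe le_sup_right).toEquiv, hBc] at h3
      exact h3
    have h4 := (Subgroup.card_dvd_of_le hle).trans h1
    rw [hj] at h4
    have h5 : (q ^ j).Coprime (Nat.card N * p) :=
      (hcop.symm.mul_right ((Nat.coprime_primes h.hq h.hp).2 (Ne.symm h.hpq))).pow_left j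
    exact Subgroup.card_eq_one.1 (by rw [hj]; exact Nat.eq_one_of_dvd_coprimes h5 dvd_rfl h4)
  have h1 : n * b * n⁻¹ * b⁻¹ ∈ B := mul_mem (hfix ▸ conj_mem_cj hb) (inv_mem hb)
  have h2 : n * b * n⁻¹ * b⁻¹ ∈ N := by
    have := mul_mem hn ((Subgroup.mem_normalizer_iff.1 (hBN hb) _).1 (inv_mem hn))
    convert this using 1
    group
  have h3 := Subgroup.mem_bot.1 ((inf_eq_bot_of_not_le h.hp hBc hnot).le (Subgroup.mem_inf.2 ⟨h1, h2⟩))
  rw [mul_inv_eq_one, mul_inv_eq_iff_eq_mul] at h3
  exact h3

/-- The image modulo a central subgroup of order prime to `q`. -/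
theorem quotient_of_coprime (h : PairGen G p q D F) (N : Subgroup G) [N.Normal]
    (hcop : (Nat.card N).Coprime q) (hnot : ∀ B ∈ D, ¬ B ≤ N) :
    PairGen (G ⧸ N) p q ((fun B => B.map (QuotientGroup.mk' N)) '' D) F where
  hp := h.hp
  hp2 := h.hp2
  hq := h.hq
  hq2 := h.hq2
  hpq := h.hpq
  card := by
    rintro _ ⟨B, hB, rfl⟩
    have hinj : Function.Injective ((QuotientGroup.mk' N).comp B.subtype) := by
      rw [injective_iff_map_eq_one]
      intro b hb
      exact Subtype.ext (Subgroup.mem_bot.1 ((inf_eq_bot_of_not_le h.hp (h.card B hB) (hnot B hB)).le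
        (Subgroup.mem_inf.2 ⟨b.2, (QuotientGroup.eq_one_iff (b : G)).1 hb⟩)))
    show Nat.card (B.map (QuotientGroup.mk' N)) = p
    rw [← h.card B hB, Nat.card_congr (MonoidHom.ofInjective hinj).toEquiv,
      MonoidHom.range_comp, Subgroup.range_subtype]
  conj := by
    rintro _ ⟨B, hB, rfl⟩ g
    obtain ⟨g, rfl⟩ := QuotientGroup.mk'_surjective N g
    refine ⟨cj g B, h.conj B hB g, ?_⟩
    show (cj g B).map (QuotientGroup.mk' N) = cj (QuotientGroup.mk' N g) (B.map (QuotientGroup.mk' N))
    rw [cj, cj, Subgroup.map_map, Subgroup.map_map]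
    congr 1
  iso := by
    rintro _ ⟨A, hA, rfl⟩ _ ⟨B, hB, rfl⟩ hAB
    have hne : A ≠ B := fun e => hAB (by rw [e])
    obtain ⟨e⟩ := h.iso A hA B hB hne
    obtain ⟨Q, -, hQ⟩ := h.line hA hB hne
    have hinf : (A ⊔ B) ⊓ N = ⊥ := by
      haveI := Fact.mk h.hq
      obtain ⟨j, hj⟩ := hQ.pgroup.exists_card_eq
      have h1 : Nat.card ((A ⊔ B) ⊓ N : Subgroup G) ∣ p := by
        have h2 : Nat.card ((A ⊔ B) ⊓ N : Subgroup G) ∣ Nat.card Q * p := by
          rw [← hQ.card_eq h.hp h.hq h.hpq (h.card A hA)]
          exact Subgroup.card_dvd_of_le inf_le_left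
        rw [hj] at h2
        exact ((hcop.coprime_dvd_left (Subgroup.card_dvd_of_le inf_le_right)).pow_right j).dvd_of_dvd_mul_left h2
      rcases (Nat.dvd_prime h.hp).1 h1 with h3 | h3
      · exact Subgroup.card_eq_one.1 h3
      · obtain ⟨k, hk, e'⟩ := hQ.exists_cj h.hp h.hq h.hpq (h.card A hA) h3 inf_le_left
        exact (hnot _ (h.conj A hA k) (e' ▸ inf_le_right)).elim
    have hinj : Function.Injective ((QuotientGroup.mk' N).comp (A ⊔ B).subtype) := by
      rw [injective_iff_map_eq_one]
      intro b hb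
      exact Subtype.ext (Subgroup.mem_bot.1 (hinf.le
        (Subgroup.mem_inf.2 ⟨b.2, (QuotientGroup.eq_one_iff (b : G)).1 hb⟩)))
    have e1 : A.map (QuotientGroup.mk' N) ⊔ B.map (QuotientGroup.mk' N) =
        ((QuotientGroup.mk' N).comp (A ⊔ B).subtype).range := by
      rw [MonoidHom.range_comp, Subgroup.range_subtype, Subgroup.map_sup]
    exact ⟨(MulEquiv.subgroupCongr e1).trans ((MonoidHom.ofInjective hinj).symm.trans e)⟩
  kernel := h.kernel

end PairGen

/-- Transfer of a decomposition from a subgroup. -/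
theorem IsKA.map_subtype {q : ℕ} {H : Subgroup G} {A K : Subgroup H} (h : IsKA q ⊤ A K) :
    IsKA q H (A.map H.subtype) (K.map H.subtype) where
  pgroup := h.pgroup.map _
  sup_eq := by
    rw [← Subgroup.map_sup, h.sup_eq, ← MonoidHom.range_eq_map, Subgroup.range_subtype]
  norm := by
    intro x hx
    exact Subgroup.le_normalizer_map H.subtype ⟨⟨x, hx⟩, h.norm (Subgroup.mem_top _), rfl⟩

/-- **Main theorem**: the group is a normal `q`-subgroup extended by any member of `D`. -/
theorem exists_isKA (p q : ℕ) {F : Type v} [Group F] : ∀ (n : ℕ) (G : Type u) [Group G] [Finite G],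
    Nat.card G ≤ n → ∀ D : Set (Subgroup G), PairGen G p q D F → sSup D = ⊤ →
      ∀ A ∈ D, ∃ K, IsKA q ⊤ A K := by
  intro n
  induction n with
  | zero =>
    intro G _ _ hn
    exact absurd hn (by have := Nat.card_pos (α := G); omega)
  | succ n ih =>
    intro G _ _ hn D hD hgen A₀ hA₀
    haveI := Fact.mk hD.hq
    haveI := Fact.mk hD.hp
    haveI := H19.pCore_normal q G
    set R := Cfsg.pCore q G with hR
    by_contra hcon
    have hRp : IsPGroup q R := H19.pCore_isPGroup q
    have hnorm : ∀ {N : Subgroup G}, N.Normal → (⊤ : Subgroup G) ≤ Subgroup.normalizer (N : Set G) :=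
      fun hN => (Subgroup.normalizer_eq_top_iff.2 hN).ge
    have htopKA : ∀ {K A : Subgroup G}, IsKA q ⊤ A K → A ∈ D → False := fun hK hA => by
      obtain ⟨k, hk, e⟩ := hK.exists_cj hD.hp hD.hq hD.hpq (hD.card _ hA) (hD.card A₀ hA₀) le_top
      exact hcon ⟨_, e ▸ hK.change_point hk⟩
    -- more than one member
    obtain ⟨B₀, hB₀, hne⟩ : ∃ B ∈ D, B ≠ A₀ := by
      by_contra h1
      push Not at h1
      refine htopKA (K := ⊥) ⟨IsPGroup.of_bot, ?_, hnorm inferInstance⟩ hA₀
      rw [bot_sup_eq]
      exact top_le_iff.1 (hgen ▸ sSup_le fun B hB => (h1 B hB).le)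
    have hqG : q ∣ Nat.card G := by
      obtain ⟨Q, hQ1, hQ⟩ := hD.line hA₀ hB₀ (Ne.symm hne)
      obtain ⟨j, hj⟩ := hQ.pgroup.exists_card_eq
      rcases j with _ | j
      · rw [pow_zero] at hj
        exact absurd (Subgroup.card_eq_one.1 hj) hQ1
      · exact (Dvd.intro_left (q ^ j) (pow_succ q j).symm : q ∣ q ^ (j + 1)).trans
          (hj ▸ Subgroup.card_subgroup_dvd_card Q)
    have hclos : ∀ {N : Subgroup G}, N.Normal → ∀ B ∈ D, B ≤ N → N = ⊤ := by
      intro N hN B hB hle
      obtain ⟨b, hb, hb1⟩ := exists_gen hD.hp (hD.card B hB)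
      exact top_le_iff.1 (hD.normalClosure_eq_top hgen hB hb hb1 ▸
        Subgroup.normalClosure_le_normal (Set.singleton_subset_iff.2 (hle hb)))
    -- no normal subgroups of order prime to `q`
    have hnoq : ∀ N : Subgroup G, N.Normal → (Nat.card N).Coprime q → N = ⊥ := by
      intro N hN hcop
      by_contra hN1
      have hnot : ∀ B ∈ D, ¬ B ≤ N := fun B hB hle => by
        rw [hclos hN B hB hle, Subgroup.card_top] at hcop
        exact (Nat.Prime.coprime_iff_not_dvd hD.hq).1 hcop.symm hqG
      have hNZ : N ≤ Subgroup.center G := fun x hx => by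
        refine Subgroup.mem_center_iff.2 fun g => ?_
        have hle : sSup D ≤ Subgroup.centralizer ({x} : Set G) := sSup_le fun B hB b hb =>
          Subgroup.mem_centralizer_singleton_iff.2
            (hD.commute_of_coprime hB (le_top.trans (hnorm hN)) hcop (hnot B hB) hx hb).symm.eq
        exact Subgroup.mem_centralizer_singleton_iff.1 (hle (hgen ▸ Subgroup.mem_top g))
      haveI := hN
      set mk := QuotientGroup.mk' N with hmk
      have hlt : Nat.card (G ⧸ N) ≤ n := by
        have h1 := Subgroup.card_eq_card_quotient_mul_card_subgroup N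
        have h2 : 2 ≤ Nat.card N := (Subgroup.one_lt_card_iff_ne_bot N).2 hN1
        have h3 := Nat.card_pos (α := G ⧸ N)
        nlinarith
      have hgen' : sSup ((fun B => B.map mk) '' D) = ⊤ := by
        rw [sSup_image, ← (Subgroup.gc_map_comap mk).l_sSup, hgen,
          Subgroup.map_top_of_surjective _ (QuotientGroup.mk'_surjective N)]
      obtain ⟨Kb, hKb⟩ := ih _ hlt _ (hD.quotient_of_coprime N hcop hnot) hgen' _ ⟨A₀, hA₀, rfl⟩
      set K₀ := Kb.comap mk with hK₀
      have hNK : N ≤ K₀ := fun x hx => by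
        rw [hK₀, Subgroup.mem_comap, show mk x = 1 from (QuotientGroup.eq_one_iff x).2 hx]
        exact one_mem _
      haveI hKbn : Kb.Normal := Subgroup.normalizer_eq_top_iff.1 (top_le_iff.1 hKb.norm)
      have hK₀n : K₀.Normal := hKbn.comap mk
      have hX : K₀ ⊔ A₀ = ⊤ := by
        have h1 : (K₀ ⊔ A₀).map mk = ⊤ := by
          rw [Subgroup.map_sup, hK₀, Subgroup.map_comap_eq_self_of_surjective
            (QuotientGroup.mk'_surjective N), hKb.sup_eq]
        have h2 := congrArg (Subgroup.comap mk) h1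
        rw [Subgroup.comap_top, Subgroup.comap_map_eq, QuotientGroup.ker_mk',
          sup_eq_left.2 (hNK.trans le_sup_left)] at h2
        exact h2
      set f : K₀ →* Kb := (mk.comp K₀.subtype).codRestrict Kb fun x => x.2 with hf
      have hfs : Function.Surjective f := by
        rintro ⟨y, hy⟩
        obtain ⟨x, rfl⟩ := QuotientGroup.mk'_surjective N y
        exact ⟨⟨x, hy⟩, rfl⟩
      haveI : Group.IsNilpotent Kb := hKb.pgroup.isNilpotent
      haveI hK₀nil : Group.IsNilpotent K₀ := by
        refine Subgroup.isNilpotent_of_ker_le_center f ?_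
        rintro ⟨x, hx⟩ hxk
        have hxN : x ∈ N := (QuotientGroup.eq_one_iff x).1 (congrArg Subtype.val hxk)
        exact Subgroup.mem_center_iff.2 fun y =>
          Subtype.ext (Subgroup.mem_center_iff.1 (hNZ hxN) y)
      obtain ⟨P⟩ : Nonempty (Sylow q K₀) := inferInstance
      haveI hPn : (P : Subgroup K₀).Normal := inferInstance
      haveI := P.characteristic_of_normal hPn
      set Kq := (P : Subgroup K₀).map K₀.subtype with hKq
      have hKqn : Kq.Normal := by
        haveI := hK₀n
        exact ConjAct.normal_of_characteristic_of_normal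
      have hKqp : IsPGroup q Kq := P.isPGroup'.map _
      have hsur : ∀ x ∈ K₀, ∃ y ∈ Kq, y⁻¹ * x ∈ N := by
        intro x hx
        have h1 : ((P.mapSurjective hfs : Sylow q Kb) : Subgroup Kb) = ⊤ :=
          (P.mapSurjective hfs).3 (hKb.pgroup.to_subgroup ⊤) le_top |>.symm
        have h2 : f ⟨x, hx⟩ ∈ (P : Subgroup K₀).map f := by
          rw [← Sylow.coe_mapSurjective hfs P, h1]
          exact Subgroup.mem_top _
        obtain ⟨y, hy, e⟩ := h2
        refine ⟨y, ⟨y, hy, rfl⟩, (QuotientGroup.eq_one_iff _).1 ?_⟩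
        show mk ((y : G)⁻¹ * x) = 1
        have e' : mk (y : G) = mk x := congrArg Subtype.val e
        rw [map_mul, map_inv, e', inv_mul_cancel]
      refine htopKA (K := Kq) ⟨hKqp, ?_, hnorm hKqn⟩ hA₀
      refine top_le_iff.1 (hgen ▸ sSup_le fun B hB => ?_)
      obtain ⟨g, rfl⟩ := hD.exists_conj hA₀ hB
      have hg : g ∈ K₀ ⊔ A₀ := hX ▸ Subgroup.mem_top g
      haveI := hK₀n
      rw [← SetLike.mem_coe, Subgroup.normal_mul] at hg
      obtain ⟨x, hx, a, ha, rfl⟩ := Set.mem_mul.1 hg
      obtain ⟨y, hy, hyx⟩ := hsur x hx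
      have hfixA : cj (y⁻¹ * x) A₀ = A₀ := cj_eq_iff.2 (Subgroup.centralizer_le_normalizer _
        (Subgroup.center_le_centralizer _ (hNZ hyx)))
      rw [cj_mul, cj_eq_self_of_mem ha, show x = y * (y⁻¹ * x) by group, cj_mul, hfixA]
      exact cj_le_of_mem le_sup_right (Subgroup.mem_sup_left hy)
    have hnotKA : ∀ A ∈ D, R ⊔ A ≠ ⊤ := fun A hA e =>
      htopKA (K := R) ⟨hRp, e, hnorm inferInstance⟩ hA
    -- solvable normal subgroups lie in `R`
    have hsolv : ∀ m : ℕ, ∀ S : Subgroup G, Nat.card S ≤ m → S.Normal → Group.IsSolvable S →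
        S ≤ R := by
      intro m
      induction m with
      | zero =>
        intro S hS
        exact absurd hS (by have := Nat.card_pos (α := S); omega)
      | succ m ihm =>
        intro S hS hSn hSs
        by_contra hSR
        haveI := hSn
        have hS1 : S ≠ ⊥ := fun e => hSR (e ▸ bot_le)
        haveI : Nontrivial S := S.nontrivial_iff_ne_bot.2 hS1
        set S' : Subgroup G := ⁅S, S⁆ with hS'
        have hS'lt : S' < S := by
          refine lt_of_le_of_ne (Subgroup.commutator_le_right _ _) fun e => ?_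
          have h1 : commutator S < ⊤ := Group.IsSolvable.commutator_lt_top_of_nontrivial S
          refine h1.ne (Subgroup.map_injective S.subtype_injective ?_)
          rw [Subgroup.map_subtype_commutator, ← MonoidHom.range_eq_map, Subgroup.range_subtype]
          exact e
        have hS'R : S' ≤ R := by
          refine ihm S' ?_ (Subgroup.commutator_normal S S)
            (Group.isSolvable_of_isSolvable_injective (f := Subgroup.inclusion hS'lt.le)
              (Subgroup.inclusion_injective hS'lt.le))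
          have h1 : Nat.card S' < Nat.card S := by
            refine lt_of_le_of_ne (Subgroup.card_le_of_le hS'lt.le) fun e => hS'lt.ne ?_
            exact Subgroup.eq_of_le_of_card_ge hS'lt.le e.ge
          omega
        have hnoS : ∀ B ∈ D, ¬ B ≤ S := by
          intro B hB hle
          refine hnotKA A₀ hA₀ (top_le_iff.1 (hgen ▸ sSup_le fun X hX => ?_))
          obtain ⟨g, rfl⟩ := hD.exists_conj hA₀ hX
          intro y hy
          have hStop := hclos hSn B hB hle
          have h1 : ⁅g, g⁻¹ * y * g⁆ ∈ R := hS'R (Subgroup.commutator_mem_commutator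
            (hStop ▸ Subgroup.mem_top _) (hStop ▸ Subgroup.mem_top _))
          rw [show y = ⁅g, g⁻¹ * y * g⁆ * (g⁻¹ * y * g) by rw [commutatorElement_def]; group]
          exact mul_mem (Subgroup.mem_sup_left h1) (Subgroup.mem_sup_right (mem_cj.1 hy))
        -- a prime `ℓ ≠ q` dividing the order of `S`
        obtain ⟨ℓ, hℓ, hℓS, hℓq⟩ : ∃ ℓ : ℕ, ℓ.Prime ∧ ℓ ∣ Nat.card S ∧ ℓ ≠ q := by
          by_contra h1
          push Not at h1
          exact hSR (H19.le_pCore hSn (IsPGroup.of_card
            (Nat.eq_prime_pow_of_unique_prime_dvd Nat.card_pos.ne' fun {d} hd hdS => h1 d hd hdS)))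
        haveI := Fact.mk hℓ
        obtain ⟨P⟩ : Nonempty (Sylow ℓ S) := inferInstance
        set Sl := (P : Subgroup S).map S.subtype with hSl
        have hSlS : Sl ≤ S := Subgroup.map_subtype_le _
        have hSlp : IsPGroup ℓ Sl := P.isPGroup'.map _
        have hSl1 : Sl ≠ ⊥ := fun e => P.ne_bot_of_dvd_card hℓS
          ((Subgroup.map_eq_bot_iff_of_injective _ S.subtype_injective).1 e)
        have hcop : (Nat.card Sl).Coprime q := by
          obtain ⟨j, hj⟩ := hSlp.exists_card_eq
          rw [hj]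
          exact ((Nat.coprime_primes hℓ hD.hq).2 hℓq).pow_left j
        set Rs := R ⊓ S with hRs
        have hconjS : ∀ s ∈ S, ∀ x ∈ Rs ⊔ Sl, s * x * s⁻¹ ∈ Rs ⊔ Sl := by
          intro s hs x hx
          have hxS : x ∈ S := (sup_le inf_le_right hSlS : Rs ⊔ Sl ≤ S) hx
          rw [show s * x * s⁻¹ = ⁅s, x⁆ * x by rw [commutatorElement_def]; group]
          exact mul_mem (Subgroup.mem_sup_left (Subgroup.mem_inf.2
            ⟨hS'R (Subgroup.commutator_mem_commutator hs hxS),
              hS'lt.le (Subgroup.commutator_mem_commutator hs hxS)⟩)) hx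
        have hS2n : (Rs ⊔ Sl).Normal := by
          refine Subgroup.normalizer_eq_top_iff.1 (top_le_iff.1 fun g _ => cj_eq_iff.1 (cj_eq_of_le ?_))
          rw [cj_sup]
          refine sup_le (fun y hy => Subgroup.mem_sup_left ?_) ?_
          · obtain ⟨h1, h2⟩ := Subgroup.mem_inf.1 (mem_cj.1 hy)
            refine Subgroup.mem_inf.2 ⟨?_, ?_⟩
            · have := (H19.pCore_normal q G).conj_mem _ h1 g
              simpa [mul_assoc] using this
            · have := hSn.conj_mem _ h2 g
              simpa [mul_assoc] using this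
          · have hle : cj g Sl ≤ S := (cj_mono hSlS).trans (cj_eq_iff.2 ((hnorm hSn) (Subgroup.mem_top g))).le
            have hcard : Nat.card ((cj g Sl).subgroupOf S) = ℓ ^ (Nat.card S).factorization ℓ := by
              rw [Nat.card_congr (Subgroup.subgroupOfEquivOfLe hle).toEquiv, card_cj, hSl,
                Subgroup.card_map_of_injective S.subtype_injective, P.card_eq_multiplicity]
            obtain ⟨s, hs⟩ := MulAction.exists_smul_eq S P (Sylow.ofCard _ hcard)
            intro y hy
            have h1 : (⟨y, hle hy⟩ : S) ∈ ((Sylow.ofCard _ hcard : Sylow ℓ S) : Subgroup S) := by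
              rw [Sylow.coe_ofCard, Subgroup.mem_subgroupOf]
              exact hy
            rw [← hs, Sylow.coe_subgroup_smul] at h1
            obtain ⟨z, hz, e⟩ := h1
            have e' : (s : G) * z * (s : G)⁻¹ = y := by simpa using congrArg Subtype.val e
            rw [← e']
            exact hconjS s s.2 z (Subgroup.mem_sup_right ⟨z, hz, rfl⟩)
        have hS2 : Rs ⊔ Sl = S := by
          refine Subgroup.eq_of_le_of_card_ge (sup_le inf_le_right hSlS) ?_
          by_contra hlt
          have h1 : Rs ⊔ Sl ≤ R := ihm _ (by omega) hS2n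
            (Group.isSolvable_of_isSolvable_injective
              (f := Subgroup.inclusion (sup_le inf_le_right hSlS : Rs ⊔ Sl ≤ S))
              (Subgroup.inclusion_injective _))
          have h2 : Disjoint Sl R := IsPGroup.disjoint_of_ne ℓ q hℓq Sl R hSlp hRp
          exact hSl1 (le_bot_iff.1 (h2.le_bot.trans' (le_inf le_rfl (le_sup_right.trans h1))))
        set NN := Subgroup.normalizer (Sl : Set G) with hNN
        have hfr : NN ⊔ R = ⊤ := by
          have h1 : NN ⊔ S = ⊤ := Sylow.normalizer_sup_eq_top P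
          refine top_le_iff.1 (h1.ge.trans (sup_le le_sup_left ?_))
          rw [← hS2]
          exact sup_le (inf_le_left.trans le_sup_right) (Subgroup.le_normalizer.trans le_sup_left)
        -- a member of `D` normalises `Sl`
        obtain ⟨A₁, hA₁, hA₁N⟩ : ∃ A₁ ∈ D, A₁ ≤ NN := by
          obtain ⟨a, ha, ha1⟩ := exists_gen hD.hp (hD.card A₀ hA₀)
          have hmem : a ∈ NN ⊔ R := hfr ▸ Subgroup.mem_top a
          rw [sup_comm, ← SetLike.mem_coe, Subgroup.normal_mul] at hmem
          obtain ⟨r, hr, x, hx, e⟩ := Set.mem_mul.1 hmem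
          have hKA : IsKA q (R ⊔ A₀) A₀ R := ⟨hRp, rfl, le_top.trans (hnorm inferInstance)⟩
          have hxRA : x ∈ R ⊔ A₀ := by
            rw [show x = r⁻¹ * a by rw [← e, inv_mul_cancel_left]]
            exact mul_mem (Subgroup.mem_sup_left (inv_mem hr)) (Subgroup.mem_sup_right ha)
          have hxR : x ∉ R := fun h => ha1 (by
            have haR : a ∈ R := e ▸ mul_mem hr h
            exact Subgroup.mem_bot.1
              ((hKA.inf_eq_bot hD.hp hD.hq hD.hpq (hD.card A₀ hA₀)).le (Subgroup.mem_inf.2 ⟨haR, ha⟩)))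
          obtain ⟨k, hk, hle⟩ := hKA.exists_point hD.hp hD.hq hD.hpq (hD.card A₀ hA₀) hxRA hxR
          exact ⟨_, hD.conj A₀ hA₀ k, hle.trans (Subgroup.zpowers_le.2 hx)⟩
        set E := {B | B ∈ D ∧ B ≤ Subgroup.centralizer (Sl : Set G)} with hE
        have hmemE : ∀ B ∈ D, B ≤ NN → B ∈ E := fun B hB hBN =>
          ⟨hB, fun b hb => Subgroup.mem_centralizer_iff.2 fun x hx =>
            (hD.commute_of_coprime hB hBN hcop (fun h => hnoS B hB (h.trans hSlS)) hx hb).eq⟩
        have hE1 : A₁ ∈ E := hmemE A₁ hA₁ hA₁N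
        set H := sSup E with hH
        have hRH : R ⊔ H = ⊤ := by
          refine top_le_iff.1 (hgen ▸ sSup_le fun B hB => ?_)
          obtain ⟨g, rfl⟩ := hD.exists_conj hA₁ hB
          have hg : g ∈ R ⊔ NN := by rw [sup_comm, hfr]; exact Subgroup.mem_top g
          rw [← SetLike.mem_coe, Subgroup.normal_mul] at hg
          obtain ⟨r, hr, x, hx, rfl⟩ := Set.mem_mul.1 hg
          rw [cj_mul]
          have h2 : cj x A₁ ∈ E := hmemE _ (hD.conj A₁ hA₁ x) (cj_le_of_mem hA₁N hx)
          exact cj_le_of_mem ((le_sSup h2).trans le_sup_right) (Subgroup.mem_sup_left hr)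
        by_cases hHtop : H = ⊤
        · -- `Sl` is central
          have hSlZ : Sl ≤ Subgroup.center G := fun x hx => Subgroup.mem_center_iff.2 fun g =>
            (Subgroup.mem_centralizer_iff.1
              ((sSup_le fun B hB => hB.2 : H ≤ _) (by show g ∈ H; rw [hHtop]; exact Subgroup.mem_top g)) x hx).symm
          exact hSl1 (hnoq Sl (Subgroup.normalizer_eq_top_iff.1 (top_le_iff.1 fun g _ =>
            Subgroup.centralizer_le_normalizer _ (Subgroup.mem_centralizer_iff.2 fun x hx =>
              (Subgroup.mem_center_iff.1 (hSlZ hx) g).symm))) hcop)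
        have hHlt : Nat.card H ≤ n := by
          have h1 : Nat.card H < Nat.card G := by
            rw [← Subgroup.card_top (G := G)]
            refine lt_of_le_of_ne (Subgroup.card_le_of_le le_top) fun e => hHtop ?_
            exact Subgroup.eq_of_le_of_card_ge le_top e.ge
          omega
        have hA₁H : A₁ ≤ H := le_sSup hE1
        obtain ⟨K', hK'⟩ := ih H hHlt _ (hD.restrict H)
          (PairGen.restrict_gen (isGenBy_sSup fun _ h => h.1)) (A₁.subgroupOf H)
          (by show (A₁.subgroupOf H).map H.subtype ∈ D; rwa [Subgroup.map_subgroupOf_eq_of_le hA₁H])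
        have hK := hK'.map_subtype
        rw [Subgroup.map_subgroupOf_eq_of_le hA₁H] at hK
        set K := K'.map H.subtype with hKd
        refine htopKA (K := R ⊔ K) ⟨IsPGroup.to_sup_of_normal_left' hRp hK.pgroup
          (le_top.trans (hnorm inferInstance)), ?_, ?_⟩ hA₁
        · rw [sup_assoc, hK.sup_eq, hRH]
        · rw [← hRH]
          refine sup_le (le_sup_left.trans Subgroup.le_normalizer) fun g hg => cj_eq_iff.1 ?_
          rw [cj_sup, cj_eq_iff.2 (hnorm (inferInstance : R.Normal) (Subgroup.mem_top g)),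
            cj_eq_iff.2 (hK.norm hg)]
    -- the hypotheses of a minimal counterexample
    refine Min.absurd_min (G := G) (p := p) (q := q) (D := D) (F := F)
      ⟨hD, hgen, fun H hH hHne A hA hAH => ?_,
        fun N hN hNs => hsolv _ N le_rfl hN hNs, hnotKA⟩ ⟨A₀, hA₀⟩
    have hHlt : Nat.card H ≤ n := by
      have h1 : Nat.card H < Nat.card G := by
        rw [← Subgroup.card_top (G := G)]
        refine lt_of_le_of_ne (Subgroup.card_le_of_le le_top) fun e => hHne ?_
        exact Subgroup.eq_of_le_of_card_ge le_top e.ge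
      omega
    obtain ⟨K', hK'⟩ := ih H hHlt _ (hD.restrict H) (PairGen.restrict_gen hH) (A.subgroupOf H)
      (by show (A.subgroupOf H).map H.subtype ∈ D; rwa [Subgroup.map_subgroupOf_eq_of_le hAH])
    have hK := hK'.map_subtype
    rw [Subgroup.map_subgroupOf_eq_of_le hAH] at hK
    exact ⟨_, hK⟩

end Cfsg.Agent.H54.PairGen
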