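import Cfsg.Agent.H54.PairGen.Centre

/-!
# `q`-elements acting quadratically on the centre of `K ⋊ A`
-/

set_option autoImplicit false
set_option linter.dupNamespace false
open scoped Pointwise commutatorElement

namespace Cfsg.Agent.H54.PairGen

universe u v

variable {G : Type u} [Group G] [Finite G] {p q : ℕ} {D : Set (Subgroup G)} {F : Type v} [Group F]
  {H A K : Subgroup G}

/-- A `q`-element normalising a `q`-group `X` moves some element outside a proper subgroup `X₀`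
into `X₀`. -/
theorem exists_commutator_mem_of_lt {q : ℕ} (hq : q.Prime) {X X₀ : Subgroup G} (hX : IsPGroup q X)
    (hX₀ : ¬ X ≤ X₀) {y : G} (hy : ∃ n : ℕ, y ^ q ^ n = 1)
    (hyX : y ∈ Subgroup.normalizer (X : Set G)) :
    ∃ k ∈ X, k ∉ X₀ ∧ ⁅y, k⁆ ∈ X₀ := by
  haveI := Fact.mk hq
  obtain ⟨n, hn⟩ := hy
  obtain ⟨j, -, hj⟩ := (Nat.dvd_prime_pow hq).1 (orderOf_dvd_of_pow_eq_one hn)
  have hyp : IsPGroup q (Subgroup.zpowers y) :=
    IsPGroup.of_card (n := j) (by rw [Nat.card_zpowers, hj])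
  have hyn : Subgroup.zpowers y ≤ Subgroup.normalizer (X : Set G) := Subgroup.zpowers_le.2 hyX
  set P := X ⊔ Subgroup.zpowers y with hP
  have hPp : IsPGroup q P := IsPGroup.to_sup_of_normal_left' hX hyp hyn
  haveI : Group.IsNilpotent P := hPp.isNilpotent
  obtain ⟨m, hm⟩ := (Subgroup.isNilpotent_iff_lowerCentralSeries P).1 inferInstance
  have hPX : P ≤ Subgroup.normalizer (X : Set G) := sup_le Subgroup.le_normalizer hyn
  let S : ℕ → Subgroup G := fun i => i.rec X fun _ T => ⁅T, P⁆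
  have hS : ∀ i, S i ≤ X ∧ S i ≤ P.lowerCentralSeries i := by
    intro i
    induction i with
    | zero => exact ⟨le_rfl, le_sup_left⟩
    | succ i ih =>
      refine ⟨Subgroup.commutator_le.2 fun a ha b hb => ?_, ?_⟩
      · have h1 := (Subgroup.mem_normalizer_iff.1 (hPX hb) _).1 (X.inv_mem (ih.1 ha))
        rw [show ⁅a, b⁆ = a * (b * a⁻¹ * b⁻¹) by rw [commutatorElement_def]; group]
        exact mul_mem (ih.1 ha) h1
      · rw [Subgroup.lowerCentralSeries_succ]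
        exact Subgroup.commutator_mono ih.2 le_rfl
  have hex : ∃ i, S i ≤ X₀ := ⟨m, ((hS m).2.trans hm.le).trans bot_le⟩
  classical
  obtain ⟨i, hi, hi'⟩ : ∃ i, ¬ S i ≤ X₀ ∧ S (i + 1) ≤ X₀ := by
    have h0 : Nat.find hex ≠ 0 := fun e => hX₀ (e ▸ Nat.find_spec hex :)
    obtain ⟨i, hi⟩ := Nat.exists_eq_succ_of_ne_zero h0
    exact ⟨i, Nat.find_min hex (by omega), by have h1 := Nat.find_spec hex; rwa [hi] at h1⟩
  obtain ⟨k, hk, hk0⟩ := SetLike.not_le_iff_exists.1 hi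
  refine ⟨k, (hS i).1 hk, hk0, ?_⟩
  rw [← inv_mem_iff, commutatorElement_inv]
  exact hi' (Subgroup.commutator_mem_commutator hk
    (Subgroup.mem_sup_right (Subgroup.mem_zpowers y)))

/-- Left linearity of a central commutator. -/
theorem commutator_mul_left {a b c : G} (h : Commute a ⁅b, c⁆) (h' : Commute ⁅a, c⁆ ⁅b, c⁆) :
    ⁅a * b, c⁆ = ⁅a, c⁆ * ⁅b, c⁆ := by
  rw [h'.eq]
  calc ⁅a * b, c⁆ = a * ⁅b, c⁆ * a⁻¹ * ⁅a, c⁆ := by simp only [commutatorElement_def]; group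
    _ = ⁅b, c⁆ * ⁅a, c⁆ := by rw [h.eq, mul_inv_cancel_right]

/-- Right linearity of a central commutator. -/
theorem commutator_mul_right {a b c : G} (h : Commute b ⁅a, c⁆) :
    ⁅a, b * c⁆ = ⁅a, b⁆ * ⁅a, c⁆ := by
  calc ⁅a, b * c⁆ = ⁅a, b⁆ * (b * ⁅a, c⁆ * b⁻¹) := by simp only [commutatorElement_def]; group
    _ = ⁅a, b⁆ * ⁅a, c⁆ := by rw [h.eq, mul_inv_cancel_right]

namespace PairGen

theorem commutator_mem_K (hH : IsKA q H A K) {x y : G} (hx : x ∈ K) (hy : y ∈ K) : ⁅x, y⁆ ∈ K := by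
  rw [commutatorElement_def]
  exact mul_mem (mul_mem (mul_mem hx hy) (inv_mem hx)) (inv_mem hy)

/-- A `q`-element acting quadratically on the commutators `[k, k^b]`, `k ∈ V`, `b ∈ A`, moves the
elements of `V` only inside the centre. -/
theorem commutator_mem_of_quadratic (h : PairGen G p q D F) (hQ : ¬ QAbelian q F) (hA : A ∈ D)
    (hH : IsKA q H A K) (hgen : IsGenBy D H) {y : G} (hy : ∃ n : ℕ, y ^ q ^ n = 1)
    (hyA : ∀ b ∈ A, Commute y b) (hyH : cj y H = H) {V : Subgroup G} (hVK : V ≤ K)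
    (hyV : y ∈ Subgroup.normalizer (V : Set G))
    (hquad : ∀ k ∈ V, ∀ b ∈ A, Commute y ⁅y, ⁅k, b * k * b⁻¹⁆⁆) {k : G} (hk : k ∈ V) :
    ⁅y, k⁆ ∈ Subgroup.centralizer (H : Set G) := by
  haveI := Fact.mk h.hq
  have hA' := h.card A hA
  set Z := Subgroup.centralizer (H : Set G) with hZ
  have hK' : ⁅K, K⁆ ≤ Z := h.commutator_central hQ hA hH hgen
  have hcK : ∀ u ∈ K, ∀ v ∈ K, ∀ w ∈ K, Commute w ⁅u, v⁆ := fun u hu v hv w hw =>
    Subgroup.mem_centralizer_iff.1 (hK' (Subgroup.commutator_mem_commutator hu hv)) w (hH.le_K hw)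
  have hyK : ∀ u ∈ K, y * u * y⁻¹ ∈ K := fun u hu => by
    have := conj_mem_cj (g := y) hu
    rwa [hH.cj_K_eq h.hp h.hq h.hpq hA' hyH] at this
  have hyu : ∀ u ∈ K, ⁅y, u⁆ ∈ K := fun u hu => by
    rw [commutatorElement_def]; exact mul_mem (hyK u hu) (inv_mem hu)
  let V₂ : Subgroup G :=
    { carrier := {u | u ∈ V ∧ ⁅y, u⁆ ∈ Z}
      one_mem' := ⟨one_mem _, by rw [commutatorElement_one_right]; exact one_mem _⟩
      mul_mem' := by
        rintro u v ⟨hu, hu'⟩ ⟨hv, hv'⟩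
        refine ⟨mul_mem hu hv, ?_⟩
        have e : ⁅y, u * v⁆ = ⁅y, u⁆ * (u * ⁅y, v⁆ * u⁻¹) := by
          simp only [commutatorElement_def]; group
        rw [e, (Subgroup.mem_centralizer_iff.1 hv' u (hH.le_K (hVK hu))), mul_inv_cancel_right]
        exact mul_mem hu' hv'
      inv_mem' := by
        rintro u ⟨hu, hu'⟩
        refine ⟨inv_mem hu, ?_⟩
        have hu'' : Commute u⁻¹ ⁅y, u⁆⁻¹ :=
          (show Commute u ⁅y, u⁆ from
            Subgroup.mem_centralizer_iff.1 hu' u (hH.le_K (hVK hu))).inv_inv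
        have e : ⁅y, u⁻¹⁆ = u⁻¹ * ⁅y, u⁆⁻¹ * u := by simp only [commutatorElement_def]; group
        rw [e, hu''.eq, inv_mul_cancel_right]
        exact inv_mem hu' }
  by_contra hne
  have hlt : ¬ V ≤ V₂ := fun hle => hne (hle hk).2
  obtain ⟨k, hkV, hk2, hw2⟩ :=
    exists_commutator_mem_of_lt h.hq (hH.pgroup.to_le hVK) hlt hy hyV
  have hkK := hVK hkV
  have hwZ : ⁅y, k⁆ ∉ Z := fun e => hk2 ⟨hkV, e⟩
  set w := ⁅y, k⁆ with hw
  have hwK : w ∈ K := hyu k hkK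
  have hζ : ⁅y, w⁆ ∈ Z := hw2.2
  -- the conjugates of `w` under `A` commute
  have key : ∀ b ∈ A, Commute w (b * w * b⁻¹) := by
    intro b hb
    have hnb : ∀ u ∈ K, b * u * b⁻¹ ∈ K := fun u hu =>
      (Subgroup.mem_normalizer_iff.1 (hH.norm (hH.le_A hb)) u).1 hu
    set k' := b * k * b⁻¹ with hk'
    set w' := b * w * b⁻¹ with hw'
    have hk'K : k' ∈ K := hnb k hkK
    have hw'K : w' ∈ K := hnb w hwK
    have hyb := hyA b hb
    have e1 : y * k * y⁻¹ = w * k := by rw [hw, commutatorElement_def]; group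
    have e1' : y * k' * y⁻¹ = w' * k' := by
      calc y * (b * k * b⁻¹) * y⁻¹ = (y * b) * k * (y * b)⁻¹ := by group
        _ = b * (y * k * y⁻¹) * b⁻¹ := by rw [hyb.eq]; group
        _ = b * w * b⁻¹ * (b * k * b⁻¹) := by rw [e1]; group
    set ζ := ⁅y, w⁆ with hζd
    have e2 : y * w * y⁻¹ = ζ * w := by rw [hζd, commutatorElement_def]; group
    have hζb : Commute b ζ := Subgroup.mem_centralizer_iff.1 hζ b (hH.le_A hb)
    have e2' : y * w' * y⁻¹ = ζ * w' := by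
      calc y * (b * w * b⁻¹) * y⁻¹ = (y * b) * w * (y * b)⁻¹ := by group
        _ = b * (y * w * y⁻¹) * b⁻¹ := by rw [hyb.eq]; group
        _ = (b * ζ) * w * b⁻¹ := by rw [e2]; group
        _ = ζ * (b * w * b⁻¹) := by rw [hζb.eq]; group
    have hζK : ζ ∈ K := hyu w hwK
    have bl : ∀ u₁ ∈ K, ∀ u₂ ∈ K, ∀ v ∈ K, ⁅u₁ * u₂, v⁆ = ⁅u₁, v⁆ * ⁅u₂, v⁆ :=
      fun u₁ h1 u₂ h2 v hv => commutator_mul_left (hcK u₂ h2 v hv u₁ h1)
        (hcK u₂ h2 v hv _ (commutator_mem_K hH h1 hv))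
    have br : ∀ u ∈ K, ∀ v₁ ∈ K, ∀ v₂ ∈ K, ⁅u, v₁ * v₂⁆ = ⁅u, v₁⁆ * ⁅u, v₂⁆ :=
      fun u hu v₁ h1 v₂ h2 => commutator_mul_right (hcK u hu v₂ h2 v₁ h1)
    have zl : ∀ u ∈ K, ∀ v ∈ K, ⁅ζ * u, v⁆ = ⁅u, v⁆ := by
      intro u hu v hv
      rw [bl ζ hζK u hu v hv, commutatorElement_eq_one_iff_mul_comm.2
        (Subgroup.mem_centralizer_iff.1 hζ v (hH.le_K hv)).symm, one_mul]
    have zr : ∀ u ∈ K, ∀ v ∈ K, ⁅u, ζ * v⁆ = ⁅u, v⁆ := by
      intro u hu v hv
      rw [br u hu ζ hζK v hv, commutatorElement_eq_one_iff_mul_comm.2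
        (Subgroup.mem_centralizer_iff.1 hζ u (hH.le_K hu)), one_mul]
    have cy : ∀ u v : G, y * ⁅u, v⁆ * y⁻¹ = ⁅y * u * y⁻¹, y * v * y⁻¹⁆ := fun u v => by
      simp only [commutatorElement_def]; group
    -- the values
    set α := ⁅w, w'⁆ with hα
    set β := ⁅w, k'⁆ with hβ
    set γ := ⁅k, w'⁆ with hγ
    set δ := ⁅k, k'⁆ with hδ
    have hαc : ∀ u ∈ K, Commute u α := hcK w hwK w' hw'K
    have yα : y * α * y⁻¹ = α := by rw [cy, e2, e2', zl w hwK _ (mul_mem hζK hw'K), zr w hwK w' hw'K]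
    have yβ : y * β * y⁻¹ = α * β := by
      rw [cy, e2, e1', zl w hwK _ (mul_mem hw'K hk'K), br w hwK w' hw'K k' hk'K]
    have yγ : y * γ * y⁻¹ = α * γ := by
      rw [cy, e1, e2', zr _ (mul_mem hwK hkK) w' hw'K, bl w hwK k hkK w' hw'K]
    have yδ : y * δ * y⁻¹ = α * β * γ * δ := by
      rw [cy, e1, e1', bl w hwK k hkK _ (mul_mem hw'K hk'K), br w hwK w' hw'K k' hk'K,
        br k hkK w' hw'K k' hk'K, ← hα, ← hβ, ← hγ, ← hδ]
      simp only [mul_assoc]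
    have hd : ⁅y, δ⁆ = α * β * γ := by rw [commutatorElement_def, yδ]; group
    have h1 := hquad k hkV b hb
    rw [show ⁅k, b * k * b⁻¹⁆ = δ from rfl, hd] at h1
    have h2 : y * (α * β * γ) * y⁻¹ = α * β * γ := by rw [h1.eq, mul_inv_cancel_right]
    rw [show y * (α * β * γ) * y⁻¹ = (y * α * y⁻¹) * (y * β * y⁻¹) * (y * γ * y⁻¹) by group,
      yα, yβ, yγ] at h2
    have hβK := commutator_mem_K hH hwK hk'K
    have h3 : α * (α * (α * β * γ)) = α * β * γ := by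
      calc α * (α * (α * β * γ)) = α * α * (α * β) * γ := by group
        _ = α * α * (β * α) * γ := by rw [← (hαc β hβK).eq]
        _ = α * (α * β) * (α * γ) := by group
        _ = α * β * γ := h2
    rw [← mul_assoc, mul_eq_right] at h3
    -- `α` is a `q`-element with square one
    have hαK : α ∈ K := commutator_mem_K hH hwK hw'K
    obtain ⟨n, hn⟩ := hH.pgroup ⟨α, hαK⟩
    have hd1 := orderOf_dvd_of_pow_eq_one (by simpa using congrArg Subtype.val hn : α ^ q ^ n = 1)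
    have hd2 : orderOf α ∣ 2 := orderOf_dvd_of_pow_eq_one (by rw [pow_two]; exact h3)
    have hα1 : α = 1 := orderOf_eq_one_iff.1 (Nat.dvd_one.1
      ((((Nat.coprime_primes h.hq Nat.prime_two).2 h.hq2).pow_left n) ▸ Nat.dvd_gcd hd1 hd2))
    exact commutatorElement_eq_one_iff_mul_comm.1 hα1
  -- so they generate an abelian invariant subgroup
  set X := Subgroup.closure {x | ∃ b ∈ A, b * w * b⁻¹ = x} with hX
  have hXK : X ≤ K := (Subgroup.closure_le _).2 (by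
    rintro _ ⟨b, hb, rfl⟩
    exact (Subgroup.mem_normalizer_iff.1 (hH.norm (hH.le_A hb)) w).1 hwK)
  have hXA : A ≤ Subgroup.normalizer (X : Set G) := by
    intro b hb
    rw [← cj_eq_iff]
    refine Subgroup.eq_of_le_of_card_ge ?_ (by rw [card_cj])
    rw [cj, MonoidHom.map_closure, Subgroup.closure_le]
    rintro _ ⟨_, ⟨c, hc, rfl⟩, rfl⟩
    exact Subgroup.subset_closure ⟨b * c, mul_mem hb hc, by simp [mul_assoc]⟩
  have hXc : ∀ x ∈ X, ∀ z ∈ X, Commute x z := by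
    have hle : X ≤ Subgroup.centralizer (X : Set G) := by
      rw [hX, Subgroup.centralizer_closure, Subgroup.closure_le]
      rintro _ ⟨b, hb, rfl⟩
      refine Subgroup.mem_centralizer_iff.2 ?_
      rintro _ ⟨c, hc, rfl⟩
      have h1 := (key (c⁻¹ * b) (mul_mem (inv_mem hc) hb)).map (MulAut.conj c).toMonoidHom
      simp [mul_assoc] at h1
      simpa [mul_assoc] using h1.eq
    exact fun x hx z hz => (Subgroup.mem_centralizer_iff.1 (hle hx) z hz).symm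
  obtain ⟨a, ha, ha1⟩ := exists_gen h.hp hA'
  exact hwZ (h.central_of_commute hA hH hgen hwK ha ha1
    (h.commute_of_abelian hQ hA hH hXK hXA hXc
      (Subgroup.subset_closure ⟨1, one_mem _, by group⟩) ha))

/-- An element trivial modulo the centre and centralising `A` centralises `H`. -/
theorem mem_centralizer_of_trivial (h : PairGen G p q D F) (hA : A ∈ D) (hH : IsKA q H A K)
    (hgen : IsGenBy D H) {y : G} (hyA : ∀ b ∈ A, Commute y b)
    (hy : ∀ k ∈ K, ⁅y, k⁆ ∈ Subgroup.centralizer (H : Set G)) :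
    y ∈ Subgroup.centralizer (H : Set G) := by
  set S : Subgroup G := K ⊓ Subgroup.centralizer ({y} : Set G) with hS
  have hSA : A ≤ Subgroup.normalizer (S : Set G) := by
    intro b hb
    rw [← cj_eq_iff]
    refine Subgroup.eq_of_le_of_card_ge ?_ (by rw [card_cj])
    intro z hz
    obtain ⟨h1, h2⟩ := Subgroup.mem_inf.1 (mem_cj.1 hz)
    refine Subgroup.mem_inf.2 ⟨?_, Subgroup.mem_centralizer_singleton_iff.2 ?_⟩
    · have := (Subgroup.mem_normalizer_iff.1 (hH.norm (hH.le_A hb)) _).1 h1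
      simpa [mul_assoc] using this
    · have e : z = b * (b⁻¹ * z * b) * b⁻¹ := by group
      rw [e]
      exact (((hyA b hb).symm.mul_left (Subgroup.mem_centralizer_singleton_iff.1 h2)).mul_left
        (hyA b hb).symm.inv_left).eq
  have hSK : S = K := by
    refine hH.eq_of_commutator_mem h.hp h.hq h.hpq (h.card A hA) h.card hgen inf_le_left hSA ?_
    intro k hk b hb
    refine Subgroup.mem_inf.2 ⟨mul_mem ((Subgroup.mem_normalizer_iff.1
      (hH.norm (hH.le_A hb)) k).1 hk) (inv_mem hk), ?_⟩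
    rw [Subgroup.mem_centralizer_singleton_iff]
    have e1 : y * k * y⁻¹ = ⁅y, k⁆ * k := by rw [commutatorElement_def]; group
    have hb' := (hyA b hb).eq
    have hbz : b * ⁅y, k⁆ = ⁅y, k⁆ * b :=
      Subgroup.mem_centralizer_iff.1 (hy k hk) b (hH.le_A hb)
    have hbi : b⁻¹ * (k⁻¹ * ⁅y, k⁆⁻¹) = b⁻¹ * ⁅y, k⁆⁻¹ * k⁻¹ := by
      have h1 : Commute k ⁅y, k⁆ := Subgroup.mem_centralizer_iff.1 (hy k hk) k (hH.le_K hk)
      rw [h1.inv_inv.eq]; group
    symm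
    rw [← mul_inv_eq_iff_eq_mul]
    calc y * (b * k * b⁻¹ * k⁻¹) * y⁻¹
          = (y * b) * k * (y * b)⁻¹ * (y * k * y⁻¹)⁻¹ := by group
      _ = b * (y * k * y⁻¹) * b⁻¹ * (y * k * y⁻¹)⁻¹ := by rw [hb']; group
      _ = (b * ⁅y, k⁆) * k * (b⁻¹ * (k⁻¹ * ⁅y, k⁆⁻¹)) := by rw [e1]; group
      _ = (⁅y, k⁆ * b) * k * (b⁻¹ * ⁅y, k⁆⁻¹ * k⁻¹) := by rw [hbz, hbi]
      _ = ⁅y, k⁆ * (b * k * b⁻¹ * ⁅y, k⁆⁻¹) * k⁻¹ := by group
      _ = ⁅y, k⁆ * (⁅y, k⁆⁻¹ * (b * k * b⁻¹)) * k⁻¹ := by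
          congr 2
          have h1 : Commute (b * k * b⁻¹) ⁅y, k⁆ := Subgroup.mem_centralizer_iff.1 (hy k hk) _
            (mul_mem (mul_mem (hH.le_A hb) (hH.le_K hk)) (inv_mem (hH.le_A hb)))
          exact h1.inv_right.eq
      _ = b * k * b⁻¹ * k⁻¹ := by group
  refine Subgroup.mem_centralizer_iff.2 fun x hx => ?_
  obtain ⟨k, hk, b, hb, rfl⟩ := hH.exists_mul hx
  have h1 : Commute k y := Subgroup.mem_centralizer_singleton_iff.1 (hSK.ge hk).2
  exact (h1.mul_left (hyA b hb).symm).eq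

end PairGen

end Cfsg.Agent.H54.PairGen
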