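import Cfsg.Agent.H54.PairGen.Good

/-!
# The elements fixed by an involution on its lines lie in the core of its centralizer
-/

set_option autoImplicit false
set_option linter.dupNamespace false
open scoped Pointwise commutatorElement

namespace Cfsg.Agent.H54.PairGen

universe u v

variable {G : Type u} [Group G] [Finite G] {p q : ℕ} {D : Set (Subgroup G)} {F : Type v} [Group F]
  {t : G} {C : Subgroup G}

namespace Min

theorem center_mem_core (m : Min G p q D F) {x : G} (hx : x ∈ Subgroup.center G) :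
    x ∈ Cfsg.centralizerPPrimeCore 2 t := by
  refine le_core (m.odd_of_isPGroup m.center_isPGroup) (Subgroup.center_le_centralizer _)
    (fun g _ => ?_) hx
  exact (Subgroup.normalizer_eq_top_iff.2 (inferInstance : (Subgroup.center G).Normal)).ge
    (Subgroup.mem_top g)

theorem fixedSup_le_core (m : Min G p q D F) (ht : orderOf t = 2) (hC : C ∈ fixedPts D t) :
    fixedSup D t ≤ Cfsg.centralizerPPrimeCore 2 t := by
  refine le_core ?_ fixedSup_le_centralizer fun g hg => cj_eq_iff.1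
    (cj_fixedSup m.pg.conj (Subgroup.mem_centralizer_singleton_iff.1 hg))
  obtain ⟨Kw, hKw⟩ := m.over_isKA hC (m.isOver_fixedSup ht)
  rw [hKw.card_eq m.pg.hp m.pg.hq m.pg.hpq (m.pg.card C hC.1)]
  exact (m.odd_of_isPGroup hKw.pgroup).mul (m.pg.hp.odd_of_ne_two m.pg.hp2)

theorem over_mem_core (m : Min G p q D F) (hC : C ∈ fixedPts D t)
    {M : Subgroup G} (hM : IsOver D t M) (hMmax : ∀ J, IsOver D t J → J ≤ M) {J : Subgroup G}
    (hJ : IsOver D t J) {x : G} (hx : x ∈ J) (hxq : ∃ n : ℕ, x ^ q ^ n = 1) (hxt : Commute x t) :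
    x ∈ Cfsg.centralizerPPrimeCore 2 t := by
  obtain ⟨K, hK⟩ := m.over_isKA hC hM
  have hA := m.pg.card C hC.1
  obtain ⟨n, hn⟩ := hxq
  have hxK : x ∈ K := hK.mem_K m.pg.hp m.pg.hq m.pg.hpq hA (hMmax J hJ hx) hn
  refine le_core (N := K ⊓ Subgroup.centralizer ({t} : Set G))
    (m.odd_of_isPGroup (hK.pgroup.to_le inf_le_left)) inf_le_right (fun g hg => ?_)
    (Subgroup.mem_inf.2 ⟨hxK, Subgroup.mem_centralizer_singleton_iff.2 hxt.eq⟩)
  have hgt : Commute g t := Subgroup.mem_centralizer_singleton_iff.1 hg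
  have hgM : cj g M = M := by
    refine cj_eq_of_le (hMmax _ ⟨?_, fun e => hM.2.1 ?_, ?_⟩)
    · exact (cj_mono hM.1).trans (cj_sSup_le fun B hB =>
        le_sSup ⟨m.pg.conj B hB.1 g, cj_mono hB.2⟩)
    · rw [← cj_inv_cj g M, e]
      exact Subgroup.map_top_of_surjective _ (MulAut.conj g⁻¹).surjective
    · exact (cj_fixedSup m.pg.conj hgt).ge.trans (cj_mono hM.2.2)
  refine cj_eq_iff.1 (cj_eq_of_le fun y hy => ?_)
  obtain ⟨h1, h2⟩ := Subgroup.mem_inf.1 (mem_cj.1 hy)
  refine Subgroup.mem_inf.2 ⟨?_, Subgroup.mem_centralizer_singleton_iff.2 ?_⟩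
  · have := conj_mem_cj (g := g) h1
    rw [hK.cj_K_eq m.pg.hp m.pg.hq m.pg.hpq hA hgM] at this
    simpa [mul_assoc] using this
  · have h3 : Commute (g⁻¹ * y * g) t := Subgroup.mem_centralizer_singleton_iff.1 h2
    have h4 := (hgt.mul_left h3).mul_left hgt.inv_left
    have e : g * (g⁻¹ * y * g) * g⁻¹ = y := by group
    rw [e] at h4
    exact h4.eq

/-- A point fixed by `t` on the line of a moved point and its image is the only one. -/
theorem line_fixed_unique (m : Min G p q D F) {B B' P P' : Subgroup G} (hB : B ∈ D)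
    (hB' : B' ∈ D) (hBB' : B ≠ B') (hBt : B ∉ fixedPts D t) (hP : P ∈ fixedPts D t)
    (hP' : P' ∈ fixedPts D t) (hPL : P ≤ B ⊔ B') (hP'L : P' ≤ B ⊔ B') : P' = P := by
  by_contra hne
  have h1 := m.pg.line_eq hB hB' hBB' hP'.1 hP.1 hne hP'L hPL
  refine hBt ⟨hB, fun b hb => ?_⟩
  have h2 : P' ⊔ P ≤ Subgroup.centralizer ({t} : Set G) :=
    sup_le (fun x hx => Subgroup.mem_centralizer_singleton_iff.2 (hP'.2 x hx).eq)
      (fun x hx => Subgroup.mem_centralizer_singleton_iff.2 (hP.2 x hx).eq)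
  exact Subgroup.mem_centralizer_singleton_iff.1 (h2 (h1.ge (Subgroup.mem_sup_left hb)))

/-- The elements of a line `⟨B, Bᵗ⟩` fixed by `t` lie in the core of the centralizer of `t`,
provided the fixed points of `t` are not in one class modulo `O_q(G)`. -/
theorem line_mem_core (m : Min G p q D F) (ht : orderOf t = 2)
    (hout : ∀ P ∈ fixedPts D t, ¬ fixedSup D t ≤ Cfsg.pCore q G ⊔ P)
    (hne : ∃ C, C ∈ fixedPts D t) {B : Subgroup G}
    (hB : B ∈ D) (hBt : B ∉ fixedPts D t) {u : G} (hu : u ∈ B ⊔ cj t B) (hut : Commute u t) :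
    u ∈ Cfsg.centralizerPPrimeCore 2 t := by
  haveI := Fact.mk m.pg.hq
  obtain ⟨C₀, hC₀⟩ := hne
  obtain ⟨hne', hLt, P, hP, hPL, hBP, heq⟩ := m.exists_line_fixed ht hC₀ hB hBt
  have hp := m.pg.hp; have hq := m.pg.hq; have hpq := m.pg.hpq
  have hA := m.pg.card P hP.1
  obtain ⟨a, ha, ha1⟩ := exists_gen hp hA
  obtain ⟨Q, -, hQ⟩ := m.pg.line hP.1 hB (Ne.symm hBP)
  have hsub : P ⊔ B = B ⊔ cj t B := by rw [sup_comm]; exact heq
  rw [← hsub] at hu hLt
  have hQt := hQ.cj_K_eq hp hq hpq hA hLt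
  obtain ⟨x, hx, c, hc, rfl⟩ := hQ.exists_mul hu
  have hct : Commute c t := hP.2 c hc
  have hxt : Commute x t := by
    have h1 := hut.mul_left hct.inv_left
    rwa [mul_inv_cancel_right] at h1
  refine mul_mem ?_ (m.fixedSup_le_core ht hP ((le_sSup hP : P ≤ fixedSup D t) hc))
  -- the point `x P x⁻¹` is fixed, so it is `P`
  have hxa : Commute x a := by
    have hfix : cj x P ∈ fixedPts D t := ⟨m.pg.conj P hP.1 x, fun b hb => by
      have h1 := hP.2 _ (mem_cj.1 hb)
      have h2 := (hxt.mul_left h1).mul_left hxt.inv_left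
      have e : x * (x⁻¹ * b * x) * x⁻¹ = b := by group
      rwa [e] at h2⟩
    refine hQ.commute_of_cj_eq hp hq hpq hA hx ha (m.line_fixed_unique hB (m.pg.conj B hB t)
      (Ne.symm hne') hBt hP hfix hPL ?_)
    rw [← hsub]
    exact cj_le_of_mem le_sup_left (hQ.le_K hx)
  by_cases hxc : x ∈ Subgroup.center G
  · exact m.center_mem_core hxc
  -- so the lines are not abelian
  by_cases hQab : QAbelian q F
  · exact (hxc (by rw [m.pg.line_fixed_eq_one hQab hP.1 hB (Ne.symm hBP) hQ hx ha ha1 hxa]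
                   exact one_mem _)).elim
  have hxq : ∃ n : ℕ, x ^ q ^ n = 1 := by
    obtain ⟨n, hn⟩ := hQ.pgroup ⟨x, hx⟩
    exact ⟨n, by simpa using congrArg Subtype.val hn⟩
  have hxP : ∀ b ∈ P, Commute x b := by
    intro b hb
    rw [eq_zpowers_of_card_prime hp hA ha ha1] at hb
    obtain ⟨i, rfl⟩ := hb
    exact hxa.zpow_right i
  obtain ⟨M, hM, hMmax⟩ := m.exists_greatest hQab ht hP (hout P hP)
  have hW := m.isOver_fixedSup ht
  obtain ⟨Kw, hKw⟩ := m.over_isKA hP hW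
  -- the points centralised by a non-central element
  have hproper : ∀ u : G, u ∉ Subgroup.center G →
      sSup {B | B ∈ D ∧ B ≤ Subgroup.centralizer ({u} : Set G)} ≠ ⊤ := by
    intro u hu e
    refine hu (Subgroup.mem_center_iff.2 fun g => ?_)
    exact Subgroup.mem_centralizer_singleton_iff.1
      ((sSup_le fun B hB => hB.2 : sSup {B | B ∈ D ∧ B ≤ Subgroup.centralizer ({u} : Set G)} ≤ _)
        (e ▸ Subgroup.mem_top g))
  set H := sSup {B | B ∈ D ∧ B ≤ Subgroup.centralizer ({x} : Set G)} with hH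
  have hHg : IsGenBy D H := isGenBy_sSup fun _ h => h.1
  have hHne : H ≠ ⊤ := hproper x hxc
  have hxL := m.pg.central_of_commute hP.1 hQ (PairGen.self_isGenBy_line hP.1 hB) hx ha ha1 hxa
  have hLH : P ⊔ B ≤ H := by
    refine sup_le (le_sSup ⟨hP.1, ?_⟩) (le_sSup ⟨hB, ?_⟩) <;> intro b hb <;>
      refine Subgroup.mem_centralizer_singleton_iff.2 ?_
    · exact Subgroup.mem_centralizer_iff.1 hxL b (Subgroup.mem_sup_left hb)
    · exact Subgroup.mem_centralizer_iff.1 hxL b (Subgroup.mem_sup_right hb)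
  have hxH : x ∈ H := hLH (hQ.le_K hx)
  have hfinish : ∀ J, IsGenBy D J → J ≠ ⊤ → fixedSup D t ≤ J → x ∈ J →
      x ∈ Cfsg.centralizerPPrimeCore 2 t := fun J h1 h2 h3 h4 =>
    m.over_mem_core hP hM hMmax ⟨h1, h2, h3⟩ h4 hxq hxt
  have hxW : cj x (fixedSup D t) = fixedSup D t := cj_fixedSup m.pg.conj hxt
  have hxKw : cj x Kw = Kw := hKw.cj_K_eq hp hq hpq hA hxW
  set Zw := Kw ⊓ Subgroup.centralizer (fixedSup D t : Set G) with hZw
  by_cases hZc : Zw ≤ Subgroup.center G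
  · -- `x` centralises the fixed points
    have hxWc : x ∈ Subgroup.centralizer (fixedSup D t : Set G) := by
      refine m.pg.mem_centralizer_of_trivial hP.1 hKw hW.1 hxP fun k hk => ?_
      refine m.pg.commutator_mem_of_quadratic hQab hP.1 hKw hW.1 hxq hxP hxW le_rfl
        (cj_eq_iff.1 hxKw) (fun k hk b hb => ?_) hk
      have hk' : b * k * b⁻¹ ∈ Kw :=
        (Subgroup.mem_normalizer_iff.1 (hKw.norm (hKw.le_A hb)) k).1 hk
      have h1 : ⁅k, b * k * b⁻¹⁆ ∈ Subgroup.center G :=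
        hZc (Subgroup.mem_inf.2 ⟨PairGen.commutator_mem_K hKw hk hk',
          m.pg.commutator_central hQab hP.1 hKw hW.1 (Subgroup.commutator_mem_commutator hk hk')⟩)
      rw [commutatorElement_eq_one_iff_mul_comm.2 (Subgroup.mem_center_iff.1 h1 x)]
      exact Commute.one_right x
    refine hfinish H hHg hHne (sSup_le fun B' hB' => le_sSup ⟨hB'.1, fun b hb => ?_⟩) hxH
    exact Subgroup.mem_centralizer_singleton_iff.2
      (Subgroup.mem_centralizer_iff.1 hxWc b ((le_sSup hB' : B' ≤ fixedSup D t) hb))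
  -- otherwise a non-central element `y` of `Zw` commutes with `x` modulo the centre
  have hxZw : x ∈ Subgroup.normalizer (Zw : Set G) := by
    rw [← cj_eq_iff]
    refine cj_eq_of_le fun z hz => ?_
    obtain ⟨h1, h2⟩ := Subgroup.mem_inf.1 (mem_cj.1 hz)
    refine Subgroup.mem_inf.2 ⟨?_, Subgroup.mem_centralizer_iff.2 fun j hj => ?_⟩
    · have := conj_mem_cj (g := x) h1
      rw [hxKw] at this
      simpa [mul_assoc] using this
    · have hj' : x⁻¹ * j * x ∈ fixedSup D t := by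
        rw [← hxW] at hj
        exact mem_cj.1 hj
      have h6 := Subgroup.mem_centralizer_iff.1 h2 _ hj'
      calc j * z = x * (x⁻¹ * j * x * (x⁻¹ * z * x)) * x⁻¹ := by group
        _ = z * j := by rw [h6]; group
  obtain ⟨y, hy, hyc, hxy⟩ := exists_commutator_mem_of_lt hq
    (hKw.pgroup.to_le (inf_le_left : Zw ≤ Kw)) hZc hxq hxZw
  obtain ⟨hyK, hyW⟩ := Subgroup.mem_inf.1 hy
  have hyt : Commute y t :=
    Subgroup.mem_centralizer_singleton_iff.1 (fixedSup_le_centralizer (hKw.le_K hyK))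
  have hyP : ∀ b ∈ P, Commute y b := fun b hb =>
    (Subgroup.mem_centralizer_iff.1 hyW b (hKw.le_A hb)).symm
  have hyH : cj y H = H := by
    refine cj_eq_of_le (cj_sSup_le fun B' hB' => le_sSup ⟨m.pg.conj B' hB'.1 y, fun b hb => ?_⟩)
    refine Subgroup.mem_centralizer_singleton_iff.2 ?_
    have h1 : Commute (y⁻¹ * b * y) x :=
      Subgroup.mem_centralizer_singleton_iff.1 (hB'.2 (mem_cj.1 hb))
    have h3 : Commute (y⁻¹ * b * y) (y⁻¹ * x * y) := by
      have e : y⁻¹ * x * y = (y⁻¹ * ⁅x, y⁆ * y) * x := by rw [commutatorElement_def]; group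
      rw [e]
      have e2 : y⁻¹ * ⁅x, y⁆ * y = ⁅x, y⁆ := by
        rw [mul_assoc, ← Subgroup.mem_center_iff.1 hxy y, inv_mul_cancel_left]
      rw [e2]
      exact (show Commute (y⁻¹ * b * y) ⁅x, y⁆ from Subgroup.mem_center_iff.1 hxy _).mul_right h1
    have h4 := h3.map (MulAut.conj y).toMonoidHom
    simp [mul_assoc] at h4
    exact h4.eq
  have hyKw : ∃ n : ℕ, y ^ q ^ n = 1 := by
    obtain ⟨n, hn⟩ := hKw.pgroup ⟨y, hyK⟩
    exact ⟨n, by simpa using congrArg Subtype.val hn⟩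
  obtain ⟨Kh, hKh⟩ := m.sub H hHg hHne P hP.1 (le_sup_left.trans hLH)
  have htH : cj t H = H := by
    refine cj_eq_of_le (cj_sSup_le fun B' hB' => le_sSup ⟨m.pg.conj B' hB'.1 t, fun b hb => ?_⟩)
    refine Subgroup.mem_centralizer_singleton_iff.2 ?_
    have h1 : Commute (t⁻¹ * b * t) x :=
      Subgroup.mem_centralizer_singleton_iff.1 (hB'.2 (mem_cj.1 hb))
    have h2 := (hxt.symm.mul_left h1).mul_left hxt.symm.inv_left
    have e : t * (t⁻¹ * b * t) * t⁻¹ = b := by group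
    rwa [e] at h2
  have hKt : cj t Kh = Kh := hKh.cj_K_eq hp hq hpq hA htH
  have hKy : cj y Kh = Kh := hKh.cj_K_eq hp hq hpq hA hyH
  set Zh := Subgroup.centralizer (H : Set G) with hZh
  have hcK : ∀ k ∈ Kh, ∀ l ∈ Kh, ⁅k, l⁆ ∈ Zh := fun k hk l hl =>
    m.pg.commutator_central hQab hP.1 hKh hHg (Subgroup.commutator_mem_commutator hk hl)
  have hconjZ : ∀ {g : G}, cj g H = H → ∀ z ∈ Zh, g * z * g⁻¹ ∈ Zh := by
    intro g hg z hz
    refine Subgroup.mem_centralizer_iff.2 fun j hj => ?_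
    have hj' : g⁻¹ * j * g ∈ H := by rw [← hg] at hj; exact mem_cj.1 hj
    have h6 := Subgroup.mem_centralizer_iff.1 hz _ hj'
    calc j * (g * z * g⁻¹) = g * (g⁻¹ * j * g * z) * g⁻¹ := by group
      _ = g * z * g⁻¹ * j := by rw [h6]; group
  -- a non-central common element of the two centres finishes
  by_cases hbig : ∃ w : G, w ∈ Zh ∧ w ∈ Zw ∧ w ∉ Subgroup.center G
  · obtain ⟨w, hwh, hww, hwc⟩ := hbig
    refine hfinish (sSup {B | B ∈ D ∧ B ≤ Subgroup.centralizer ({w} : Set G)})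
      (isGenBy_sSup fun _ h => h.1) (hproper w hwc)
      (sSup_le fun B' hB' => le_sSup ⟨hB'.1, fun b hb => ?_⟩) ?_
    · exact Subgroup.mem_centralizer_singleton_iff.2
        (Subgroup.mem_centralizer_iff.1 (Subgroup.mem_inf.1 hww).2 b
          ((le_sSup hB' : B' ≤ fixedSup D t) hb))
    · have hle : H ≤ sSup {B | B ∈ D ∧ B ≤ Subgroup.centralizer ({w} : Set G)} := by
        refine hHg.trans (sSup_le fun B' hB' => le_sSup ⟨hB'.1, fun b hb => ?_⟩)
        exact Subgroup.mem_centralizer_singleton_iff.2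
          (Subgroup.mem_centralizer_iff.1 hwh b (hB'.2 hb))
      exact hle hxH
  push Not at hbig
  -- the elements inverted by `t` modulo the centre
  have htK : ∀ k ∈ Kh, t * k * t⁻¹ ∈ Kh := fun k hk => hKt ▸ conj_mem_cj hk
  have hswap : ∀ u ∈ Kh, ∀ w ∈ Kh, ⁅u, w⁆ * (w * u) = u * w := fun u _ w _ => by
    rw [commutatorElement_def]; group
  let V : Subgroup G :=
    { carrier := {k | k ∈ Kh ∧ k * (t * k * t⁻¹) ∈ Zh}
      one_mem' := ⟨one_mem _, by simp⟩
      mul_mem' := by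
        rintro k l ⟨hk, hk'⟩ ⟨hl, hl'⟩
        refine ⟨mul_mem hk hl, ?_⟩
        have hz := hcK l hl _ (htK k hk)
        have hzk : Commute k ⁅l, t * k * t⁻¹⁆ :=
          Subgroup.mem_centralizer_iff.1 hz k (hKh.le_K hk)
        have e : k * l * (t * (k * l) * t⁻¹) =
            ⁅l, t * k * t⁻¹⁆ * (k * (t * k * t⁻¹)) * (l * (t * l * t⁻¹)) := by
          calc k * l * (t * (k * l) * t⁻¹)
              = k * (l * (t * k * t⁻¹)) * (t * l * t⁻¹) := by group
            _ = k * (⁅l, t * k * t⁻¹⁆ * ((t * k * t⁻¹) * l)) * (t * l * t⁻¹) := by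
                rw [hswap l hl _ (htK k hk)]
            _ = _ := by rw [← mul_assoc k, hzk.eq]; group
        rw [e]
        exact mul_mem (mul_mem hz hk') hl'
      inv_mem' := by
        rintro k ⟨hk, hk'⟩
        refine ⟨inv_mem hk, ?_⟩
        have h1 : Commute k (k * (t * k * t⁻¹)) :=
          Subgroup.mem_centralizer_iff.1 hk' k (hKh.le_K hk)
        have e : k⁻¹ * (t * k⁻¹ * t⁻¹) = (t * k * t⁻¹ * k)⁻¹ := by group
        have e2 : t * k * t⁻¹ * k = k * (t * k * t⁻¹) := by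
          calc t * k * t⁻¹ * k = k⁻¹ * (k * (t * k * t⁻¹) * k) := by group
            _ = k * (t * k * t⁻¹) := by rw [← h1.eq, inv_mul_cancel_left]
        rw [e, e2]
        exact inv_mem hk' }
  have hVle : V ≤ Kh := fun k hk => hk.1
  have hyV : y ∈ Subgroup.normalizer (V : Set G) := by
    rw [← cj_eq_iff]
    refine cj_eq_of_le fun z hz => ?_
    obtain ⟨h1, h2⟩ : y⁻¹ * z * y ∈ Kh ∧
        y⁻¹ * z * y * (t * (y⁻¹ * z * y) * t⁻¹) ∈ Zh := mem_cj.1 hz
    refine ⟨?_, ?_⟩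
    · have := conj_mem_cj (g := y) h1
      rw [hKy] at this
      simpa [mul_assoc] using this
    · have e : z * (t * z * t⁻¹) =
          y * (y⁻¹ * z * y * (t * (y⁻¹ * z * y) * t⁻¹)) * y⁻¹ := by
        have hyt' : t * y * t⁻¹ = y := by rw [← hyt.eq, mul_inv_cancel_right]
        symm
        calc y * (y⁻¹ * z * y * (t * (y⁻¹ * z * y) * t⁻¹)) * y⁻¹
            = z * y * ((t * y * t⁻¹)⁻¹ * (t * z * t⁻¹) * (t * y * t⁻¹)) * y⁻¹ := by group
          _ = z * (t * z * t⁻¹) := by rw [hyt']; group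
      rw [e]
      exact hconjZ hyH _ h2
  have hquad : ∀ k ∈ V, ∀ b ∈ P, Commute y ⁅y, ⁅k, b * k * b⁻¹⁆⁆ := by
    rintro k ⟨hk, hk'⟩ b hb
    have hbK : ∀ z ∈ Kh, b * z * b⁻¹ ∈ Kh := fun z hz =>
      (Subgroup.mem_normalizer_iff.1 (hKh.norm (hKh.le_A hb)) z).1 hz
    set k' := b * k * b⁻¹ with hk'd
    set w := ⁅k, k'⁆ with hw
    have hwZ : w ∈ Zh := hcK k hk k' (hbK k hk)
    have hwK : w ∈ Kh := PairGen.commutator_mem_K hKh hk (hbK k hk)
    set ζ := k * (t * k * t⁻¹) with hζ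
    have hζc : ∀ u ∈ H, Commute u ζ := fun u hu => Subgroup.mem_centralizer_iff.1 hk' u hu
    have hbt : t * b * t⁻¹ = b := by rw [← (hP.2 b hb).eq, mul_inv_cancel_right]
    have e1 : t * k * t⁻¹ = k⁻¹ * ζ := by rw [hζ]; group
    have e2 : t * k' * t⁻¹ = k'⁻¹ * ζ := by
      calc t * (b * k * b⁻¹) * t⁻¹ = (t * b * t⁻¹) * (t * k * t⁻¹) * (t * b * t⁻¹)⁻¹ := by group
        _ = b * k⁻¹ * (ζ * b⁻¹) := by rw [hbt, e1]; group
        _ = b * k⁻¹ * (b⁻¹ * ζ) := by rw [(hζc b (hKh.le_A hb)).inv_left.eq]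
        _ = (b * k * b⁻¹)⁻¹ * ζ := by group
    have hwt : t * w * t⁻¹ = w := by
      have e3 : t * w * t⁻¹ = ⁅t * k * t⁻¹, t * k' * t⁻¹⁆ := by
        simp only [hw, commutatorElement_def]; group
      have hki : k⁻¹ ∈ H := hKh.le_K (inv_mem hk)
      have hk'i : k'⁻¹ ∈ H := hKh.le_K (inv_mem (hbK k hk))
      have e4 : ⁅k⁻¹ * ζ, k'⁻¹ * ζ⁆ = ⁅k⁻¹, k'⁻¹⁆ := by
        have c1 := hζc _ hk'i
        have c2 := hζc _ hki
        calc ⁅k⁻¹ * ζ, k'⁻¹ * ζ⁆
            = k⁻¹ * ((ζ * k'⁻¹) * ζ⁻¹) * k * (ζ * ζ⁻¹) * k' := by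
              rw [commutatorElement_def]
              calc k⁻¹ * ζ * (k'⁻¹ * ζ) * (k⁻¹ * ζ)⁻¹ * (k'⁻¹ * ζ)⁻¹
                  = k⁻¹ * ((ζ * k'⁻¹) * (ζ * ζ⁻¹)) * (k * ζ⁻¹) * k' := by group
                _ = k⁻¹ * ((ζ * k'⁻¹) * (ζ * ζ⁻¹)) * (ζ⁻¹ * k) * k' := by
                    rw [show k * ζ⁻¹ = ζ⁻¹ * k from ((hζc k (hKh.le_K hk)).inv_right).eq]
                _ = _ := by group
          _ = ⁅k⁻¹, k'⁻¹⁆ := by rw [← c1.eq, commutatorElement_def]; group
      rw [e3, e1, e2, e4]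
      have e5 : ⁅k⁻¹, k'⁻¹⁆ = k⁻¹ * k'⁻¹ * w * k' * k := by
        simp only [hw, commutatorElement_def]; group
      have hwc : ∀ u ∈ H, Commute u w := fun u hu => Subgroup.mem_centralizer_iff.1 hwZ u hu
      rw [e5, mul_assoc (k⁻¹), (hwc _ hk'i).eq]
      calc k⁻¹ * (w * k'⁻¹) * k' * k = (k⁻¹ * w) * k := by group
        _ = w := by rw [(hwc _ hki).eq, inv_mul_cancel_right]
    have hwcomm : Commute w t := by
      show w * t = t * w
      conv_lhs => rw [← hwt]
      group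
    have h1 : ⁅y, w⁆ ∈ Zh := by
      rw [commutatorElement_def]
      exact mul_mem (hconjZ hyH w hwZ) (inv_mem hwZ)
    have hwP : ∀ b' ∈ P, Commute w b' := fun b' hb' =>
      (Subgroup.mem_centralizer_iff.1 hwZ b' (hKh.le_A hb')).symm
    have hwW : cj w (fixedSup D t) = fixedSup D t := cj_fixedSup m.pg.conj hwcomm
    have hwKw : cj w Kw = Kw := hKw.cj_K_eq hp hq hpq hA hwW
    have h2 : ⁅y, w⁆ ∈ Zw := by
      have e : ⁅y, w⁆ = y * (w * y⁻¹ * w⁻¹) := by rw [commutatorElement_def]; group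
      rw [e]
      refine mul_mem hy (Subgroup.mem_inf.2 ⟨?_, Subgroup.mem_centralizer_iff.2 fun j hj => ?_⟩)
      · have := conj_mem_cj (g := w) (inv_mem hyK)
        rwa [hwKw] at this
      · have hj' : w⁻¹ * j * w ∈ fixedSup D t := by
          rw [← hwW] at hj
          exact mem_cj.1 hj
        have h6 := Subgroup.mem_centralizer_iff.1 (inv_mem hyW) _ hj'
        calc j * (w * y⁻¹ * w⁻¹) = w * (w⁻¹ * j * w * y⁻¹) * w⁻¹ := by group
          _ = w * y⁻¹ * w⁻¹ * j := by rw [h6]; group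
    exact Subgroup.mem_center_iff.1 (hbig _ h1 h2) y
  -- `y` moves the elements fixed by `t` modulo the centre only within the centre
  have hplus : ∀ k ∈ Kh, k⁻¹ * (t * k * t⁻¹) ∈ Zh → ⁅y, k⁆ ∈ Zh := by
    intro k hk hfix
    have hfixC : cj t (cj k P) = cj k P := by
      set z := k⁻¹ * (t * k * t⁻¹) with hz
      have hzP : cj z P = P := IsKA.cj_eq_of_commute hp hA ha ha1
        (show Commute z a from (Subgroup.mem_centralizer_iff.1 hfix a (hKh.le_A ha)).symm)
      have htP : cj t P = P := cj_eq_iff.2 (Subgroup.centralizer_le_normalizer _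
        (Subgroup.mem_centralizer_iff.2 fun c hc => (hP.2 c hc).eq))
      have e : t * k = k * z * t := by rw [hz]; group
      rw [← cj_mul, e, cj_mul, htP, cj_mul, hzP]
    have hkP := m.fixed_of_cj_eq hP (m.pg.conj P hP.1 k) hfixC
    -- `y` centralises `k a k⁻¹` and `a`
    have h1 : Commute y (k * a * k⁻¹) :=
      (Subgroup.mem_centralizer_iff.1 hyW _ ((le_sSup hkP : cj k P ≤ fixedSup D t) (conj_mem_cj ha))).symm
    set e := k⁻¹ * (y * k * y⁻¹) with he
    have heK : e ∈ Kh := mul_mem (inv_mem hk) (hKy ▸ conj_mem_cj hk)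
    have hea : Commute e a := by
      have h2 : y⁻¹ * a * y = a := by
        rw [mul_assoc, ← (hyP a ha).eq, inv_mul_cancel_left]
      show e * a = a * e
      calc e * a = k⁻¹ * (y * (k * (y⁻¹ * a * y) * k⁻¹) * y⁻¹) * (y * k * y⁻¹) := by
            rw [he]; group
        _ = a * e := by rw [h2, h1.eq, he]; group
    have h3 := m.pg.central_of_commute hP.1 hKh hHg heK ha ha1 hea
    have e' : ⁅y, k⁆ = k * e * k⁻¹ := by rw [he, commutatorElement_def]; group
    rw [e', show k * e = e * k from Subgroup.mem_centralizer_iff.1 h3 k (hKh.le_K hk),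
      mul_inv_cancel_right]
    exact h3
  -- `y` centralises `H`
  have hyHc : y ∈ Zh := by
    refine m.pg.mem_centralizer_of_trivial hP.1 hKh hHg hyP fun k hk => ?_
    -- `k² = (k kᵗ) ((kᵗ)⁻¹ k)`
    set k₁ := k * (t * k * t⁻¹) with hk₁
    set k₂ := (t * k * t⁻¹)⁻¹ * k with hk₂
    have htt := mul_self_of_ht ht
    have hts : t * (t * k * t⁻¹) * t⁻¹ = k := by
      calc t * (t * k * t⁻¹) * t⁻¹ = (t * t) * k * (t * t)⁻¹ := by group
        _ = k := by rw [htt]; group
    have h1 : ⁅y, k₁⁆ ∈ Zh := by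
      refine hplus k₁ (mul_mem hk (htK k hk)) ?_
      have e : k₁⁻¹ * (t * k₁ * t⁻¹) = ⁅(t * k * t⁻¹)⁻¹, k⁻¹⁆ := by
        calc k₁⁻¹ * (t * k₁ * t⁻¹)
            = k₁⁻¹ * ((t * k * t⁻¹) * (t * (t * k * t⁻¹) * t⁻¹)) := by rw [hk₁]; group
          _ = _ := by rw [hts, hk₁, commutatorElement_def]; group
      rw [e]
      exact hcK _ (inv_mem (htK k hk)) _ (inv_mem hk)
    have h2 : ⁅y, k₂⁆ ∈ Zh := by
      refine m.pg.commutator_mem_of_quadratic hQab hP.1 hKh hHg hyKw hyP hyH hVle hyV hquad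
        (k := k₂) ⟨mul_mem (inv_mem (htK k hk)) hk, ?_⟩
      have e : k₂ * (t * k₂ * t⁻¹) = 1 := by
        calc k₂ * (t * k₂ * t⁻¹)
            = k₂ * ((t * (t * k * t⁻¹) * t⁻¹)⁻¹ * (t * k * t⁻¹)) := by
              congr 1
              simp [hk₂, mul_assoc]
          _ = 1 := by rw [hts, hk₂]; group
      rw [e]
      exact one_mem _
    have h12 : ⁅y, k * k⁆ ∈ Zh := by
      have e : k₁ * k₂ = k * k := by rw [hk₁, hk₂]; group
      have e2 : ⁅y, k₁ * k₂⁆ = ⁅y, k₁⁆ * (k₁ * ⁅y, k₂⁆ * k₁⁻¹) := by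
        simp only [commutatorElement_def]; group
      rw [← e, e2, Subgroup.mem_centralizer_iff.1 h2 k₁ (hKh.le_K (mul_mem hk (htK k hk))),
        mul_inv_cancel_right]
      exact mul_mem h1 h2
    -- the elements moved only within the centre are closed under powers
    have hpow : ∀ j : ℕ, ⁅y, (k * k) ^ j⁆ ∈ Zh := by
      intro j
      induction j with
      | zero => rw [pow_zero, commutatorElement_one_right]; exact one_mem _
      | succ j ih =>
        have e2 : ⁅y, (k * k) ^ j * (k * k)⁆ =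
            ⁅y, (k * k) ^ j⁆ * ((k * k) ^ j * ⁅y, k * k⁆ * ((k * k) ^ j)⁻¹) := by
          simp only [commutatorElement_def]; group
        rw [pow_succ, e2, Subgroup.mem_centralizer_iff.1 h12 _
          (pow_mem (mul_mem (hKh.le_K hk) (hKh.le_K hk)) j), mul_inv_cancel_right]
        exact mul_mem ih h12
    obtain ⟨n, hn⟩ := hKh.pgroup ⟨k, hk⟩
    obtain ⟨j, hj⟩ : Odd (orderOf k) := ((hq.odd_of_ne_two m.pg.hq2).pow).of_dvd_nat
      (orderOf_dvd_of_pow_eq_one (by simpa using congrArg Subtype.val hn : k ^ q ^ n = 1))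
    have e : k = (k * k) ^ (j + 1) := by
      rw [← pow_two, ← pow_mul, show 2 * (j + 1) = orderOf k + 1 by omega, pow_succ,
        pow_orderOf_eq_one, one_mul]
    rw [e]
    exact hpow _
  refine hfinish (sSup {B | B ∈ D ∧ B ≤ Subgroup.centralizer ({y} : Set G)})
    (isGenBy_sSup fun _ h => h.1) (hproper y hyc)
    (sSup_le fun B' hB' => le_sSup ⟨hB'.1, fun b hb => ?_⟩) ?_
  · exact Subgroup.mem_centralizer_singleton_iff.2
      (Subgroup.mem_centralizer_iff.1 hyW b ((le_sSup hB' : B' ≤ fixedSup D t) hb))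
  · have hle : H ≤ sSup {B | B ∈ D ∧ B ≤ Subgroup.centralizer ({y} : Set G)} := by
      refine hHg.trans (sSup_le fun B' hB' => le_sSup ⟨hB'.1, fun b hb => ?_⟩)
      exact Subgroup.mem_centralizer_singleton_iff.2
        (Subgroup.mem_centralizer_iff.1 hyHc b (hB'.2 hb))
    exact hle hxH

/-- No involution centralises points in two classes modulo `O_q(G)`. -/
theorem false_of_good (m : Min G p q D F) (ht : orderOf t = 2) (hC : C ∈ fixedPts D t)
    {C' : Subgroup G} (hC' : C' ∈ fixedPts D t) (hout : ¬ C' ≤ Cfsg.pCore q G ⊔ C) : False := by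
  haveI := H19.pCore_normal q G
  haveI := Fact.mk m.pg.hq
  have hp := m.pg.hp; have hq := m.pg.hq; have hpq := m.pg.hpq
  have hAC := m.pg.card C hC.1
  have hR : ∀ A ∈ D, IsKA q (Cfsg.pCore q G ⊔ A) A (Cfsg.pCore q G) := fun A _ =>
    ⟨H19.pCore_isPGroup q, rfl, fun g _ => (Subgroup.normalizer_eq_top_iff.2
      (H19.pCore_normal q G)).ge (Subgroup.mem_top g)⟩
  have hall : ∀ P ∈ fixedPts D t, ¬ fixedSup D t ≤ Cfsg.pCore q G ⊔ P := by
    intro P hP hle
    refine hout ((le_sSup hC' : C' ≤ fixedSup D t).trans (hle.trans (le_of_eq ?_)))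
    symm
    refine Subgroup.eq_of_le_of_card_ge (sup_le le_sup_left ((le_sSup hC).trans hle)) ?_
    rw [(hR P hP.1).card_eq hp hq hpq (m.pg.card P hP.1), (hR C hC.1).card_eq hp hq hpq hAC]
  obtain ⟨a, ha, ha1⟩ := exists_gen hp hAC
  refine false_of_products_in_core (m.pg.normalClosure_eq_top m.gen hC.1 ha ha1) ht fun g => ?_
  set b := g * a * g⁻¹ with hb
  have hbB : b ∈ cj g C := conj_mem_cj ha
  by_cases hfix : cj g C ∈ fixedPts D t
  · refine ⟨1, b, m.fixedSup_le_core ht hC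
      ((le_sSup hfix : cj g C ≤ fixedSup D t) hbB), ?_⟩
    rw [one_mul, inv_one, mul_one, (hfix.2 b hbB).eq]
  obtain ⟨hne, hLt, -⟩ := m.exists_line_fixed ht hC (m.pg.conj C hC.1 g) hfix
  set L := cj g C ⊔ cj t (cj g C) with hL
  obtain ⟨Q, -, hQ⟩ := m.pg.line (m.pg.conj C hC.1 g) (m.pg.conj _ (m.pg.conj C hC.1 g) t)
    (Ne.symm hne)
  have hLodd : Odd (Nat.card L) := by
    rw [hQ.card_eq hp hq hpq (by rw [card_cj, hAC])]
    exact (m.odd_of_isPGroup hQ.pgroup).mul (hp.odd_of_ne_two m.pg.hp2)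
  -- the extension `L⟨t⟩`
  set E := L ⊔ Subgroup.zpowers t with hE
  have htn : Subgroup.zpowers t ≤ Subgroup.normalizer (L : Set G) :=
    Subgroup.zpowers_le.2 (cj_eq_iff.1 hLt)
  have hmemE : ∀ z, z ∈ E → z ∈ L ∨ z * t ∈ L := by
    intro z hz
    rw [← SetLike.mem_coe, hE, Subgroup.coe_mul_of_right_le_normalizer_left L _ htn] at hz
    obtain ⟨l, hl, w, hw, rfl⟩ := Set.mem_mul.1 hz
    obtain ⟨i, rfl⟩ := hw
    beta_reduce
    rcases Int.even_or_odd i with ⟨j, rfl⟩ | ⟨j, rfl⟩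
    · left
      rw [show j + j = 2 * j by ring, zpow_mul, zpow_two, mul_self_of_ht ht, one_zpow, mul_one]
      exact hl
    · right
      rw [zpow_add, zpow_one, zpow_mul, zpow_two, mul_self_of_ht ht, one_zpow, one_mul, mul_assoc,
        mul_self_of_ht ht, mul_one]
      exact hl
  have htL : t ∉ L := fun h => by
    have := hLodd.of_dvd_nat (ht ▸ Subgroup.orderOf_dvd_natCard L h)
    exact absurd this (by decide)
  set γ := b * t with hγ
  have hγL : γ ∉ L := fun h => htL (by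
    have := mul_mem (inv_mem ((le_sup_left : cj g C ≤ L) hbB)) h
    rwa [hγ, inv_mul_cancel_left] at this)
  have hγE : γ ∈ E := mul_mem (Subgroup.mem_sup_left ((le_sup_left : cj g C ≤ L) hbB))
    (Subgroup.mem_sup_right (Subgroup.mem_zpowers t))
  have hcardE : Nat.card E = Nat.card L * 2 := by
    rw [← ht, ← Nat.card_zpowers, ← Nat.card_prod]
    refine (Nat.card_congr (Equiv.ofBijective
      (fun z : L × Subgroup.zpowers t => (⟨z.1 * z.2, mul_mem (Subgroup.mem_sup_left z.1.2)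
        (Subgroup.mem_sup_right z.2.2)⟩ : E)) ⟨?_, ?_⟩)).symm
    · rintro ⟨l, w⟩ ⟨l', w'⟩ e
      have e1 : (l : G) * w = l' * w' := congrArg Subtype.val e
      have h2 : (w' : G) * (w : G)⁻¹ ∈ L := by
        have : (w' : G) * (w : G)⁻¹ = (l' : G)⁻¹ * l := by
          rw [eq_inv_mul_iff_mul_eq, ← mul_assoc, ← e1, mul_inv_cancel_right]
        rw [this]
        exact mul_mem (inv_mem l'.2) l.2
      have h3 : (w' : G) * (w : G)⁻¹ = 1 := by
        obtain ⟨i, hi⟩ := Subgroup.mem_zpowers_iff.1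
          (mul_mem w'.2 (inv_mem w.2) : (w' : G) * (w : G)⁻¹ ∈ Subgroup.zpowers t)
        rcases Int.even_or_odd i with ⟨j, rfl⟩ | ⟨j, rfl⟩
        · rw [← hi, show j + j = 2 * j by ring, zpow_mul, zpow_two, mul_self_of_ht ht, one_zpow]
        · rw [← hi, zpow_add, zpow_one, zpow_mul, zpow_two, mul_self_of_ht ht, one_zpow,
            one_mul] at h2
          exact absurd h2 htL
      have h4 : (w' : G) = w := mul_inv_eq_one.1 h3
      rw [h4] at e1
      exact Prod.ext (Subtype.ext (mul_right_cancel e1)) (Subtype.ext h4.symm)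
    · rintro ⟨z, hz⟩
      rcases hmemE z hz with h | h
      · exact ⟨(⟨z, h⟩, 1), Subtype.ext (mul_one z)⟩
      · exact ⟨(⟨z * t, h⟩, ⟨t, Subgroup.mem_zpowers t⟩), Subtype.ext (by
          show z * t * t = z
          rw [mul_assoc, mul_self_of_ht ht, mul_one])⟩
  -- the involution in `⟨γ⟩` is conjugate to `t` in `E`
  set s := γ ^ Nat.card L with hs
  have hγpow : ∀ j : ℕ, (γ ^ j ∈ L ↔ Even j) := by
    intro j
    induction j with
    | zero => simp
    | succ j ih =>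
      rw [Nat.even_add_one, pow_succ]
      constructor
      · intro h he
        exact hγL (by simpa using mul_mem (inv_mem (ih.2 he)) h)
      · intro he
        rcases hmemE _ (pow_mem hγE j) with h | h
        · exact absurd (ih.1 h) he
        · have h3 : t * γ ∈ L := by
            rw [hγ, ← mul_assoc]
            have := (Subgroup.mem_normalizer_iff.1 (htn (Subgroup.mem_zpowers t)) b).1
              ((le_sup_left : cj g C ≤ L) hbB)
            rwa [inv_eq_of_mul_eq_one_right (mul_self_of_ht ht)] at this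
          have := mul_mem h h3
          rwa [mul_assoc, ← mul_assoc t t, mul_self_of_ht ht, one_mul] at this
  have hs2 : orderOf s = 2 := by
    have h1 : s ∉ L := fun h => (Nat.not_even_iff_odd.2 hLodd) ((hγpow _).1 h)
    refine orderOf_eq_prime ?_ fun e => h1 (e ▸ one_mem _)
    rw [hs, ← pow_mul, ← hcardE]
    have := pow_card_eq_one' (x := (⟨γ, hγE⟩ : E))
    have h := congrArg Subtype.val this
    rwa [SubgroupClass.coe_pow, OneMemClass.coe_one] at h
  have hsE : s ∈ E := pow_mem hγE _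
  obtain ⟨l, hl, e⟩ : ∃ l ∈ L, s = l * t * l⁻¹ := by
    haveI := Fact.mk Nat.prime_two
    have key : ∀ w : E, orderOf (w : G) = 2 →
        ∃ S : Sylow 2 E, (S : Subgroup E) = Subgroup.zpowers w := by
      intro w hw
      have hc : Nat.card (Subgroup.zpowers w) = 2 := by
        rw [Nat.card_zpowers, ← Subgroup.orderOf_coe, hw]
      obtain ⟨S, hS⟩ := (IsPGroup.of_card (n := 1) (by rw [hc, pow_one]) :
        IsPGroup 2 (Subgroup.zpowers w)).exists_le_sylow
      refine ⟨S, (Subgroup.eq_of_le_of_card_ge hS ?_).symm⟩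
      obtain ⟨j, hj⟩ := S.isPGroup'.exists_card_eq
      have hd := Subgroup.card_subgroup_dvd_card (S : Subgroup E)
      rw [hj, hcardE] at hd
      rw [hj, hc]
      exact Nat.le_of_dvd two_pos ((Nat.coprime_two_left.2 hLodd).pow_left j |>.dvd_of_dvd_mul_left hd)
    obtain ⟨S, hS⟩ := key ⟨s, hsE⟩ hs2
    obtain ⟨S', hS'⟩ := key ⟨t, Subgroup.mem_sup_right (Subgroup.mem_zpowers t)⟩ ht
    obtain ⟨e', he'⟩ := MulAction.exists_smul_eq E S' S
    have hmem : (⟨(e' : G) * t * (e' : G)⁻¹,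
        mul_mem (mul_mem e'.2 (Subgroup.mem_sup_right (Subgroup.mem_zpowers t))) (inv_mem e'.2)⟩ : E)
        ∈ (S : Subgroup E) := by
      rw [← he', Sylow.coe_subgroup_smul]
      exact ⟨⟨t, Subgroup.mem_sup_right (Subgroup.mem_zpowers t)⟩,
        by rw [SetLike.mem_coe, hS']; exact Subgroup.mem_zpowers _, Subtype.ext (by simp)⟩
    rw [hS] at hmem
    obtain ⟨i, hi⟩ := hmem
    have hi' : s ^ i = (e' : G) * t * (e' : G)⁻¹ := by
      simpa using congrArg Subtype.val hi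
    have hs' : s = (e' : G) * t * (e' : G)⁻¹ := by
      rcases Int.even_or_odd i with ⟨j, rfl⟩ | ⟨j, rfl⟩
      · rw [show j + j = 2 * j by ring, zpow_mul, zpow_two, mul_self_of_ht hs2, one_zpow] at hi'
        have h5 : t = 1 := conj_eq_one_iff.1 hi'.symm
        rw [h5, orderOf_one] at ht
        exact absurd ht (by norm_num)
      · rwa [zpow_add, zpow_one, zpow_mul, zpow_two, mul_self_of_ht hs2, one_zpow, one_mul] at hi'
    rcases hmemE (e' : G) e'.2 with h | h
    · exact ⟨e', h, hs'⟩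
    · refine ⟨(e' : G) * t, h, ?_⟩
      rw [hs', mul_inv_rev, inv_eq_of_mul_eq_one_right (mul_self_of_ht ht),
        show (e' : G) * t * t * (t * (e' : G)⁻¹) = (e' : G) * (t * t) * t * (e' : G)⁻¹ by group,
        mul_self_of_ht ht, mul_one]
  refine ⟨l, t * (l⁻¹ * γ * l), m.line_mem_core ht hall ⟨C, hC⟩ (m.pg.conj C hC.1 g) hfix ?_ ?_, ?_⟩
  · rw [hγ, show t * (l⁻¹ * (b * t) * l) = (t * (l⁻¹ * b) * t⁻¹) * ((t * t) * l) by group,
      mul_self_of_ht ht, one_mul]
    exact mul_mem ((Subgroup.mem_normalizer_iff.1 (htn (Subgroup.mem_zpowers t)) _).1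
      (mul_mem (inv_mem hl) ((le_sup_left : cj g C ≤ L) hbB))) hl
  · have h1 : Commute γ s := (Commute.refl γ).pow_right _
    have h2 := h1.map (MulAut.conj l⁻¹).toMonoidHom
    have h3 : Commute (l⁻¹ * γ * l) t := by
      rw [e] at h2
      simpa [mul_assoc] using h2
    exact (Commute.refl t).mul_left h3
  · rw [← mul_assoc t t, mul_self_of_ht ht, one_mul]
    group

end Min

end Cfsg.Agent.H54.PairGen
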